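import Mathlib

set_option autoImplicit false

namespace Cfsg.Agent.Lib.Helper84

/-- all Sylow subgroups are commutative. -/
def AbSyl (G : Type*) [Group G] : Prop :=
  ∀ (p : ℕ) [Fact p.Prime] (P : Sylow p G), ∀ a ∈ P, ∀ b ∈ P, a * b = b * a

/-- every `p`-subgroup of a group with commutative Sylow subgroups is commutative. -/
theorem AbSyl.comm_of_isPGroup {G : Type*} [Group G] (h : AbSyl G) {p : ℕ} [Fact p.Prime]
    {Q : Subgroup G} (hQ : IsPGroup p Q) : ∀ a ∈ Q, ∀ b ∈ Q, a * b = b * a := by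
  obtain ⟨P, hP⟩ := hQ.exists_le_sylow
  intro a ha b hb
  exact h p P a (hP ha) b (hP hb)

/-- `AbSyl` passes to a group mapping injectively. -/
theorem AbSyl.of_injective {G K : Type*} [Group G] [Group K] (h : AbSyl G) (f : K →* G)
    (hf : Function.Injective f) : AbSyl K := by
  intro p _ P a ha b hb
  have hQ : IsPGroup p ((P : Subgroup K).map f) := P.2.map f
  have := h.comm_of_isPGroup hQ (f a) ⟨a, ha, rfl⟩ (f b) ⟨b, hb, rfl⟩
  apply hf
  rw [map_mul, map_mul, this]

/-- `AbSyl` passes to surjective images. -/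
theorem AbSyl.of_surjective {G K : Type*} [Group G] [Finite G] [Group K] (h : AbSyl G)
    (f : G →* K) (hf : Function.Surjective f) : AbSyl K := by
  intro p _ P a ha b hb
  obtain ⟨P₀, rfl⟩ := Sylow.mapSurjective_surjective hf p P
  have e : ((Sylow.mapSurjective hf P₀ : Sylow p K) : Subgroup K) = (P₀ : Subgroup G).map f :=
    Sylow.coe_mapSurjective hf P₀
  have ha' : a ∈ (P₀ : Subgroup G).map f := by rw [← e]; exact ha
  have hb' : b ∈ (P₀ : Subgroup G).map f := by rw [← e]; exact hb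
  clear ha hb
  rename' ha' => ha, hb' => hb
  obtain ⟨a₀, ha₀, rfl⟩ := ha
  obtain ⟨b₀, hb₀, rfl⟩ := hb
  rw [← map_mul, ← map_mul, h p P₀ a₀ ha₀ b₀ hb₀]

/-- a finite nilpotent group with commutative Sylow subgroups is commutative. -/
theorem AbSyl.comm_of_isNilpotent {G : Type*} [Group G] [Finite G] (h : AbSyl G)
    (hnil : Group.IsNilpotent G) : ∀ a b : G, a * b = b * a := by
  have htfae := Group.isNilpotent_of_finite_tfae (G := G)
  obtain ⟨e⟩ := (htfae.out 0 4).1 hnil
  intro a b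
  obtain ⟨x, rfl⟩ := e.surjective a
  obtain ⟨y, rfl⟩ := e.surjective b
  rw [← map_mul, ← map_mul]
  congr 1
  funext p P
  have : Fact (p : ℕ).Prime := ⟨Nat.prime_of_mem_primeFactors p.2⟩
  apply Subtype.ext
  have := h p P (x p P) (x p P).2 (y p P) (y p P).2
  simpa using this

end Cfsg.Agent.Lib.Helper84
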