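import Mathlib
import Cfsg.Prelude.Def_Transfer
import Cfsg.Agent.Lib.Helper03.NormalPComplement

/-!
K-S1423-B (keystone 142302, architect helper55): in a group with a normal `p`-complement, a Sylow `p`-subgroup `T`
satisfies `T ∩ H' = T'`.
-/

set_option autoImplicit false
universe u

namespace Cfsg.Agent.Lib.Helper84.BG1213
open Cfsg

/-- K-B -/
theorem mem_commutator_sylow_of_npc {H : Type u} [Group H] [Finite H] (p : ℕ) [Fact p.Prime]
    (h : HasNormalPComplement p H) (T : Sylow p H) (x : H) (hxT : x ∈ (T : Subgroup H)) (hx : x ∈ commutator H) :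
    x ∈ ⁅(T : Subgroup H), (T : Subgroup H)⁆ := by
  obtain ⟨N, hN, hc⟩ := (Cfsg.Agent.Lib.Helper03.hasNormalPComplement_iff T).1 h
  haveI := hN
  have hsup : N ⊔ (T : Subgroup H) = ⊤ := hc.sup_eq_top
  have hdisj : Disjoint N (T : Subgroup H) := hc.disjoint
  have hsurj : Function.Surjective (QuotientGroup.mk' N) := QuotientGroup.mk'_surjective N
  have hmapT : Subgroup.map (QuotientGroup.mk' N) (T : Subgroup H) = ⊤ := by
    have h1 : Subgroup.map (QuotientGroup.mk' N) (N ⊔ (T : Subgroup H)) = ⊤ := by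
      rw [hsup]; exact Subgroup.map_top_of_surjective _ hsurj
    rw [Subgroup.map_sup] at h1
    have h2 : Subgroup.map (QuotientGroup.mk' N) N = ⊥ := QuotientGroup.map_mk'_self N
    rw [h2, bot_sup_eq] at h1
    exact h1
  have hcomm : Subgroup.map (QuotientGroup.mk' N) ⁅(⊤ : Subgroup H), ⊤⁆ =
      Subgroup.map (QuotientGroup.mk' N) ⁅(T : Subgroup H), (T : Subgroup H)⁆ := by
    rw [Subgroup.map_commutator, Subgroup.map_commutator, hmapT,
      Subgroup.map_top_of_surjective _ hsurj]
  have hx' : (QuotientGroup.mk' N) x ∈ Subgroup.map (QuotientGroup.mk' N) ⁅(⊤ : Subgroup H), ⊤⁆ :=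
    Subgroup.mem_map_of_mem _ (by rwa [commutator_def] at hx)
  rw [hcomm] at hx'
  obtain ⟨y, hy, hyx⟩ := hx'
  have hyT : y ∈ (T : Subgroup H) := by
    have hle : ⁅(T : Subgroup H), (T : Subgroup H)⁆ ≤ (T : Subgroup H) :=
      Subgroup.commutator_le.2 (fun a ha b hb =>
        (T : Subgroup H).mul_mem ((T : Subgroup H).mul_mem ((T : Subgroup H).mul_mem ha hb)
          ((T : Subgroup H).inv_mem ha)) ((T : Subgroup H).inv_mem hb))
    exact hle hy
  have hmem : y⁻¹ * x ∈ N := by
    have := hyx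
    simp only [QuotientGroup.mk'_apply] at this
    exact QuotientGroup.eq.1 this
  have hmemT : y⁻¹ * x ∈ (T : Subgroup H) := (T : Subgroup H).mul_mem ((T : Subgroup H).inv_mem hyT) hxT
  have h1 : y⁻¹ * x = 1 := by
    have : y⁻¹ * x ∈ N ⊓ (T : Subgroup H) := ⟨hmem, hmemT⟩
    rw [hdisj.eq_bot] at this
    exact Subgroup.mem_bot.1 this
  have hxy : x = y := by
    have := congrArg (fun z => y * z) h1
    simpa using this
  rw [hxy]; exact hy

end Cfsg.Agent.Lib.Helper84.BG1213
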