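import Mathlib
import Cfsg.Agent.S1350
import Cfsg.Agent.S1405
import Cfsg.Agent.S1415
import Cfsg.Agent.S1417
import Cfsg.Agent.S1418
import Cfsg.Agent.S1423
import Cfsg.Agent.Lib.Helper31.BG12a
import Cfsg.Agent.Lib.Helper58.BG1217
import Cfsg.Agent.Lib.Helper13.BG12B
import Cfsg.Agent.Lib.Helper14.NilpHall

/-!
# Bender–Glauberman 13.1(a) in full (keystone K-S1428-T, `lemmaT`)

`M`, `H` maximal and not conjugate, `X ≤ M ∩ H` a `p`-subgroup with `p ∉ σ(M)` and `p ∉ τ₁(H)`.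
Then `X` centralizes `M_σ ∩ H`.
-/

set_option autoImplicit false
set_option linter.unusedSectionVars false
set_option linter.unusedVariables false

namespace Cfsg.Agent.Lib.Helper84.BG134

open Cfsg Cfsg.Agent.Lib.Helper55 Cfsg.Agent.Lib.Helper31 Cfsg.Agent.Lib.Helper71.BG10
  Cfsg.Agent.Lib.Helper71.BG11 Cfsg.Agent.Lib.Helper69.BG10 Cfsg.Agent.Lib.Helper13.BG12
  Cfsg.Agent.Lib.Helper31.BG12 Cfsg.Agent.Lib.Helper58.BG12
open scoped commutatorElement

variable {G : Type*} [Group G] [Finite G]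

/-- S1417 as `Hyp17`. -/
theorem hyp17_T (hG : IsMinSimpleOddOrder G) (L : Subgroup G) (hL : IsCoatom L) : Hyp17 L :=
  fun p _ hp A hA => Cfsg.Agent.S1417.result hG L hL p hp A hA

/-- S1418 as `Hyp18`. -/
theorem hyp18_T (hG : IsMinSimpleOddOrder G) (L : Subgroup G) (hL : IsCoatom L) : Hyp18 L :=
  fun E₁ hE₁ p _ hp A hA => Cfsg.Agent.S1418.result hG L hL E₁ hE₁ p hp A hA

/-- S1423 as `Hyp23`. -/
theorem hyp23_T (hG : IsMinSimpleOddOrder G) (L : Subgroup G) (hL : IsCoatom L) : Hyp23 L :=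
  fun q _ hq Y hYL hYc hY P =>
    (Cfsg.Agent.S1423.result hG L hL q hq Y hYL hYc P (Or.inr hY)).2.1

/-- Elements of coprime orders of a subgroup `C` whose image modulo the normal subgroup `N` is
nilpotent commute modulo `N`. -/
theorem commutatorElement_mem_of_nilpotent_map_T {H₀ : Type*} [Group H₀] (N : Subgroup H₀)
    [N.Normal] (C : Subgroup H₀)
    (hnil : Group.IsNilpotent ↥(C.map (QuotientGroup.mk' N))) {a b : H₀} (ha : a ∈ C)
    (hb : b ∈ C) (hcop : (orderOf a).Coprime (orderOf b)) : ⁅a, b⁆ ∈ N := by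
  have h1 : QuotientGroup.mk' N a ∈ C.map (QuotientGroup.mk' N) := ⟨a, ha, rfl⟩
  have h2 : QuotientGroup.mk' N b ∈ C.map (QuotientGroup.mk' N) := ⟨b, hb, rfl⟩
  have hcop' : (orderOf (QuotientGroup.mk' N a)).Coprime (orderOf (QuotientGroup.mk' N b)) :=
    Nat.Coprime.of_dvd (orderOf_map_dvd _ _) (orderOf_map_dvd _ _) hcop
  have hc := Cfsg.Agent.Lib.Helper14.commute_of_mem_nilpotent hnil h1 h2 hcop'
  rw [← QuotientGroup.ker_mk' N, MonoidHom.mem_ker, map_commutatorElement,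
    commutatorElement_eq_one_iff_mul_comm]
  exact hc

/-- The nilpotent trick: two elements of `H'` of coprime orders commute modulo `H_α`
(`H' H_α / H_α` is nilpotent, S1405). -/
theorem commutator_mem_alphaCore_T (hG : IsMinSimpleOddOrder G) {H : Subgroup G}
    (hH : IsCoatom H) {x y : G} (hx : x ∈ ⁅H, H⁆) (hy : y ∈ ⁅H, H⁆)
    (hcop : (orderOf x).Coprime (orderOf y)) : ⁅x, y⁆ ∈ alphaCore H := by
  have hnil := (Cfsg.Agent.S1405.result hG H hH).2.2.2.2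
  have hxH : x ∈ H := commutator_self_le H hx
  have hyH : y ∈ H := commutator_self_le H hy
  have hx' : (⟨x, hxH⟩ : ↥H) ∈ commutator ↥H := mem_commutator_subtype' hx hxH
  have hy' : (⟨y, hyH⟩ : ↥H) ∈ commutator ↥H := mem_commutator_subtype' hy hyH
  have hox : orderOf (⟨x, hxH⟩ : ↥H) = orderOf x := Subgroup.orderOf_mk x hxH
  have hoy : orderOf (⟨y, hyH⟩ : ↥H) = orderOf y := Subgroup.orderOf_mk y hyH
  have hmem : ⁅(⟨x, hxH⟩ : ↥H), ⟨y, hyH⟩⁆ ∈ piCore (alpha H) ↥H :=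
    commutatorElement_mem_of_nilpotent_map_T (piCore (alpha H) ↥H) (commutator ↥H) hnil hx' hy'
      (by rw [hox, hoy]; exact hcop)
  show ⁅x, y⁆ ∈ (piCore (alpha H) ↥H).map H.subtype
  rw [Subgroup.mem_map]
  exact ⟨⁅(⟨x, hxH⟩ : ↥H), ⟨y, hyH⟩⁆, hmem, by simp [commutatorElement_def]⟩

/-- **BG 13.1(a)** in full.  `M`, `H` maximal, not conjugate; `X ≤ M ∩ H` a `p`-subgroup,
`p ∉ σ(M)`, `p ∉ τ₁(H)`.  Then `X` centralizes `M_σ ∩ H`. -/
theorem lemmaT (hG : IsMinSimpleOddOrder G) {M H : Subgroup G} (hM : IsCoatom M) (hH : IsCoatom H)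
    (hnc : ∀ g : G, cj g M ≠ H) {p : ℕ} [Fact p.Prime] (hpM : p ∉ sigma M) (hp1 : p ∉ tau1 H)
    {X : Subgroup G} (hX : IsPGroup p X) (hXM : X ≤ M) (hXH : X ≤ H) :
    sigmaCore M ⊓ H ≤ Subgroup.centralizer (X : Set G) := by
  by_contra hne
  have hpp : p.Prime := Fact.out
  set K : Subgroup G := sigmaCore M ⊓ H with hKdef
  have hKσ : K ≤ sigmaCore M := inf_le_left
  have hKH : K ≤ H := inf_le_right
  have hXK : X ≤ Subgroup.normalizer (K : Set G) := by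
    intro s hs
    have h1 := Subgroup.mem_normalizer_iff.mp (le_normalizer_sigmaCore M (hXM hs))
    have h2 := Subgroup.mem_normalizer_iff.mp (Subgroup.le_normalizer (hXH hs))
    rw [Subgroup.mem_normalizer_iff]
    intro c
    rw [hKdef, Subgroup.mem_inf, Subgroup.mem_inf, h1 c, h2 c]
  have hnc' : ∀ g : G, cj g H ≠ M := by
    intro g hg
    apply hnc g⁻¹
    rw [← hg, cj_inv_cj]
  have h17 := hyp17_T hG
  have h18 := hyp18_T hG
  have h23 := hyp23_T hG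
  -- `X ≠ 1`
  have hX1 : X ≠ ⊥ := by
    intro h
    apply hne
    rw [h]
    intro k _
    rw [Subgroup.mem_centralizer_iff]
    intro x hx
    have : x = 1 := by simpa using hx
    rw [this, one_mul, mul_one]
  have hpX : p ∣ Nat.card X := by
    obtain ⟨k, hk⟩ := hX.exists_card_eq
    rcases Nat.eq_zero_or_pos k with h0 | h0
    · exfalso
      rw [h0, pow_zero] at hk
      exact hX1 (Subgroup.card_eq_one.mp hk)
    · rw [hk]; exact dvd_pow_self p h0.ne'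
  have hpHc : p ∣ Nat.card H := hpX.trans (Subgroup.card_dvd_of_le hXH)
  -- coprimality
  have hpK : ¬ p ∣ Nat.card K := fun h =>
    hpM (sigmaCore_pi hG hM hpp (h.trans (Subgroup.card_dvd_of_le hKσ)))
  have hcop : (Nat.card X).Coprime (Nat.card K) := by
    obtain ⟨k, hk⟩ := hX.exists_card_eq
    rw [hk]
    exact Nat.Coprime.pow_left k ((Nat.Prime.coprime_iff_not_dvd hpp).mpr hpK)
  have hCS : ⁅K, X⁆ ≤ K := by
    rw [Subgroup.commutator_le]
    intro c hc s hs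
    have h1 : s * c⁻¹ * s⁻¹ ∈ K :=
      ((Subgroup.mem_normalizer_iff.mp (hXK hs)) c⁻¹).mp (K.inv_mem hc)
    have : ⁅c, s⁆ = c * (s * c⁻¹ * s⁻¹) := by
      rw [commutatorElement_def]; group
    rw [this]
    exact K.mul_mem hc h1
  -- case `p ∈ σ(H)`
  by_cases hpH : p ∈ sigma H
  · exact no_sigma_overgroup hG hM hpM hKσ hX hXK hne hH (h23 H hH) hKH hXH hpH
  have hHall := (Cfsg.Agent.S1350.result hG H hH).1
  have hr2 : PRankLE p 2 ↥H := by
    by_contra h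
    exact hpH (mem_sigma_of_not_pRankLE_two hG hH hpp h)
  have hXσ : ∀ r : ℕ, r.Prime → r ∣ Nat.card X → r ∉ sigma H := by
    intro r hr hrd
    obtain ⟨k, hk⟩ := hX.exists_card_eq
    rw [hk] at hrd
    have : r = p := (Nat.prime_dvd_prime_iff_eq hr hpp).mp (hr.dvd_of_dvd_pow hrd)
    rw [this]; exact hpH
  by_cases hr1 : PRankLE p 1 ↥H
  · -- case `p ∈ τ₃(H)`
    have hpd : p ∣ Nat.card ↥⁅H, H⁆ := by
      by_contra h
      exact hp1 ⟨hpp, hpH, hpHc, h, hr1⟩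
    have hτ3 : p ∈ tau3 H := ⟨hpp, hpH, hpd, hr1⟩
    obtain ⟨E₁, hE₁, hXE₁⟩ := exists_complIn_ge hG hH hHall hXH hXσ
    have hE₁top : E₁ ≠ ⊤ := fun h => hH.1 (top_le_iff.mp (h ▸ hE₁.1))
    have : Group.IsSolvable ↥E₁ := ms_solvable hG hE₁top
    have hXτ : ∀ r : ℕ, r.Prime → r ∣ Nat.card (X.subgroupOf E₁) → r ∈ tau3 H := by
      intro r hr hrd
      rw [Nat.card_congr (Subgroup.subgroupOfEquivOfLe hXE₁).toEquiv] at hrd
      obtain ⟨k, hk⟩ := hX.exists_card_eq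
      rw [hk] at hrd
      have : r = p := (Nat.prime_dvd_prime_iff_eq hr hpp).mp (hr.dvd_of_dvd_pow hrd)
      rw [this]; exact hτ3
    obtain ⟨L, hXL, hL1, hL2⟩ := exists_hall_ge (tau3 H) (X.subgroupOf E₁) hXτ
    have hE₃ : IsPiHallOf (tau3 H) (L.map E₁.subtype) E₁ := by
      refine ⟨Subgroup.map_subtype_le _, ?_, ?_⟩
      · intro r hr hrd
        rw [Subgroup.card_map_of_injective E₁.subtype_injective] at hrd
        exact hL1 r hr hrd
      · intro r hr hrτ hrd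
        refine hL2 r hr ?_ hrτ
        have e : (L.map E₁.subtype).subgroupOf E₁ = L :=
          Subgroup.comap_map_eq_self_of_injective E₁.subtype_injective L
        have : (L.map E₁.subtype).relIndex E₁ = L.index := by
          unfold Subgroup.relIndex
          rw [e]
        rwa [this] at hrd
    obtain ⟨-, hE₃c, -⟩ := (Cfsg.Agent.S1415.result hG H hH E₁ hE₁).2.2 _ hE₃
    have hXE₃ : X ≤ L.map E₁.subtype := by
      intro x hx
      exact ⟨⟨x, hXE₁ hx⟩, hXL (Subgroup.mem_subgroupOf.mpr hx), rfl⟩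
    have hXH' : X ≤ ⁅H, H⁆ :=
      hXE₃.trans (hE₃c.trans (Subgroup.commutator_mono hE₁.1 hE₁.1))
    apply hne
    refine Cfsg.Agent.Lib.Helper32.le_centralizer_of_stable K ⁅K, X⁆ X le_rfl ?_ hCS hcop
    intro y hy
    rw [Subgroup.mem_centralizer_iff]
    intro x hx
    have hyK : y ∈ K := hCS hy
    have hyH' : y ∈ ⁅H, H⁆ := Subgroup.commutator_mono hKH hXH hy
    have hxH' : x ∈ ⁅H, H⁆ := hXH' hx
    have hcopxy : (orderOf x).Coprime (orderOf y) :=
      Nat.Coprime.of_dvd (Subgroup.orderOf_dvd_natCard X hx) (Subgroup.orderOf_dvd_natCard K hyK)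
        hcop
    have h1 : ⁅x, y⁆ ∈ alphaCore H := commutator_mem_alphaCore_T hG hH hxH' hyH' hcopxy
    have h2 : ⁅x, y⁆ ∈ sigmaCore M := by
      have h3 : x * y * x⁻¹ ∈ K := (Subgroup.mem_normalizer_iff.mp (hXK hx) y).mp hyK
      have e : ⁅x, y⁆ = (x * y * x⁻¹) * y⁻¹ := by rw [commutatorElement_def]
      rw [e]; exact hKσ (K.mul_mem h3 (K.inv_mem hyK))
    have h3 : ⁅x, y⁆ ∈ alphaCore H ⊓ sigmaCore M := ⟨h1, h2⟩
    rw [alphaCore_inf_sigmaCore hG hH hM hnc', Subgroup.mem_bot] at h3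
    exact commutatorElement_eq_one_iff_mul_comm.mp h3
  · -- case `p ∈ τ₂(H)`
    have hτ : p ∈ tau2 H := ⟨hpp, hpH, hr2, hr1⟩
    obtain ⟨A₀, hA₀M, hA₀e, hA₀c⟩ := exists_elemAb_sq_of_tau2 hτ
    have hnil := (h17 H hH p hτ A₀ ⟨hA₀M, hA₀e, hA₀c⟩).1
    have hKX : K ⊔ X ≤ H := sup_le hKH hXH
    have hKXσ : ∀ r : ℕ, r.Prime → r ∣ Nat.card ↥(K ⊔ X) → r ∉ sigma H := by
      intro r hr hrd
      have h1 := hrd.trans (Cfsg.Agent.Lib.Helper29.card_sup_dvd_of_le_normalizer K X hXK)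
      rcases (Nat.Prime.dvd_mul hr).mp h1 with h2 | h2
      · intro hrH
        have hrM : r ∈ sigma M :=
          sigmaCore_pi hG hM hr (h2.trans (Subgroup.card_dvd_of_le hKσ))
        exact sigma_sigma_disjoint hG hH hM hnc' hnil hrH hrM
      · exact hXσ r hr h2
    obtain ⟨E₁, hE₁, hKE₁⟩ := exists_complIn_ge hG hH hHall hKX hKXσ
    obtain ⟨A, hAE₁, hAe, hAc⟩ := exists_elemAb_sq_le_compl hG hH hHall hτ hE₁
    have hE₁N := (h18 H hH E₁ hE₁ p hτ A ⟨hAE₁, hAe, hAc⟩).1.1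
    have hA1 : A ≠ ⊥ := by
      intro h
      rw [h, Subgroup.card_bot] at hAc
      have := Nat.one_lt_pow (n := 2) (by norm_num) hpp.one_lt
      omega
    have hAtop : A ≠ ⊤ := ms_pgroup_ne_top hG (isPGroup_of_pow_eq_one hAe.2)
    obtain ⟨M₂, hM₂, hNM₂⟩ := ms_exists_coatom_ge (ms_normalizer_ne_top hG hA1 hAtop)
    have hp₂ : p ∈ sigma M₂ :=
      mem_sigma_of_normalizer_elemAb_le hG hM₂ (h17 M₂ hM₂) hAe hAc hNM₂
    have hKM₂ : K ⊔ X ≤ M₂ := hKE₁.trans (hE₁N.trans hNM₂)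
    exact no_sigma_overgroup hG hM hpM hKσ hX hXK hne hM₂ (h23 M₂ hM₂)
      (le_sup_left.trans hKM₂) (le_sup_right.trans hKM₂) hp₂

end Cfsg.Agent.Lib.Helper84.BG134
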