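import Mathlib
import Cfsg.Agent.Lib.Helper55.SylowIn
import Cfsg.Agent.S0024
import Cfsg.Agent.S0025

/-!
# K-U2 (helper84, for helper15's pack S1430 / S1431 = BG 14.2): coprime action and centralizers

`K` acts coprimely on `N`, `S` a `K`-invariant Sylow `q`-subgroup of `N`, `q ∣ |C_N(K)|`:
then `C_S(K) ≠ 1`.
-/

set_option autoImplicit false

namespace Cfsg.Agent.Lib.Helper84.BG142

open Cfsg Cfsg.Agent.Lib.Helper55

variable {G : Type*} [Group G] [Finite G]

/-- KEYSTONE 143033 K-U2. -/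
theorem sylow_inf_cent_ne_bot {N K S : Subgroup G} (hKN : K ≤ Subgroup.normalizer (N : Set G))
    (hcop : (Nat.card K).Coprime (Nat.card N)) (hsolv : Group.IsSolvable K ∨ Group.IsSolvable N)
    {q : ℕ} [Fact q.Prime] (hS : IsSylowIn q N S) (hKS : K ≤ Subgroup.normalizer (S : Set G))
    (hq : q ∣ Nat.card ↥(N ⊓ Subgroup.centralizer (K : Set G))) :
    S ⊓ Subgroup.centralizer (K : Set G) ≠ ⊥ := by
  classical
  obtain ⟨x, hx⟩ := exists_prime_orderOf_dvd_card' q hq
  have hxN : (x : G) ∈ N := (Subgroup.mem_inf.mp x.2).1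
  have hxC : (x : G) ∈ Subgroup.centralizer (K : Set G) := (Subgroup.mem_inf.mp x.2).2
  have hxord : orderOf (x : G) = q := by rw [Subgroup.orderOf_coe]; exact hx
  have hx1 : (x : G) ≠ 1 := by
    intro h
    rw [h, orderOf_one] at hxord
    exact (Fact.out : q.Prime).one_lt.ne hxord
  have hQN : Subgroup.zpowers (x : G) ≤ N := Subgroup.zpowers_le.mpr hxN
  have hQp : IsPGroup q (Subgroup.zpowers (x : G)) :=
    IsPGroup.of_card (n := 1) (by rw [Nat.card_zpowers, hxord, pow_one])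
  have hQC : Subgroup.zpowers (x : G) ≤ Subgroup.centralizer (K : Set G) :=
    Subgroup.zpowers_le.mpr hxC
  have hKQ : K ≤ Subgroup.normalizer (Subgroup.zpowers (x : G) : Set G) := by
    intro k hk
    rw [Subgroup.mem_normalizer_iff]
    intro y
    have hcomm : ∀ z ∈ Subgroup.zpowers (x : G), k * z * k⁻¹ = z := by
      intro z hz
      have := (Subgroup.mem_centralizer_iff.mp (hQC hz)) k hk
      rw [this, mul_inv_cancel_right]
    constructor
    · intro hy
      rw [hcomm y hy]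
      exact hy
    · intro hy
      have h1 := hcomm _ hy
      have h2 : k * y * k⁻¹ = y := by
        have h3 : k * (k * y * k⁻¹) * k⁻¹ = k * y * k⁻¹ := h1
        have h4 : k * y * k⁻¹ = k⁻¹ * (k * (k * y * k⁻¹) * k⁻¹) * k := by group
        rw [h3] at h4
        rw [h4]
        group
      rw [← h2]
      exact hy
  obtain ⟨P, hQP, hKP⟩ :=
    Cfsg.Agent.S0025.result K N hKN hcop hsolv q (Subgroup.zpowers (x : G)) hQN hQp hKQ
  have hKS' : K ≤ Subgroup.normalizer
      (((hS.toSylow : Sylow q N) : Subgroup N).map N.subtype : Set G) := by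
    rw [hS.map_toSylow]
    exact hKS
  obtain ⟨c, hcC, hcP⟩ :=
    Cfsg.Agent.S0024.result K N hKN hcop hsolv q P hS.toSylow hKP hKS'
  -- `x ∈ P.map`, so `c x c⁻¹ ∈ S`
  obtain ⟨x₀, hx₀P, hx₀⟩ := hQP (Subgroup.mem_zpowers (x : G))
  have h1 : MulAut.conj c • x₀ ∈ ((MulAut.conj c • P : Sylow q N) : Subgroup N) := by
    rw [Sylow.pointwise_smul_def]
    exact Subgroup.smul_mem_pointwise_smul _ _ _ hx₀P
  rw [hcP, hS.coe_toSylow, Subgroup.mem_subgroupOf] at h1
  have h2 : ((MulAut.conj c • x₀ : N) : G) = (c : G) * (x : G) * (c : G)⁻¹ := by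
    rw [MulAut.smul_def, MulAut.conj_apply]
    push_cast
    rw [← hx₀]
    rfl
  rw [h2] at h1
  intro hbot
  have h3 : (c : G) * (x : G) * (c : G)⁻¹ ∈ S ⊓ Subgroup.centralizer (K : Set G) :=
    Subgroup.mem_inf.mpr ⟨h1, Subgroup.mul_mem _ (Subgroup.mul_mem _ hcC hxC)
      (Subgroup.inv_mem _ hcC)⟩
  rw [hbot, Subgroup.mem_bot] at h3
  apply hx1
  have h4 : (x : G) = (c : G)⁻¹ * ((c : G) * (x : G) * (c : G)⁻¹) * (c : G) := by group
  rw [h4, h3]
  group

end Cfsg.Agent.Lib.Helper84.BG142
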