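/-
K-1366-C1 (keystone 136603, architect helper71, pack S1366 + S1368 + S1351): `home_sigma_inf`
(parallel hand, helper84).
-/
import Mathlib
import Cfsg.Agent.Lib.Helper71.BG1366Defs
import Cfsg.Agent.Lib.Helper15.BG142Defs
import Cfsg.Agent.Lib.Helper55.Basic
import Cfsg.Agent.Lib.Helper64.BG14K
import Cfsg.Agent.Lib.Helper71.BG11a

set_option autoImplicit false
set_option linter.unusedVariables false

namespace Cfsg.Agent.Lib.Helper84.BG1366

open Cfsg Subgroup Cfsg.Agent.Lib.Helper55 Cfsg.Agent.Lib.Helper11.BG14D Cfsg.Agent.Lib.Helper11.BG144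
  Cfsg.Agent.Lib.Helper31.BG147 Cfsg.Agent.Lib.Helper71.BG1366

variable {G : Type*} [Group G] [Finite G]

/-- a non-trivial finite subgroup has an element of prime order -/
theorem c1_exists_prime_orderOf {K : Subgroup G} (hK1 : K ≠ ⊥) :
    ∃ p : ℕ, p.Prime ∧ p ∣ Nat.card K ∧ ∃ k ∈ K, orderOf k = p := by
  have hcard : Nat.card K ≠ 1 := by
    intro h
    exact hK1 (Subgroup.card_eq_one.mp h)
  obtain ⟨p, hp, hpK⟩ := Nat.exists_prime_and_dvd hcard
  have : Fact p.Prime := ⟨hp⟩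
  obtain ⟨k, hk⟩ := exists_prime_orderOf_dvd_card' (G := K) p hpK
  refine ⟨p, hp, hpK, (k : G), k.2, ?_⟩
  rw [Subgroup.orderOf_coe]
  exact hk

/-- `K* ≠ 1` for a `P`-pair. -/
theorem c1_Ks_ne_bot (hG : IsMinSimpleOddOrder G) (h30 : H1430 G) {M K : Subgroup G} (hM : IsCoatom M)
    (hK : IsPiHallOf (kappa M) K M) (hK1 : K ≠ ⊥) : Ks M K ≠ ⊥ := by
  obtain ⟨h1, -, -⟩ := h30 M hM K hK hK1
  obtain ⟨p, hp, hpK, k, hkK, hko⟩ := c1_exists_prime_orderOf hK1
  have hpκ : p ∈ kappa M := hK.2.1 p hp hpK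
  have hk1 : k ≠ 1 := by
    intro h
    rw [h, orderOf_one] at hko
    exact hp.one_lt.ne hko
  have hPK : zpowers k ≤ K := zpowers_le.mpr hkK
  have hPc : Nat.card (zpowers k) = p := by rw [Nat.card_zpowers, hko]
  have hne := Cfsg.Agent.Lib.Helper64.BG14.cent_ne_bot_of_mem_kappa hG hM hpκ (hPK.trans hK.1) hPc
  have hle : sigmaCore M ⊓ centralizer ((zpowers k : Subgroup G) : Set G) ≤
      sigmaCore M ⊓ centralizer ({k} : Set G) :=
    inf_le_inf_left _ (centralizer_le (Set.singleton_subset_iff.mpr (mem_zpowers k)))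
  rw [h1 k hkK hk1] at hle
  intro hbot
  apply hne
  rw [eq_bot_iff]
  exact hle.trans hbot.le

/-- `J_σ ⊓ M_σ = 1` when `σ(M) ∩ σ(J) = ∅`. -/
theorem c1_sigmaCore_inf_bot (hG : IsMinSimpleOddOrder G) {M J : Subgroup G} (hM : IsCoatom M)
    (hJ : IsCoatom J) (hdis : ∀ r : ℕ, r ∈ sigma M → r ∉ sigma J) :
    sigmaCore J ⊓ sigmaCore M = ⊥ := by
  rw [← Subgroup.card_eq_one]
  by_contra hne
  obtain ⟨r, hr, hrd⟩ := Nat.exists_prime_and_dvd hne
  have h1 : r ∈ sigma J := Cfsg.Agent.Lib.Helper71.BG11.sigmaCore_pi hG hJ hr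
    (hrd.trans (Subgroup.card_dvd_of_le inf_le_left))
  have h2 : r ∈ sigma M := Cfsg.Agent.Lib.Helper71.BG11.sigmaCore_pi hG hM hr
    (hrd.trans (Subgroup.card_dvd_of_le inf_le_right))
  exact hdis r h2 h1

/-- **KEYSTONE 136603  K-1366-C1** `home_sigma_inf`, exact spec signature. -/
theorem home_sigma_inf (hG : IsMinSimpleOddOrder G) (h30 : H1430 G) (h31 : H1431 G) {M K X J KJ : Subgroup G}
    (hp : PPair M K) (hXK : X ≤ K) (hXc : (Nat.card X).Prime) (hJ : IsCoatom J)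
    (hXJ : X ≤ sigmaCore J) (hdis : ∀ r : ℕ, r ∈ sigma M → r ∉ sigma J)
    (hZJ : K ⊔ Ks M K ≤ J) (hpj : PPair J KJ) (hKs : Ks M K ≤ KJ) :
    sigmaCore J ⊓ M = Ks J KJ ∧ KJ ⊔ Ks J KJ ≤ M ⊓ J ∧ K ⊔ Ks M K ≤ KJ ⊔ Ks J KJ := by
  obtain ⟨hM, hK, hK1⟩ := hp
  obtain ⟨-, hKJ, hKJ1⟩ := hpj
  have hKsne : Ks M K ≠ ⊥ := c1_Ks_ne_bot hG h30 hM hK hK1
  obtain ⟨q, hq, hqd, y, hyKs, hyo⟩ := c1_exists_prime_orderOf hKsne
  have hy1 : y ≠ 1 := by
    intro h
    rw [h, orderOf_one] at hyo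
    exact hq.one_lt.ne hyo
  have hYKs : zpowers y ≤ Ks M K := zpowers_le.mpr hyKs
  have hYc : (Nat.card (zpowers y)).Prime := by rw [Nat.card_zpowers, hyo]; exact hq
  have hY1 : zpowers y ≠ ⊥ := by
    intro h
    rw [zpowers_eq_bot] at h
    exact hy1 h
  have hKsM : Ks M K ≤ M := inf_le_left.trans (Cfsg.Agent.Lib.Helper71.BG11.sigmaCore_le M)
  -- `N_G(Y) ≤ M`
  have hNM : normalizer ((zpowers y : Subgroup G) : Set G) ≤ M := by
    intro n hn
    by_contra hnM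
    have h := (h31 M hM K hK hK1).1 n hnM
    apply hY1
    rw [eq_bot_iff, ← h]
    refine le_inf hYKs ?_
    intro x hx
    show x ∈ Cfsg.Agent.Lib.Helper55.cj n M
    rw [Cfsg.Agent.Lib.Helper55.mem_cj]
    have hn' := inv_mem hn
    have h2 := (mem_normalizer_iff.mp hn' x).mp hx
    rw [inv_inv] at h2
    exact hKsM (hYKs h2)
  have hYKJ : zpowers y ≤ KJ := hYKs.trans hKs
  obtain ⟨h1J, -, h3J⟩ := h30 J hJ KJ hKJ hKJ1
  have hZJeq : J ⊓ normalizer ((zpowers y : Subgroup G) : Set G) = KJ ⊔ Ks J KJ :=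
    (h3J (zpowers y) hYKJ hYc).1
  have hZJle : KJ ⊔ Ks J KJ ≤ M ⊓ J := by
    rw [← hZJeq]
    exact le_inf (inf_le_right.trans hNM) inf_le_left
  have hbot := c1_sigmaCore_inf_bot hG hM hJ hdis
  have hyJ : y ∈ J := hKJ.1 (hKs hyKs)
  have hyσ : y ∈ sigmaCore M := (mem_inf.mp hyKs).1
  have hD : sigmaCore J ⊓ M ≤ Ks J KJ := by
    intro d hd
    obtain ⟨hdJ, hdM⟩ := mem_inf.mp hd
    have hc : d * y * d⁻¹ * y⁻¹ ∈ sigmaCore J ⊓ sigmaCore M := by
      refine mem_inf.mpr ⟨?_, ?_⟩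
      · have h1 : y * d⁻¹ * y⁻¹ ∈ sigmaCore J :=
          (mem_normalizer_iff.mp (Cfsg.Agent.Lib.Helper71.BG11.le_normalizer_sigmaCore J hyJ) d⁻¹).mp
            (inv_mem hdJ)
        have e : d * y * d⁻¹ * y⁻¹ = d * (y * d⁻¹ * y⁻¹) := by group
        rw [e]
        exact mul_mem hdJ h1
      · have h1 : d * y * d⁻¹ ∈ sigmaCore M :=
          (mem_normalizer_iff.mp (Cfsg.Agent.Lib.Helper71.BG11.le_normalizer_sigmaCore M hdM) y).mp hyσ
        exact mul_mem h1 (inv_mem hyσ)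
    rw [hbot, mem_bot] at hc
    have hcomm : d * y = y * d := by
      calc d * y = (d * y * d⁻¹ * y⁻¹) * (y * d) := by group
        _ = y * d := by rw [hc, one_mul]
    have hmem : d ∈ sigmaCore J ⊓ centralizer ({y} : Set G) :=
      mem_inf.mpr ⟨hdJ, mem_centralizer_singleton_iff.mpr hcomm⟩
    rw [h1J y (hKs hyKs) hy1] at hmem
    exact hmem
  refine ⟨le_antisymm hD (le_inf inf_le_left (le_sup_right.trans (hZJle.trans inf_le_left))),
    hZJle, ?_⟩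
  rw [← hZJeq]
  refine le_inf hZJ (sup_le ?_ ?_)
  · intro k hk
    have hkx : ∀ x ∈ zpowers y, k * x * k⁻¹ = x := fun x hx => by
      have h := mem_centralizer_iff.mp (mem_inf.mp (hYKs hx)).2 k hk
      rw [h, mul_inv_cancel_right]
    rw [mem_normalizer_iff]
    intro x
    constructor
    · intro hx
      rw [hkx x hx]
      exact hx
    · intro hx
      have h2 := hkx _ hx
      have h3 : k⁻¹ * (k * (k * x * k⁻¹) * k⁻¹) * k = k⁻¹ * (k * x * k⁻¹) * k := by rw [h2]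
      have e1 : k⁻¹ * (k * (k * x * k⁻¹) * k⁻¹) * k = k * x * k⁻¹ := by group
      have e2 : k⁻¹ * (k * x * k⁻¹) * k = x := by group
      rw [e1, e2] at h3
      rw [← h3]
      exact hx
  · have h4 : Ks M K ≤ J ⊓ normalizer ((zpowers y : Subgroup G) : Set G) := by
      rw [hZJeq]
      exact hKs.trans le_sup_left
    exact h4.trans inf_le_right

end Cfsg.Agent.Lib.Helper84.BG1366
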