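/-
K-1366-H (keystone 136609, architect helper71, pack S1366 + S1368 + S1351): `count_false`, the pure finite counting
contradiction of BG Theorem 14.7 (parallel hand, helper84).
-/
import Mathlib
import Cfsg.Agent.Lib.Helper71.BG1366Defs
import Cfsg.Agent.Lib.Helper15.BG142Defs
import Cfsg.Agent.Lib.Helper55.Basic
import Cfsg.Agent.Lib.Helper67.BG147C3

set_option autoImplicit false
set_option linter.unusedVariables false

namespace Cfsg.Agent.Lib.Helper84.BG1366

open Cfsg Subgroup Cfsg.Agent.Lib.Helper55 Cfsg.Agent.Lib.Helper11.BG14D Cfsg.Agent.Lib.Helper11.BG144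
  Cfsg.Agent.Lib.Helper31.BG147 Cfsg.Agent.Lib.Helper71.BG1366

variable {G : Type*} [Group G] [Finite G]

/-- **KEYSTONE 136609  K-1366-H** `count_false`, exact spec signature. -/
theorem count_false {ι : Type*} (s : Finset ι) (Z : Subgroup G) (W : Set G) (hWZ : W ⊆ (Z : Set G))
    (hnorm : ∀ n ∈ Z, ∀ w ∈ W, n * w * n⁻¹ ∈ W)
    (hTI : ∀ g : G, ∀ w ∈ W, g * w * g⁻¹ ∈ W → g ∈ Z)
    (T : ι → Set G) (c : ι → ℕ)
    (hdisj : ∀ i ∈ s, ∀ j ∈ s, i ≠ j → Disjoint (T i) (T j))
    (hdisjW : ∀ i ∈ s, Disjoint (T i) (csupp W))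
    (hc : ∀ i ∈ s, 1 ≤ c i)
    (hZW : Set.ncard ((Z : Set G) \ W) + s.card ≤ 1 + ∑ i ∈ s, c i)
    (hT : ∀ i ∈ s, Nat.card G * (3 * c i - 1) ≤ 3 * Nat.card Z * Set.ncard (T i))
    (hn : 2 ≤ s.card) : False := by
  classical
  have : Fintype G := Fintype.ofFinite G
  have hcs : Nat.card Z * Set.ncard (csupp W) = Set.ncard W * Nat.card G :=
    Cfsg.Agent.Lib.Helper67.BG147.card_csupp hWZ hnorm hTI
  -- the disjoint union bound
  have hA : ∑ i ∈ s, (T i).ncard + (csupp W).ncard ≤ Nat.card G := by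
    have h1 : ((s.biUnion fun i => (T i).toFinset) ∪ (csupp W).toFinset).card ≤ Fintype.card G :=
      Finset.card_le_univ _
    rw [Finset.card_union_of_disjoint, Finset.card_biUnion] at h1
    · simpa [Set.ncard_eq_toFinset_card', Nat.card_eq_fintype_card] using h1
    · intro i hi j hj hij
      show Disjoint (T i).toFinset (T j).toFinset
      rw [Set.disjoint_toFinset]
      exact hdisj i hi j hj hij
    · rw [Finset.disjoint_biUnion_left]
      intro i hi
      rw [Set.disjoint_toFinset]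
      exact hdisjW i hi
  -- `|W| + |Z \ W| = |Z|`
  have hW : ((Z : Set G) \ W).ncard + W.ncard = Nat.card Z := by
    rw [Set.ncard_sdiff_add_ncard_of_subset hWZ]
    exact (Nat.card_coe_set_eq (Z : Set G)).symm
  -- `∑ (3 c i - 1) + n = 3 ∑ c i`
  have hE : ∑ i ∈ s, (3 * c i - 1) + s.card = 3 * ∑ i ∈ s, c i := by
    rw [Finset.card_eq_sum_ones, ← Finset.sum_add_distrib, Finset.mul_sum]
    refine Finset.sum_congr rfl fun i hi => ?_
    have := hc i hi
    omega
  -- the sum of the `hT`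
  have hS : Nat.card G * ∑ i ∈ s, (3 * c i - 1) ≤ 3 * Nat.card Z * ∑ i ∈ s, (T i).ncard := by
    rw [Finset.mul_sum, Finset.mul_sum]
    exact Finset.sum_le_sum hT
  have hg : 0 < Nat.card G := Nat.card_pos
  have hmain : Nat.card G * (∑ i ∈ s, (3 * c i - 1) + 3 * W.ncard) ≤ Nat.card G * (3 * Nat.card Z) := by
    calc Nat.card G * (∑ i ∈ s, (3 * c i - 1) + 3 * W.ncard)
        = Nat.card G * ∑ i ∈ s, (3 * c i - 1) + 3 * (W.ncard * Nat.card G) := by ring
      _ ≤ 3 * Nat.card Z * ∑ i ∈ s, (T i).ncard + 3 * (Nat.card Z * (csupp W).ncard) := by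
          rw [hcs]; exact Nat.add_le_add_right hS _
      _ = 3 * Nat.card Z * (∑ i ∈ s, (T i).ncard + (csupp W).ncard) := by ring
      _ ≤ 3 * Nat.card Z * Nat.card G := Nat.mul_le_mul_left _ hA
      _ = Nat.card G * (3 * Nat.card Z) := by ring
  have h3 := Nat.le_of_mul_le_mul_left hmain hg
  omega

end Cfsg.Agent.Lib.Helper84.BG1366
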