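import Mathlib
import Cfsg.Agent.Lib.Helper05.CharDecomp
import Cfsg.Agent.Lib.Helper83.Decompose

set_option autoImplicit false

namespace Cfsg.Agent.Lib.Helper84

open scoped ComplexConjugate
open Cfsg

section Comp

variable {H K : Type*} [Group H] [Group K] [Finite K]

/-- Composition of an irreducible character with a group isomorphism is irreducible. -/
theorem isIrrCharacter_comp_mulEquiv (φ : H ≃* K) {θ : K → ℂ} (hθ : Cfsg.IsIrrCharacter K θ) :
    Cfsg.IsIrrCharacter H (fun h => θ (φ h)) := by
  classical
  have : Finite H := Finite.of_equiv K φ.symm.toEquiv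
  have : Fintype H := Fintype.ofFinite H
  have : Fintype K := Fintype.ofFinite K
  apply Cfsg.Agent.Lib.Helper83.isIrrCharacter_of_norm_one
  · exact Cfsg.Agent.Lib.Helper83.isCharacter_comp_hom φ.toMonoidHom
      (Cfsg.Agent.Lib.Helper83.isCharacter_of_irr hθ)
  · have h1 : Cfsg.classInner θ θ = 1 := Cfsg.Agent.Lib.Helper83.irr_inner_self ⟨θ, hθ⟩
    rw [← h1, Cfsg.classInner, Cfsg.classInner, Nat.card_congr φ.toEquiv]
    congr 1
    exact Equiv.sum_comp φ.toEquiv (fun k => θ k * conj (θ k))

end Comp

section Normal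

variable {G : Type*} [Group G] (K : Subgroup G) [K.Normal]

/-- The conjugation action of `G` on the irreducible characters of a normal subgroup:
`(g • θ) k = θ (g⁻¹ k g)`. -/
@[instance_reducible]
noncomputable def irrAction [Finite K] : MulAction G (Cfsg.IrrCharacter K) where
  smul g θ := ⟨fun k => (θ : K → ℂ) ((MulAut.conjNormal g⁻¹ : MulAut K) k),
    isIrrCharacter_comp_mulEquiv (MulAut.conjNormal g⁻¹ : MulAut K) θ.2⟩
  one_smul θ := by
    apply Subtype.ext
    funext k
    change (θ : K → ℂ) ((MulAut.conjNormal (1 : G)⁻¹ : MulAut K) k) = (θ : K → ℂ) k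
    simp
  mul_smul g h θ := by
    apply Subtype.ext
    funext k
    change (θ : K → ℂ) ((MulAut.conjNormal (g * h)⁻¹ : MulAut K) k) =
      (θ : K → ℂ) ((MulAut.conjNormal h⁻¹ : MulAut K) ((MulAut.conjNormal g⁻¹ : MulAut K) k))
    rw [mul_inv_rev, map_mul]
    rfl

theorem irrAction_apply [Finite K] (g : G) (θ : Cfsg.IrrCharacter K) (k : K) :
    ((letI := irrAction K; g • θ : Cfsg.IrrCharacter K) : K → ℂ) k =
      (θ : K → ℂ) ((MulAut.conjNormal g⁻¹ : MulAut K) k) := rfl

/-- The conjugation action of `G` on the conjugacy classes of a normal subgroup. -/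
@[instance_reducible]
noncomputable def classAction : MulAction G (ConjClasses K) where
  smul g C := ConjClasses.map ((MulAut.conjNormal g : MulAut K) : K →* K) C
  one_smul C := by
    obtain ⟨k, rfl⟩ := ConjClasses.exists_rep C
    change ConjClasses.mk ((MulAut.conjNormal (1 : G) : MulAut K) k) = ConjClasses.mk k
    simp
  mul_smul g h C := by
    obtain ⟨k, rfl⟩ := ConjClasses.exists_rep C
    change ConjClasses.mk ((MulAut.conjNormal (g * h) : MulAut K) k) =
      ConjClasses.mk ((MulAut.conjNormal g : MulAut K) ((MulAut.conjNormal h : MulAut K) k))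
    rw [map_mul]
    rfl

theorem classAction_mk (g : G) (k : K) :
    (letI := classAction K; g • ConjClasses.mk k : ConjClasses K) =
      ConjClasses.mk ((MulAut.conjNormal g : MulAut K) k) := rfl

end Normal

section Conj

variable {K : Type*} [Group K]

/-- Complex conjugation on irreducible characters. -/
noncomputable def irrConj [Finite K] (θ : Cfsg.IrrCharacter K) : Cfsg.IrrCharacter K :=
  haveI : Fintype K := Fintype.ofFinite K
  ⟨fun k => conj ((θ : K → ℂ) k), Cfsg.Agent.Lib.Helper05.isIrrCharacter_conj θ.2⟩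

theorem irrConj_apply [Finite K] (θ : Cfsg.IrrCharacter K) (k : K) :
    (irrConj θ : K → ℂ) k = conj ((θ : K → ℂ) k) := rfl

theorem irrConj_involutive [Finite K] : Function.Involutive (irrConj (K := K)) := by
  intro θ
  apply Subtype.ext
  funext k
  simp [irrConj_apply]

theorem isConj_inv_inv {a b : K} (h : IsConj a b) : IsConj a⁻¹ b⁻¹ := by
  rw [isConj_iff] at h ⊢
  obtain ⟨c, hc⟩ := h
  exact ⟨c, by rw [← hc, conj_inv]⟩

/-- Inversion on conjugacy classes. -/
def classInv : ConjClasses K → ConjClasses K :=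
  Quotient.map' (fun a => a⁻¹) (fun _ _ h => isConj_inv_inv h)

theorem classInv_mk (a : K) : classInv (ConjClasses.mk a) = ConjClasses.mk a⁻¹ := rfl

theorem classInv_involutive : Function.Involutive (classInv (K := K)) := by
  intro C
  obtain ⟨k, rfl⟩ := ConjClasses.exists_rep C
  simp [classInv_mk]

end Conj

end Cfsg.Agent.Lib.Helper84
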