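import Mathlib
import Cfsg.Agent.Lib.Helper83.Decompose
import Cfsg.Agent.Lib.Helper34.GenChar
import Cfsg.Agent.Lib.Helper84.NormalAction

set_option autoImplicit false

namespace Cfsg.Agent.Lib.Helper84

open Cfsg
open scoped ComplexConjugate

section ConjFun

variable {G : Type*} [Group G] (H : Subgroup G) [hN : H.Normal]

/-- The conjugate of a function on a normal subgroup: `(conjFun H g θ) n = θ (g n g⁻¹)`. -/
def conjFun (g : G) (θ : H → ℂ) : H → ℂ :=
  fun n => θ ⟨g * n * g⁻¹, hN.conj_mem n n.2 g⟩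

theorem conjFun_apply (g : G) (θ : H → ℂ) (n : H) :
    conjFun H g θ n = θ ⟨g * n * g⁻¹, hN.conj_mem n n.2 g⟩ := rfl

theorem conjFun_eq_comp (g : G) (θ : H → ℂ) :
    conjFun H g θ = fun n => θ ((MulAut.conjNormal g : MulAut H) n) := by
  funext n
  rw [conjFun_apply]
  congr 1

theorem conjFun_one (θ : H → ℂ) : conjFun H 1 θ = θ := by
  funext n
  rw [conjFun_apply]
  congr 1
  apply Subtype.ext
  simp

theorem conjFun_mul (g h : G) (θ : H → ℂ) :
    conjFun H (g * h) θ = conjFun H h (conjFun H g θ) := by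
  funext n
  rw [conjFun_apply, conjFun_apply, conjFun_apply]
  congr 1
  apply Subtype.ext
  simp [mul_assoc]

theorem conjFun_inv_conjFun (g : G) (θ : H → ℂ) : conjFun H g⁻¹ (conjFun H g θ) = θ := by
  rw [← conjFun_mul, mul_inv_cancel, conjFun_one]

theorem conjFun_conjFun_inv (g : G) (θ : H → ℂ) : conjFun H g (conjFun H g⁻¹ θ) = θ := by
  rw [← conjFun_mul, inv_mul_cancel, conjFun_one]

theorem isIrrCharacter_conjFun [Finite H] (g : G) {θ : H → ℂ} (hθ : IsIrrCharacter H θ) :
    IsIrrCharacter H (conjFun H g θ) := by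
  rw [conjFun_eq_comp]
  exact isIrrCharacter_comp_mulEquiv (MulAut.conjNormal g : MulAut H) hθ

theorem classInner_conjFun_conjFun [Fintype H] (g : G) (φ ψ : H → ℂ) :
    classInner (conjFun H g φ) (conjFun H g ψ) = classInner φ ψ := by
  rw [conjFun_eq_comp, conjFun_eq_comp, classInner, classInner]
  congr 1
  exact Equiv.sum_comp (MulAut.conjNormal g : MulAut H).toEquiv (fun k => φ k * conj (ψ k))

theorem conjFun_restrict {χ : G → ℂ} (hχ : IsClassFunction G χ) (g : G) :
    conjFun H g (fun n : H => χ n) = fun n : H => χ n := by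
  funext n
  rw [conjFun_apply]
  exact hχ n g

theorem classInner_restrict_conjFun [Fintype H] {χ : G → ℂ} (hχ : IsClassFunction G χ) (g : G)
    (φ : H → ℂ) :
    classInner (fun n : H => χ n) (conjFun H g φ) = classInner (fun n : H => χ n) φ := by
  conv_lhs => rw [← conjFun_restrict H hχ g]
  exact classInner_conjFun_conjFun H g _ _

/-- The restriction to a normal subgroup of an induced function is the average of the conjugates. -/
theorem indFun_coe_normal [Fintype G] (φ : H → ℂ) (n : H) :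
    indFun H φ (n : G) = (Nat.card H : ℂ)⁻¹ * ∑ x : G, conjFun H x φ n := by
  rw [Cfsg.Agent.Lib.Helper34.indFun_apply]
  congr 1
  rw [← Equiv.sum_comp (Equiv.inv G)]
  refine Finset.sum_congr rfl fun x _ => ?_
  rw [conjFun_apply]
  simp only [Equiv.inv_apply, inv_inv]
  exact Cfsg.Agent.Lib.Helper34.extendByZero_apply_mem H φ _

end ConjFun

section Clifford

universe u

variable {G : Type u} [Group G] [Fintype G] (H : Subgroup G) [hN : H.Normal] [Fintype H]

/-- The inner product of two irreducible characters as an `if`. -/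
theorem classInner_irr_irr {K : Type u} [Group K] [Fintype K] {φ ψ : K → ℂ}
    (hφ : IsIrrCharacter K φ) (hψ : IsIrrCharacter K ψ) [Decidable (φ = ψ)] :
    classInner φ ψ = if φ = ψ then 1 else 0 := by
  have := Cfsg.Agent.Lib.Helper83.irr_orthonormal (⟨φ, hφ⟩ : IrrCharacter K) ⟨ψ, hψ⟩
  simp only [Subtype.mk.injEq] at this
  convert this

/-- Inner product of the restriction of an induced character with an irreducible character. -/
theorem classInner_indFun_restrict {φ ψ : H → ℂ} (hφ : IsIrrCharacter H φ)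
    (hψ : IsIrrCharacter H ψ) :
    classInner (fun n : H => indFun H φ n) ψ =
      (Nat.card H : ℂ)⁻¹ * (Nat.card {x : G // conjFun H x φ = ψ} : ℂ) := by
  classical
  have h1 : (fun n : H => indFun H φ n) = (Nat.card H : ℂ)⁻¹ • ∑ x : G, conjFun H x φ := by
    funext n
    rw [indFun_coe_normal]
    simp [Finset.sum_apply]
  rw [h1, Cfsg.Agent.Lib.Helper83.classInner_smul_left, Cfsg.Agent.Lib.Helper83.classInner_sum_left]
  congr 1
  rw [Nat.card_eq_fintype_card, Fintype.card_subtype, Finset.card_filter, Nat.cast_sum]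
  refine Finset.sum_congr rfl fun x _ => ?_
  rw [classInner_irr_irr (isIrrCharacter_conjFun H x hφ) hψ]
  split_ifs <;> simp

/-- **Clifford**: two irreducible constituents of the restriction of an irreducible character to
a normal subgroup are conjugate. -/
theorem clifford_exists_conj {χ : G → ℂ} (hχ : IsIrrCharacter G χ) {φ ψ : H → ℂ}
    (hφ : IsIrrCharacter H φ) (hψ : IsIrrCharacter H ψ)
    (h1 : classInner (fun n : H => χ n) φ ≠ 0) (h2 : classInner (fun n : H => χ n) ψ ≠ 0) :
    ∃ g : G, conjFun H g φ = ψ := by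
  classical
  by_contra hcon
  push Not at hcon
  have : Fintype (IrrCharacter G) := Fintype.ofFinite _
  have hΦ : IsCharacter G (indFun H φ) :=
    Cfsg.Agent.Lib.Helper34.isCharacter_indFun H (Cfsg.Agent.Lib.Helper83.isCharacter_of_irr hφ)
  have hχc : IsClassFunction G χ :=
    Cfsg.Agent.Lib.Helper83.char_isClassFunction (Cfsg.Agent.Lib.Helper83.isCharacter_of_irr hχ)
  -- the restriction of the induced character has no `ψ`-component
  have hzero : classInner (fun n : H => indFun H φ n) ψ = 0 := by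
    rw [classInner_indFun_restrict H hφ hψ]
    have : IsEmpty {x : G // conjFun H x φ = ψ} := ⟨fun x => hcon x.1 x.2⟩
    rw [Nat.card_of_isEmpty (α := {x : G // conjFun H x φ = ψ})]
    simp
  -- decompose the induced character
  have hdec := Cfsg.Agent.Lib.Helper83.char_eq_sum_irrMult hΦ
  have hres : (fun n : H => indFun H φ n) =
      ∑ χ' : IrrCharacter G, (Cfsg.Agent.Lib.Helper83.irrMult (indFun H φ) χ' : ℂ) •
        (fun n : H => (χ' : G → ℂ) n) := by
    funext n
    conv_lhs => rw [hdec]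
    simp [Finset.sum_apply]
  rw [hres, Cfsg.Agent.Lib.Helper83.classInner_sum_left] at hzero
  -- each term is a natural number
  have hnat : ∀ χ' : IrrCharacter G, ∃ k : ℕ,
      classInner ((Cfsg.Agent.Lib.Helper83.irrMult (indFun H φ) χ' : ℂ) •
        (fun n : H => (χ' : G → ℂ) n)) ψ = k := by
    intro χ'
    obtain ⟨k, hk⟩ := Cfsg.Agent.Lib.Helper83.classInner_char_nat
      (Cfsg.Agent.Lib.Helper83.isCharacter_restrict H (Cfsg.Agent.Lib.Helper83.IrrCharacter_isCharacter χ'))
      (Cfsg.Agent.Lib.Helper83.isCharacter_of_irr hψ)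
    refine ⟨Cfsg.Agent.Lib.Helper83.irrMult (indFun H φ) χ' * k, ?_⟩
    rw [Cfsg.Agent.Lib.Helper83.classInner_smul_left, hk]
    push_cast
    rfl
  choose k hk using hnat
  simp_rw [hk] at hzero
  have hzero' : ∑ χ' : IrrCharacter G, k χ' = 0 := by exact_mod_cast hzero
  have hkχ : k ⟨χ, hχ⟩ = 0 := by
    have := Finset.sum_eq_zero_iff.mp hzero' ⟨χ, hχ⟩ (Finset.mem_univ _)
    exact this
  have hterm := hk ⟨χ, hχ⟩
  rw [hkχ, Nat.cast_zero, Cfsg.Agent.Lib.Helper83.classInner_smul_left] at hterm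
  rcases mul_eq_zero.mp hterm with h | h
  · rw [Cfsg.Agent.Lib.Helper83.irrMult_cast hΦ,
      Cfsg.Agent.Lib.Helper34.classInner_indFun_left H φ χ hχc] at h
    apply h1
    rw [← Cfsg.Agent.Lib.Helper83.classInner_conj_symm, h, map_zero]
  · exact h2 h

end Clifford

section Split

universe u

variable {K : Type u} [Group K] [Fintype K]

/-- Splitting off the `ψ`-isotypic part of a character. -/
theorem exists_char_sub {A : K → ℂ} (hA : IsCharacter K A) (ψ : IrrCharacter K) :
    ∃ A' : K → ℂ, IsCharacter K A' ∧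
      A = (Cfsg.Agent.Lib.Helper83.irrMult A ψ : ℂ) • (ψ : K → ℂ) + A' := by
  classical
  refine ⟨A - (Cfsg.Agent.Lib.Helper83.irrMult A ψ : ℂ) • (ψ : K → ℂ), ?_, by abel⟩
  apply Cfsg.Agent.Lib.Helper83.isCharacter_of_classInner_nat
  · exact Cfsg.Agent.Lib.Helper83.isClassFunction_sub
      (Cfsg.Agent.Lib.Helper83.char_isClassFunction hA)
      (Cfsg.Agent.Lib.Helper83.isClassFunction_smul _
        (Cfsg.Agent.Lib.Helper83.isClassFunction_irr ψ))
  · intro ψ'
    rw [Cfsg.Agent.Lib.Helper83.classInner_sub_left, Cfsg.Agent.Lib.Helper83.classInner_smul_left,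
      Cfsg.Agent.Lib.Helper83.irr_orthonormal]
    by_cases h : ψ = ψ'
    · subst h
      refine ⟨0, ?_⟩
      rw [if_pos rfl, mul_one, Cfsg.Agent.Lib.Helper83.irrMult_cast hA]
      simp
    · refine ⟨Cfsg.Agent.Lib.Helper83.irrMult A ψ', ?_⟩
      rw [if_neg h, mul_zero, sub_zero, Cfsg.Agent.Lib.Helper83.irrMult_cast hA]

/-- Two irreducible characters with nonzero inner product are equal. -/
theorem irr_eq_of_classInner_ne_zero {φ ψ : K → ℂ} (hφ : IsIrrCharacter K φ)
    (hψ : IsIrrCharacter K ψ) (h : classInner φ ψ ≠ 0) : φ = ψ := by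
  classical
  by_contra hne
  rw [classInner_irr_irr hφ hψ, if_neg hne] at h
  exact h rfl

end Split

section Corr

universe u

variable {G : Type u} [Group G] [Fintype G] (H T : Subgroup G) [hN : H.Normal]
  [Fintype H] [Fintype T] (hHT : H ≤ T)

/-- Restriction to `H` of a function on an intermediate subgroup `T`. -/
def resFun (ψ : T → ℂ) : H → ℂ := fun n => ψ ⟨(n : G), hHT n.2⟩

omit [Fintype G] hN [Fintype H] [Fintype T] in
theorem resFun_apply (ψ : T → ℂ) (n : H) : resFun H T hHT ψ n = ψ ⟨(n : G), hHT n.2⟩ := rfl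

omit [Fintype G] hN [Fintype H] [Fintype T] in
theorem resFun_add (a b : T → ℂ) : resFun H T hHT (a + b) = resFun H T hHT a + resFun H T hHT b :=
  rfl

omit [Fintype G] hN [Fintype H] [Fintype T] in
theorem resFun_smul (c : ℂ) (a : T → ℂ) : resFun H T hHT (c • a) = c • resFun H T hHT a := rfl

omit [Fintype G] hN [Fintype H] [Fintype T] in
theorem resFun_restrict (χ : G → ℂ) :
    resFun H T hHT (fun t : T => χ t) = fun n : H => χ n := rfl

omit [Fintype G] hN [Fintype H] [Fintype T] in
theorem isCharacter_resFun {ψ : T → ℂ} (hψ : IsCharacter T ψ) :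
    IsCharacter H (resFun H T hHT ψ) :=
  Cfsg.Agent.Lib.Helper83.isCharacter_comp_hom (Subgroup.inclusion hHT) hψ

/-- The inner product of the restriction of a character with an irreducible character is a
natural number. -/
theorem exists_nat_classInner_resFun {ψ : T → ℂ} (hψ : IsCharacter T ψ) {θ : H → ℂ}
    (hθ : IsIrrCharacter H θ) : ∃ k : ℕ, classInner (resFun H T hHT ψ) θ = k :=
  Cfsg.Agent.Lib.Helper83.classInner_char_nat (isCharacter_resFun H T hHT hψ)
    (Cfsg.Agent.Lib.Helper83.isCharacter_of_irr hθ)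

/-- Monotonicity: the multiplicity of `θ` in `A|_H` is at least `⟨A, ψ⟩ ⟨ψ|_H, θ⟩`. -/
theorem classInner_resFun_split {A : T → ℂ} (hA : IsCharacter T A) (ψ : IrrCharacter T)
    {θ : H → ℂ} (hθ : IsIrrCharacter H θ) :
    ∃ k : ℕ, classInner (resFun H T hHT A) θ =
      classInner A (ψ : T → ℂ) * classInner (resFun H T hHT (ψ : T → ℂ)) θ + k := by
  obtain ⟨A', hA', hsplit⟩ := exists_char_sub hA ψ
  obtain ⟨k, hk⟩ := exists_nat_classInner_resFun H T hHT hA' hθ
  refine ⟨k, ?_⟩
  conv_lhs => rw [hsplit]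
  rw [resFun_add, resFun_smul, Cfsg.Agent.Lib.Helper83.classInner_add_left,
    Cfsg.Agent.Lib.Helper83.classInner_smul_left, hk, Cfsg.Agent.Lib.Helper83.irrMult_cast hA]

/-- The restriction to `H` of a function induced from `T ≥ H`. -/
theorem indFun_coe_of_le (ψ : T → ℂ) (n : H) :
    indFun T ψ (n : G) = (Nat.card T : ℂ)⁻¹ * ∑ x : G, conjFun H x (resFun H T hHT ψ) n := by
  rw [Cfsg.Agent.Lib.Helper34.indFun_apply]
  congr 1
  rw [← Equiv.sum_comp (Equiv.inv G)]
  refine Finset.sum_congr rfl fun x _ => ?_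
  rw [conjFun_apply, resFun_apply]
  simp only [Equiv.inv_apply, inv_inv]
  exact Cfsg.Agent.Lib.Helper34.extendByZero_apply_mem T ψ _

/-- Inner products over `H.subgroupOf T` agree with inner products over `H`. -/
theorem classInner_subgroupOf [Fintype (H.subgroupOf T)] (a b : H → ℂ) :
    classInner (fun x : H.subgroupOf T => a (Subgroup.subgroupOfEquivOfLe hHT x))
      (fun x : H.subgroupOf T => b (Subgroup.subgroupOfEquivOfLe hHT x)) = classInner a b := by
  rw [classInner, classInner, Nat.card_congr (Subgroup.subgroupOfEquivOfLe hHT).toEquiv]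
  congr 1
  exact Equiv.sum_comp (Subgroup.subgroupOfEquivOfLe hHT).toEquiv (fun k => a k * conj (b k))

/-- **Clifford inside the inertia group**: if every element of `T` fixes `θ`, the only irreducible
constituent of `ψ|_H` (for `ψ` irreducible on `T` lying over `θ`) is `θ` itself. -/
theorem eq_of_constituent_of_stable {θ : H → ℂ} (hθ : IsIrrCharacter H θ)
    (hstab : ∀ t ∈ T, conjFun H t θ = θ) {ψ : T → ℂ} (hψ : IsIrrCharacter T ψ)
    (h1 : classInner (resFun H T hHT ψ) θ ≠ 0) {φ : H → ℂ} (hφ : IsIrrCharacter H φ)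
    (h2 : classInner (resFun H T hHT ψ) φ ≠ 0) : φ = θ := by
  classical
  have : Fintype (H.subgroupOf T) := Fintype.ofFinite _
  have hnorm : (H.subgroupOf T).Normal := inferInstance
  let e := Subgroup.subgroupOfEquivOfLe hHT
  have hres : (fun x : H.subgroupOf T => ψ (x : T)) =
      fun x : H.subgroupOf T => resFun H T hHT ψ (e x) := by
    funext x
    rfl
  have hθs : IsIrrCharacter (H.subgroupOf T) (fun x => θ (e x)) :=
    isIrrCharacter_comp_mulEquiv e hθ
  have hφs : IsIrrCharacter (H.subgroupOf T) (fun x => φ (e x)) :=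
    isIrrCharacter_comp_mulEquiv e hφ
  obtain ⟨t, ht⟩ := clifford_exists_conj (H.subgroupOf T) hψ hθs hφs
    (by rw [hres, classInner_subgroupOf]; exact h1)
    (by rw [hres, classInner_subgroupOf]; exact h2)
  funext n
  have := congrFun ht (e.symm n)
  rw [conjFun_apply] at this
  simp only [MulEquiv.apply_symm_apply] at this
  rw [← this]
  have hst := congrFun (hstab (t : G) t.2) n
  rw [conjFun_apply] at hst
  rw [← hst]
  congr 1

/-- The multiplicity of `θ` in the restriction to `H` of `ψ` induced from the inertia group `T`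
equals the multiplicity of `θ` in `ψ|_H`. -/
theorem classInner_indFun_inertia {θ : H → ℂ} (hθ : IsIrrCharacter H θ)
    (hT : ∀ g : G, g ∈ T ↔ ∀ n : H, conjFun H g θ n = θ n)
    {ψ : T → ℂ} (hψ : IsIrrCharacter T ψ) (h1 : classInner (resFun H T hHT ψ) θ ≠ 0) :
    classInner (fun n : H => indFun T ψ n) θ = classInner (resFun H T hHT ψ) θ := by
  classical
  have hstab : ∀ t ∈ T, conjFun H t θ = θ := fun t ht => funext ((hT t).mp ht)
  have h0 : (fun n : H => indFun T ψ n) =
      (Nat.card T : ℂ)⁻¹ • ∑ x : G, conjFun H x (resFun H T hHT ψ) := by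
    funext n
    rw [indFun_coe_of_le H T hHT]
    simp [Finset.sum_apply]
  rw [h0, Cfsg.Agent.Lib.Helper83.classInner_smul_left, Cfsg.Agent.Lib.Helper83.classInner_sum_left]
  have hterm : ∀ x : G, classInner (conjFun H x (resFun H T hHT ψ)) θ =
      if x ∈ T then classInner (resFun H T hHT ψ) θ else 0 := by
    intro x
    have e1 : classInner (conjFun H x (resFun H T hHT ψ)) θ =
        classInner (resFun H T hHT ψ) (conjFun H x⁻¹ θ) := by
      conv_lhs => rw [← conjFun_conjFun_inv H x θ]
      exact classInner_conjFun_conjFun H x _ _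
    rw [e1]
    split_ifs with hx
    · rw [hstab x⁻¹ (T.inv_mem hx)]
    · by_contra hne
      have := eq_of_constituent_of_stable H T hHT hθ hstab hψ h1
        (isIrrCharacter_conjFun H x⁻¹ hθ) hne
      apply hx
      have hx' : x⁻¹ ∈ T := (hT x⁻¹).mpr (fun n => congrFun this n)
      simpa using T.inv_mem hx'
  simp_rw [hterm]
  rw [Finset.sum_ite, Finset.sum_const_zero, add_zero, Finset.sum_const, nsmul_eq_mul]
  have hcard : ((Finset.univ.filter (fun x : G => x ∈ T)).card : ℂ) = (Nat.card T : ℂ) := by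
    rw [Nat.card_eq_fintype_card, Fintype.card_subtype]
  rw [hcard, ← mul_assoc, inv_mul_cancel₀, one_mul]
  exact_mod_cast (Nat.card_pos (α := T)).ne'

/-- **Clifford correspondence, irreducibility**: a character of the inertia group lying over `θ`
induces irreducibly. -/
theorem isIrrCharacter_indFun_inertia {θ : H → ℂ} (hθ : IsIrrCharacter H θ)
    (hT : ∀ g : G, g ∈ T ↔ ∀ n : H, conjFun H g θ n = θ n)
    {ψ : T → ℂ} (hψ : IsIrrCharacter T ψ) (h1 : classInner (resFun H T hHT ψ) θ ≠ 0) :
    IsIrrCharacter G (indFun T ψ) := by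
  classical
  have : Fintype (IrrCharacter G) := Fintype.ofFinite _
  have hΨ : IsCharacter G (indFun T ψ) :=
    Cfsg.Agent.Lib.Helper34.isCharacter_indFun T (Cfsg.Agent.Lib.Helper83.isCharacter_of_irr hψ)
  obtain ⟨f, hf⟩ := exists_nat_classInner_resFun H T hHT
    (Cfsg.Agent.Lib.Helper83.isCharacter_of_irr hψ) hθ
  have hf0 : f ≠ 0 := by
    intro h
    rw [h, Nat.cast_zero] at hf
    exact h1 hf
  have hM := classInner_indFun_inertia H T hHT hθ hT hψ h1
  have hdec := Cfsg.Agent.Lib.Helper83.char_eq_sum_irrMult hΨ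
  set m : IrrCharacter G → ℕ := fun χ => Cfsg.Agent.Lib.Helper83.irrMult (indFun T ψ) χ with hm
  have hres : (fun n : H => indFun T ψ n) =
      ∑ χ : IrrCharacter G, (m χ : ℂ) • (fun n : H => (χ : G → ℂ) n) := by
    funext n
    conv_lhs => rw [hdec]
    simp [Finset.sum_apply, hm]
  -- the multiplicities of `θ`
  have hk : ∀ χ : IrrCharacter G, ∃ k : ℕ,
      classInner (fun n : H => (χ : G → ℂ) n) θ = (m χ : ℂ) * f + k := by
    intro χ
    have hχT : IsCharacter T (fun t : T => (χ : G → ℂ) t) :=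
      Cfsg.Agent.Lib.Helper83.isCharacter_restrict T (Cfsg.Agent.Lib.Helper83.IrrCharacter_isCharacter χ)
    obtain ⟨k, hk⟩ := classInner_resFun_split H T hHT hχT ⟨ψ, hψ⟩ hθ
    refine ⟨k, ?_⟩
    rw [resFun_restrict] at hk
    rw [hk, hf]
    congr 2
    change classInner (fun t : T => (χ : G → ℂ) t) ψ = (m χ : ℂ)
    rw [← Cfsg.Agent.Lib.Helper83.classInner_conj_symm,
      ← Cfsg.Agent.Lib.Helper34.classInner_indFun_left T ψ (χ : G → ℂ)
        (Cfsg.Agent.Lib.Helper83.isClassFunction_irr χ),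
      ← Cfsg.Agent.Lib.Helper83.irrMult_cast hΨ χ, Complex.conj_natCast]
  choose k hk using hk
  have hsum : (f : ℂ) = ∑ χ : IrrCharacter G, (m χ : ℂ) * ((m χ : ℂ) * f + k χ) := by
    have e : classInner (fun n : H => indFun T ψ n) θ =
        ∑ χ : IrrCharacter G, (m χ : ℂ) * ((m χ : ℂ) * f + k χ) := by
      rw [hres, Cfsg.Agent.Lib.Helper83.classInner_sum_left]
      refine Finset.sum_congr rfl fun χ _ => ?_
      rw [Cfsg.Agent.Lib.Helper83.classInner_smul_left, hk χ]
    rw [← e, hM, hf]
  have hsumN : f = ∑ χ : IrrCharacter G, m χ * (m χ * f + k χ) := by exact_mod_cast hsum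
  have hS1 : (∑ χ : IrrCharacter G, m χ * m χ) * f ≤ f := by
    calc (∑ χ : IrrCharacter G, m χ * m χ) * f = ∑ χ : IrrCharacter G, m χ * (m χ * f) := by
          rw [Finset.sum_mul]
          exact Finset.sum_congr rfl fun χ _ => by ring
      _ ≤ ∑ χ : IrrCharacter G, m χ * (m χ * f + k χ) :=
          Finset.sum_le_sum fun χ _ => Nat.mul_le_mul_left _ (Nat.le_add_right _ _)
      _ = f := hsumN.symm
  have hS2 : ∑ χ : IrrCharacter G, m χ * m χ ≤ 1 := by
    by_contra hcon
    push Not at hcon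
    have : 2 * f ≤ (∑ χ : IrrCharacter G, m χ * m χ) * f := Nat.mul_le_mul_right f hcon
    omega
  have hS3 : ∑ χ : IrrCharacter G, m χ * m χ ≠ 0 := by
    intro h0
    have hall : ∀ χ : IrrCharacter G, m χ = 0 := by
      intro χ
      have := Finset.sum_eq_zero_iff.mp h0 χ (Finset.mem_univ _)
      exact mul_self_eq_zero.mp this
    apply hf0
    rw [hsumN]
    exact Finset.sum_eq_zero fun χ _ => by rw [hall χ, zero_mul]
  have hS : ∑ χ : IrrCharacter G, m χ * m χ = 1 := by omega
  apply Cfsg.Agent.Lib.Helper83.isIrrCharacter_of_norm_one hΨ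
  conv_lhs => rw [hdec]
  rw [Cfsg.Agent.Lib.Helper83.classInner_sum_irr_self]
  have : ∑ χ : IrrCharacter G, ((m χ : ℂ)) * conj ((m χ : ℂ)) =
      ((∑ χ : IrrCharacter G, m χ * m χ : ℕ) : ℂ) := by
    push_cast
    exact Finset.sum_congr rfl fun χ _ => by rw [Complex.conj_natCast]
  rw [this, hS, Nat.cast_one]

end Corr

end Cfsg.Agent.Lib.Helper84
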