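import Mathlib
import Cfsg.Agent.Lib.Helper84.Clifford

set_option autoImplicit false

namespace Cfsg.Agent.Lib.Helper84

open Cfsg
open scoped ComplexConjugate

section Inj

universe u

variable {G : Type u} [Group G] [Fintype G] (H T : Subgroup G) [hN : H.Normal]
  [Fintype H] [Fintype T] (hHT : H ≤ T)

/-- **Clifford correspondence, injectivity**: two irreducible characters of the inertia group `T`
lying over `θ` and inducing the same character of `G` are equal. -/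
theorem indFun_inertia_injective {θ : H → ℂ} (hθ : IsIrrCharacter H θ)
    (hT : ∀ g : G, g ∈ T ↔ ∀ n : H, conjFun H g θ n = θ n)
    {ψ₁ ψ₂ : T → ℂ} (h₁ : IsIrrCharacter T ψ₁) (h₂ : IsIrrCharacter T ψ₂)
    (c₁ : classInner (resFun H T hHT ψ₁) θ ≠ 0) (c₂ : classInner (resFun H T hHT ψ₂) θ ≠ 0)
    (heq : indFun T ψ₁ = indFun T ψ₂) : ψ₁ = ψ₂ := by
  classical
  by_contra hne
  have hχ : IsIrrCharacter G (indFun T ψ₁) := isIrrCharacter_indFun_inertia H T hHT hθ hT h₁ c₁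
  have hχc := Cfsg.Agent.Lib.Helper83.isCharacter_of_irr hχ
  have hχcl := Cfsg.Agent.Lib.Helper83.char_isClassFunction hχc
  set χ := indFun T ψ₁ with hχdef
  have hA : IsCharacter T (fun t : T => χ t) := Cfsg.Agent.Lib.Helper83.isCharacter_restrict T hχc
  -- multiplicities of ψ₁, ψ₂ in χ|_T are one
  have hm1 : classInner (fun t : T => χ t) ψ₁ = 1 := by
    rw [← Cfsg.Agent.Lib.Helper83.classInner_conj_symm,
      ← Cfsg.Agent.Lib.Helper34.classInner_indFun_left T ψ₁ χ hχcl, ← hχdef,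
      Cfsg.Agent.Lib.Helper83.irr_inner_self ⟨χ, hχ⟩, map_one]
  have hm2 : classInner (fun t : T => χ t) ψ₂ = 1 := by
    rw [← Cfsg.Agent.Lib.Helper83.classInner_conj_symm,
      ← Cfsg.Agent.Lib.Helper34.classInner_indFun_left T ψ₂ χ hχcl, ← heq,
      Cfsg.Agent.Lib.Helper83.irr_inner_self ⟨χ, hχ⟩, map_one]
  obtain ⟨A', hA', hsplit⟩ := exists_char_sub hA ⟨ψ₁, h₁⟩
  have hmA1 : (Cfsg.Agent.Lib.Helper83.irrMult (fun t : T => χ t) ⟨ψ₁, h₁⟩ : ℂ) = 1 := by
    rw [Cfsg.Agent.Lib.Helper83.irrMult_cast hA]; exact hm1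
  rw [hmA1, one_smul] at hsplit
  have hA'2 : classInner A' ψ₂ = 1 := by
    have : A' = (fun t : T => χ t) - ψ₁ := by rw [hsplit]; simp
    rw [this, Cfsg.Agent.Lib.Helper83.classInner_sub_left, hm2,
      Cfsg.Agent.Lib.Helper83.irr_inner_ne (χ := ⟨ψ₁, h₁⟩) (ψ := ⟨ψ₂, h₂⟩)
        (fun h => hne (congrArg Subtype.val h)), sub_zero]
  obtain ⟨A'', hA'', hsplit2⟩ := exists_char_sub hA' ⟨ψ₂, h₂⟩
  have hmA2 : (Cfsg.Agent.Lib.Helper83.irrMult A' ⟨ψ₂, h₂⟩ : ℂ) = 1 := by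
    rw [Cfsg.Agent.Lib.Helper83.irrMult_cast hA']; exact hA'2
  rw [hmA2, one_smul] at hsplit2
  obtain ⟨f₁, hf₁⟩ := exists_nat_classInner_resFun H T hHT
    (Cfsg.Agent.Lib.Helper83.isCharacter_of_irr h₁) hθ
  obtain ⟨f₂, hf₂⟩ := exists_nat_classInner_resFun H T hHT
    (Cfsg.Agent.Lib.Helper83.isCharacter_of_irr h₂) hθ
  obtain ⟨k, hk⟩ := exists_nat_classInner_resFun H T hHT hA'' hθ
  have hM := classInner_indFun_inertia H T hHT hθ hT h₁ c₁
  rw [← hχdef] at hM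
  have hres : (fun n : H => χ n) = resFun H T hHT ψ₁ + resFun H T hHT ψ₂ + resFun H T hHT A'' := by
    have : (fun n : H => χ n) = resFun H T hHT (fun t : T => χ t) := rfl
    rw [this, hsplit, resFun_add, hsplit2, resFun_add, add_assoc]
  rw [hres, Cfsg.Agent.Lib.Helper83.classInner_add_left,
    Cfsg.Agent.Lib.Helper83.classInner_add_left, hf₁, hf₂, hk] at hM
  have hf₂0 : f₂ ≠ 0 := by
    intro h0
    rw [h0, Nat.cast_zero] at hf₂
    exact c₂ hf₂
  have : f₁ + f₂ + k = f₁ := by exact_mod_cast hM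
  omega

end Inj

end Cfsg.Agent.Lib.Helper84
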