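import Mathlib

set_option autoImplicit false

namespace Cfsg.Agent.Lib.Helper84

open Representation Module

section Schur

variable {G : Type*} [Group G] {V : Type*} [AddCommGroup V] [Module ℂ V]
  [FiniteDimensional ℂ V] (ρ : Representation ℂ G V) [ρ.IsIrreducible]

omit [FiniteDimensional ℂ V] in
include ρ in
theorem irr_nontrivial : Nontrivial V := by
  by_contra h
  rw [not_nontrivial_iff_subsingleton] at h
  have h1 : (⊥ : Subrepresentation ρ) ≠ ⊤ := bot_ne_top
  apply h1
  apply Subrepresentation.toSubmodule_injective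
  exact Subsingleton.elim _ _

include ρ in
theorem irr_finrank_pos : 0 < finrank ℂ V := by
  have := irr_nontrivial ρ
  exact Module.finrank_pos

include ρ in
theorem irr_finrank_ne_zero : (finrank ℂ V : ℂ) ≠ 0 := by
  exact_mod_cast (irr_finrank_pos ρ).ne'

/-- Schur: an endomorphism commuting with an irreducible complex representation is a scalar. -/
theorem schur_scalar (f : V →ₗ[ℂ] V) (hf : ∀ g : G, f ∘ₗ ρ g = ρ g ∘ₗ f) :
    f = (LinearMap.trace ℂ V f / (finrank ℂ V : ℂ)) • LinearMap.id := by
  obtain ⟨c, hc⟩ :=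
    (IsIrreducible.algebraMap_intertwiningMap_bijective_of_isAlgClosed (ρ := ρ)).2 ⟨f, hf⟩
  have hfc : f = c • LinearMap.id := by
    have := congrArg IntertwiningMap.toLinearMap hc
    simp only [IntertwiningMap.algebraMap_apply] at this
    rw [← this]
    rfl
  have htr : LinearMap.trace ℂ V f = c * (finrank ℂ V : ℂ) := by
    rw [hfc]; simp
  rw [htr, mul_div_assoc, div_self (irr_finrank_ne_zero ρ), mul_one]
  exact hfc

end Schur

section Finite

variable {G : Type*} [Group G] [Fintype G] {V : Type*} [AddCommGroup V] [Module ℂ V]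
  [FiniteDimensional ℂ V] (ρ : Representation ℂ G V) [ρ.IsIrreducible]

omit [Fintype G] in
/-- A weighted sum of `ρ (φ i)` over a family stable under conjugation is a scalar. -/
theorem schur_sum {ι : Type*} [Fintype ι] (φ : ι → G) (a : ι → ℂ) (σ : G → ι ≃ ι)
    (hφ : ∀ g i, φ (σ g i) = g * φ i * g⁻¹) (ha : ∀ g i, a (σ g i) = a i) :
    ∑ i, a i • ρ (φ i) =
      ((∑ i, a i * ρ.character (φ i)) / (finrank ℂ V : ℂ)) • LinearMap.id := by
  have key := schur_scalar ρ (∑ i, a i • ρ (φ i)) ?_
  · rw [key]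
    congr 2
    rw [map_sum]
    refine Finset.sum_congr rfl fun i _ => ?_
    simp [Representation.character]
  · intro g
    change (∑ i, a i • ρ (φ i)) * ρ g = ρ g * (∑ i, a i • ρ (φ i))
    rw [Finset.sum_mul, Finset.mul_sum]
    rw [← Equiv.sum_comp (σ g) (fun i => (a i • ρ (φ i)) * ρ g)]
    refine Finset.sum_congr rfl fun i _ => ?_
    rw [ha, hφ, smul_mul_assoc, mul_smul_comm]
    congr 1
    rw [← map_mul, ← map_mul]
    congr 1
    group

/-- Class sums act as scalars on an irreducible representation. -/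
theorem sum_conj_eq_smul (x : G) :
    ∑ y : G, ρ (y * x * y⁻¹) =
      ((Fintype.card G : ℂ) * ρ.character x / (finrank ℂ V : ℂ)) • LinearMap.id := by
  have := schur_sum ρ (fun y => y * x * y⁻¹) (fun _ => 1) (fun g => Equiv.mulLeft g)
    (by intro g i; simp [mul_assoc]) (by simp)
  simpa using this

theorem sum_char_mul_char_inv :
    ∑ h : G, ρ.character h * ρ.character h⁻¹ = (Fintype.card G : ℂ) := by
  have hcard : (Nat.card G : ℂ) ≠ 0 := by
    simp [Nat.card_eq_fintype_card]
  have : Invertible (Nat.card G : ℂ) := invertibleOfNonzero hcard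
  have h := char_orthonormal ρ ρ
  rw [if_pos ⟨Representation.Equiv.refl ρ⟩] at h
  rw [inv_mul_eq_iff_eq_mul₀ hcard] at h
  rw [h, Nat.card_eq_fintype_card]; simp

theorem sum_char_inv_smul :
    ∑ h : G, ρ.character h⁻¹ • ρ h =
      ((Fintype.card G : ℂ) / (finrank ℂ V : ℂ)) • LinearMap.id := by
  have := schur_sum ρ (fun h => h) (fun h => ρ.character h⁻¹)
    (fun g => (MulAut.conj g).toEquiv)
    (by intro g i; simp)
    (by
      intro g i
      change ρ.character ((g * i * g⁻¹)⁻¹) = ρ.character i⁻¹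
      rw [show (g * i * g⁻¹)⁻¹ = g * i⁻¹ * g⁻¹ by group, char_conj])
  rw [this]
  congr 2
  rw [← sum_char_mul_char_inv ρ]
  exact Finset.sum_congr rfl fun h _ => mul_comm _ _

/-- Generalized orthogonality relation. -/
theorem gen_orth (g : G) :
    ∑ h : G, ρ.character (g * h) * ρ.character h⁻¹ =
      (Fintype.card G : ℂ) * ρ.character g / (finrank ℂ V : ℂ) := by
  have h1 : ∑ h : G, ρ.character (g * h) * ρ.character h⁻¹ =
      LinearMap.trace ℂ V (ρ g * ∑ h : G, ρ.character h⁻¹ • ρ h) := by
    rw [Finset.mul_sum, map_sum]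
    refine Finset.sum_congr rfl fun h _ => ?_
    rw [mul_smul_comm, map_smul, ← map_mul]
    simp [Representation.character, mul_comm]
  rw [h1, sum_char_inv_smul, mul_smul_comm, map_smul, ← Module.End.one_eq_id, mul_one]
  simp [Representation.character]
  ring

theorem sum_char_comm (x w : G) :
    ∑ y : G, ρ.character (x * y * x⁻¹ * y⁻¹ * w) =
      (Fintype.card G : ℂ) * ρ.character x⁻¹ / (finrank ℂ V : ℂ) * ρ.character (x * w) := by
  have h1 : ∑ y : G, ρ.character (x * y * x⁻¹ * y⁻¹ * w) =
      LinearMap.trace ℂ V (ρ x * (∑ y : G, ρ (y * x⁻¹ * y⁻¹)) * ρ w) := by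
    rw [Finset.mul_sum, Finset.sum_mul, map_sum]
    refine Finset.sum_congr rfl fun y _ => ?_
    rw [← map_mul, ← map_mul]
    simp [Representation.character, mul_assoc]
  rw [h1, sum_conj_eq_smul, mul_smul_comm, smul_mul_assoc, map_smul, ← Module.End.one_eq_id,
    mul_one, ← map_mul]
  simp [Representation.character]

theorem sum_sum_char_comm (w : G) :
    ∑ x : G, ∑ y : G, ρ.character (x * y * x⁻¹ * y⁻¹ * w) =
      ((Fintype.card G : ℂ) / (finrank ℂ V : ℂ)) ^ 2 * ρ.character w := by
  simp_rw [sum_char_comm]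
  have h2 : ∑ x : G, (Fintype.card G : ℂ) * ρ.character x⁻¹ / (finrank ℂ V : ℂ) *
      ρ.character (x * w) = (Fintype.card G : ℂ) / (finrank ℂ V : ℂ) *
      ∑ x : G, ρ.character (w * x) * ρ.character x⁻¹ := by
    rw [Finset.mul_sum]
    refine Finset.sum_congr rfl fun x _ => ?_
    rw [char_mul_comm ρ x w]
    ring
  rw [h2, gen_orth]
  ring

theorem sum_char_sq_mul (w : G) :
    ∑ u : G, ρ.character (u * u * w) =
      (∑ u : G, ρ.character (u * u)) / (finrank ℂ V : ℂ) * ρ.character w := by
  have h1 : ∑ u : G, ρ.character (u * u * w) =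
      LinearMap.trace ℂ V ((∑ u : G, (1 : ℂ) • ρ (u * u)) * ρ w) := by
    rw [Finset.sum_mul, map_sum]
    refine Finset.sum_congr rfl fun u _ => ?_
    rw [one_smul, ← map_mul]
    simp [Representation.character]
  have := schur_sum ρ (fun u => u * u) (fun _ => 1) (fun g => (MulAut.conj g).toEquiv)
    (by intro g i; simp [mul_assoc]) (by simp)
  rw [h1, this, smul_mul_assoc, map_smul, ← Module.End.one_eq_id, one_mul]
  simp [Representation.character]

end Finite

end Cfsg.Agent.Lib.Helper84
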