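import Mathlib
import Cfsg.Agent.Lib.Helper84.Clifford

set_option autoImplicit false

namespace Cfsg.Agent.Lib.Helper84

open Cfsg
open scoped ComplexConjugate

section Invariant

universe u

variable {G : Type u} [Group G] [Fintype G] (N : Subgroup G) [hN : N.Normal] [Fintype N]

omit [Fintype N] in
/-- For an invariant `ϑ`, the restriction of the induced function is `[G:N] • ϑ`. -/
theorem indFun_restrict_of_invariant {ϑ : N → ℂ} (hinv : ∀ g : G, conjFun N g ϑ = ϑ) :
    (fun n : N => indFun N ϑ n) = (N.index : ℂ) • ϑ := by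
  funext n
  rw [indFun_coe_normal]
  simp only [hinv, Finset.sum_const, Finset.card_univ, nsmul_eq_mul, Pi.smul_apply, smul_eq_mul]
  have h1 : (Nat.card N : ℂ) ≠ 0 := by exact_mod_cast (Nat.card_pos (α := N)).ne'
  have h2 : (Fintype.card G : ℂ) = (Nat.card N : ℂ) * (N.index : ℂ) := by
    rw [← Nat.card_eq_fintype_card, ← N.card_mul_index]
    push_cast
    rfl
  rw [h2]
  field_simp

/-- For an invariant irreducible `ϑ`, the norm of the induced character is `[G:N]`. -/
theorem classInner_indFun_self_of_invariant {ϑ : N → ℂ} (hϑ : IsIrrCharacter N ϑ)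
    (hinv : ∀ g : G, conjFun N g ϑ = ϑ) :
    classInner (indFun N ϑ) (indFun N ϑ) = (N.index : ℂ) := by
  rw [Cfsg.Agent.Lib.Helper34.classInner_indFun_left N ϑ _
    (Cfsg.Agent.Lib.Helper34.indFun_isClassFunction N ϑ),
    indFun_restrict_of_invariant N hinv, Cfsg.Agent.Lib.Helper83.classInner_smul_right,
    Cfsg.Agent.Lib.Helper83.irr_inner_self ⟨ϑ, hϑ⟩]
  simp

/-- **Clifford, invariant case**: if `ϑ` is invariant and occurs in `χ|_N`, then `χ|_N = e • ϑ`. -/
theorem restrict_eq_smul_of_invariant {χ : G → ℂ} (hχ : IsIrrCharacter G χ) {ϑ : N → ℂ}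
    (hϑ : IsIrrCharacter N ϑ) (hinv : ∀ g : G, conjFun N g ϑ = ϑ)
    (hcon : classInner (fun n : N => χ n) ϑ ≠ 0) :
    ∃ e : ℕ, (e : ℂ) = classInner (fun n : N => χ n) ϑ ∧ (fun n : N => χ n) = (e : ℂ) • ϑ := by
  classical
  have : Fintype (IrrCharacter N) := Fintype.ofFinite _
  have hχN : IsCharacter N (fun n : N => χ n) :=
    Cfsg.Agent.Lib.Helper83.isCharacter_restrict N (Cfsg.Agent.Lib.Helper83.isCharacter_of_irr hχ)
  have hdec := Cfsg.Agent.Lib.Helper83.char_eq_sum_irrMult hχN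
  refine ⟨Cfsg.Agent.Lib.Helper83.irrMult (fun n : N => χ n) ⟨ϑ, hϑ⟩,
    Cfsg.Agent.Lib.Helper83.irrMult_cast hχN _, ?_⟩
  conv_lhs => rw [hdec]
  rw [Finset.sum_eq_single (⟨ϑ, hϑ⟩ : IrrCharacter N)]
  · intro φ _ hφ
    have h0 : classInner (fun n : N => χ n) (φ : N → ℂ) = 0 := by
      by_contra hne
      obtain ⟨g, hg⟩ := clifford_exists_conj N hχ hϑ φ.2 hcon hne
      apply hφ
      apply Subtype.ext
      rw [← hg, hinv g]
    rw [Cfsg.Agent.Lib.Helper83.irrMult_cast hχN, h0, zero_smul]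
  · intro h
    exact absurd (Finset.mem_univ _) h

end Invariant

end Cfsg.Agent.Lib.Helper84
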