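import Mathlib
import Cfsg.Agent.Lib.Helper84.Ramified
import Cfsg.Agent.Lib.Helper83.Linear

set_option autoImplicit false

namespace Cfsg.Agent.Lib.Helper84

open Cfsg
open scoped ComplexConjugate

section Arith

/-- The arithmetic heart of Gallagher's argument. -/
theorem gallagher_arith {ι : Type*} [Fintype ι] [DecidableEq ι] (m : ι → ℕ) (a : ι → ι → ℕ)
    (hdiag : ∀ i, 1 ≤ a i i) (hsum : ∑ i, ∑ j, m i * m j * a i j = ∑ i, m i * m i) :
    ∀ i, m i ≠ 0 → (a i i = 1 ∧ ∀ j, j ≠ i → m j ≠ 0 → a i j = 0) := by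
  have hrow : ∀ i, m i * m i ≤ ∑ j, m i * m j * a i j := by
    intro i
    calc m i * m i ≤ m i * m i * a i i := Nat.le_mul_of_pos_right _ (hdiag i)
      _ ≤ ∑ j, m i * m j * a i j :=
        Finset.single_le_sum (f := fun j => m i * m j * a i j) (fun _ _ => Nat.zero_le _)
          (Finset.mem_univ i)
  have heq : ∀ i, ∑ j, m i * m j * a i j = m i * m i := by
    intro i
    have := (Finset.sum_eq_sum_iff_of_le (s := Finset.univ) (f := fun i => m i * m i)
      (g := fun i => ∑ j, m i * m j * a i j) (fun i _ => hrow i)).mp hsum.symm i (Finset.mem_univ i)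
    exact this.symm
  intro i hi
  have hpos : 0 < m i * m i := Nat.mul_pos (Nat.pos_of_ne_zero hi) (Nat.pos_of_ne_zero hi)
  have hsplit : ∑ j, m i * m j * a i j =
      m i * m i * a i i + ∑ j ∈ Finset.univ.erase i, m i * m j * a i j := by
    rw [← Finset.add_sum_erase Finset.univ (fun j => m i * m j * a i j) (Finset.mem_univ i)]
  have h1 : m i * m i * a i i ≤ m i * m i := by
    have := heq i
    rw [hsplit] at this
    omega
  have hai : a i i = 1 := by
    have : a i i ≤ 1 := by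
      by_contra hc
      rw [not_le] at hc
      have : m i * m i * 2 ≤ m i * m i * a i i := Nat.mul_le_mul_left _ hc
      omega
    exact le_antisymm this (hdiag i)
  refine ⟨hai, ?_⟩
  intro j hj hmj
  have hrest : ∑ j ∈ Finset.univ.erase i, m i * m j * a i j = 0 := by
    have := heq i
    rw [hsplit, hai, mul_one] at this
    omega
  have := (Finset.sum_eq_zero_iff.mp hrest) j (Finset.mem_erase.mpr ⟨hj, Finset.mem_univ _⟩)
  rcases Nat.mul_eq_zero.mp this with h | h
  · rcases Nat.mul_eq_zero.mp h with h | h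
    · exact absurd h hi
    · exact absurd h hmj
  · exact h

end Arith

section Gallagher

universe u

variable {G : Type u} [Group G] [Fintype G] (N : Subgroup G)

/-- `ind (φ · χ|_N) = ind φ · χ` for a class function `χ`. -/
theorem indFun_mul_restrict (φ : N → ℂ) {χ : G → ℂ} (hχ : IsClassFunction G χ) :
    indFun N (φ * fun n : N => χ n) = indFun N φ * χ := by
  funext g
  simp only [Pi.mul_apply, Cfsg.Agent.Lib.Helper34.indFun_apply]
  rw [mul_assoc, Finset.sum_mul]
  congr 1
  refine Finset.sum_congr rfl fun x _ => ?_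
  by_cases h : x⁻¹ * g * x ∈ N
  · rw [Cfsg.Agent.Lib.Helper34.extendByZero_apply_mem _ _ h,
      Cfsg.Agent.Lib.Helper34.extendByZero_apply_mem _ _ h]
    simp only [Pi.mul_apply]
    have := hχ g x⁻¹
    rw [inv_inv] at this
    rw [this]
  · rw [Cfsg.Agent.Lib.Helper34.extendByZero_apply_not_mem _ _ h,
      Cfsg.Agent.Lib.Helper34.extendByZero_apply_not_mem _ _ h, zero_mul]

variable [hN : N.Normal] [Fintype N]

omit [Fintype G] [Fintype N] in
/-- The conjugate of a pointwise product. -/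
theorem conjFun_mul_fun (g : G) (φ ϑ : N → ℂ) :
    conjFun N g (φ * ϑ) = conjFun N g φ * conjFun N g ϑ := rfl

omit [Fintype N] in
/-- **Gallagher's theorem, general form** (Isaacs 6.16). -/
theorem gallagher_general [Fintype (IrrCharacter G)] {φ ϑ : N → ℂ} (hφ : IsIrrCharacter N φ)
    (hφinv : ∀ g : G, conjFun N g φ = φ)
    (hprod : IsIrrCharacter N (φ * ϑ)) {χ : G → ℂ} (hχ : IsCharacter G χ)
    (hext : ∀ n : N, χ n = ϑ n) :
    (∀ β : IrrCharacter G, Cfsg.Agent.Lib.Helper83.irrMult (indFun N φ) β ≠ 0 →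
      IsIrrCharacter G ((β : G → ℂ) * χ)) ∧
    (∀ β γ : IrrCharacter G, Cfsg.Agent.Lib.Helper83.irrMult (indFun N φ) β ≠ 0 →
      Cfsg.Agent.Lib.Helper83.irrMult (indFun N φ) γ ≠ 0 →
      (β : G → ℂ) * χ = (γ : G → ℂ) * χ → β = γ) ∧
    indFun N (φ * ϑ) = ∑ β : IrrCharacter G,
      (Cfsg.Agent.Lib.Helper83.irrMult (indFun N φ) β : ℂ) • ((β : G → ℂ) * χ) := by
  classical
  have hχcl : IsClassFunction G χ := Cfsg.Agent.Lib.Helper83.char_isClassFunction hχ
  have hϑeq : ϑ = fun n : N => χ n := funext fun n => (hext n).symm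
  have hϑinv : ∀ g : G, conjFun N g ϑ = ϑ := by
    intro g
    rw [hϑeq]
    exact conjFun_restrict N hχcl g
  have hpinv : ∀ g : G, conjFun N g (φ * ϑ) = φ * ϑ := by
    intro g
    rw [conjFun_mul_fun, hφinv, hϑinv]
  have hΦ : IsCharacter G (indFun N φ) :=
    Cfsg.Agent.Lib.Helper34.isCharacter_indFun N (Cfsg.Agent.Lib.Helper83.isCharacter_of_irr hφ)
  have hdec := Cfsg.Agent.Lib.Helper83.char_eq_sum_irrMult hΦ
  set m : IrrCharacter G → ℕ := fun β => Cfsg.Agent.Lib.Helper83.irrMult (indFun N φ) β with hm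
  -- the decomposition of the induced product
  have hdec2 : indFun N (φ * ϑ) = ∑ β : IrrCharacter G, (m β : ℂ) • ((β : G → ℂ) * χ) := by
    rw [hϑeq, indFun_mul_restrict N φ hχcl]
    conv_lhs => rw [hdec]
    rw [Finset.sum_mul]
    refine Finset.sum_congr rfl fun β _ => ?_
    rw [smul_mul_assoc]
  -- inner products of the βχ are natural numbers
  have hbc : ∀ β : IrrCharacter G, IsCharacter G ((β : G → ℂ) * χ) := fun β =>
    Cfsg.Agent.Lib.Helper83.isCharacter_mul (Cfsg.Agent.Lib.Helper83.isCharacter_of_irr β.2) hχ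
  have hnat : ∀ β γ : IrrCharacter G, ∃ k : ℕ,
      classInner ((β : G → ℂ) * χ) ((γ : G → ℂ) * χ) = k := fun β γ =>
    Cfsg.Agent.Lib.Helper83.classInner_char_nat (hbc β) (hbc γ)
  choose a ha using hnat
  -- χ(1) ≠ 0
  have hχ1 : χ 1 ≠ 0 := by
    have h1 : χ 1 = ϑ 1 := hext 1
    have h2 := Cfsg.Agent.Lib.Helper83.irr_degree_ne_zero (⟨φ * ϑ, hprod⟩ : IrrCharacter N)
    simp only [Pi.mul_apply] at h2
    rw [h1]
    exact right_ne_zero_of_mul h2
  have hdiag : ∀ β : IrrCharacter G, 1 ≤ a β β := by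
    intro β
    by_contra hc
    have h0 : a β β = 0 := by omega
    have h1 := ha β β
    rw [h0, Nat.cast_zero, Cfsg.Agent.Lib.Helper34.classInner_self_eq_zero] at h1
    have h2 := congrFun h1 1
    simp only [Pi.mul_apply, Pi.zero_apply] at h2
    rcases mul_eq_zero.mp h2 with h | h
    · exact Cfsg.Agent.Lib.Helper83.irr_degree_ne_zero β h
    · exact hχ1 h
  -- the two norm computations
  have hn1 : ∑ β : IrrCharacter G, m β * m β = N.index := by
    have h1 := classInner_indFun_self_of_invariant N hφ hφinv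
    conv_lhs at h1 => rw [hdec]
    rw [Cfsg.Agent.Lib.Helper83.classInner_sum_irr_self] at h1
    have : ((∑ β : IrrCharacter G, m β * m β : ℕ) : ℂ) = (N.index : ℂ) := by
      rw [← h1]
      push_cast
      exact Finset.sum_congr rfl fun β _ => by rw [Complex.conj_natCast]
    exact_mod_cast this
  have hn2 : ∑ β : IrrCharacter G, ∑ γ : IrrCharacter G, m β * m γ * a β γ = N.index := by
    have h1 := classInner_indFun_self_of_invariant N hprod hpinv
    rw [hdec2, Cfsg.Agent.Lib.Helper83.classInner_sum_left] at h1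
    have : ((∑ β : IrrCharacter G, ∑ γ : IrrCharacter G, m β * m γ * a β γ : ℕ) : ℂ) =
        (N.index : ℂ) := by
      rw [← h1]
      push_cast
      refine Finset.sum_congr rfl fun β _ => ?_
      rw [Cfsg.Agent.Lib.Helper83.classInner_smul_left,
        Cfsg.Agent.Lib.Helper83.classInner_sum_right, Finset.mul_sum]
      refine Finset.sum_congr rfl fun γ _ => ?_
      rw [Cfsg.Agent.Lib.Helper83.classInner_smul_right, ha β γ, Complex.conj_natCast]
      ring
    exact_mod_cast this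
  have harith := gallagher_arith m a hdiag (hn2.trans hn1.symm)
  refine ⟨?_, ?_, hdec2⟩
  · intro β hβ
    refine Cfsg.Agent.Lib.Helper83.isIrrCharacter_of_norm_one (hbc β) ?_
    rw [ha β β, (harith β hβ).1, Nat.cast_one]
  · intro β γ hβ hγ heq
    by_contra hne
    have h0 := (harith β hβ).2 γ (Ne.symm hne) hγ
    have h1 := ha β γ
    rw [h0, Nat.cast_zero, ← heq, ha β β, (harith β hβ).1, Nat.cast_one] at h1
    exact one_ne_zero h1

omit [Fintype N] in
/-- Multiplicities in Gallagher's theorem. -/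
theorem gallagher_mult [Fintype (IrrCharacter G)] {φ ϑ : N → ℂ} (hφ : IsIrrCharacter N φ)
    (hφinv : ∀ g : G, conjFun N g φ = φ)
    (hprod : IsIrrCharacter N (φ * ϑ)) {χ : G → ℂ} (hχ : IsCharacter G χ)
    (hext : ∀ n : N, χ n = ϑ n) (β : IrrCharacter G)
    (hβ : Cfsg.Agent.Lib.Helper83.irrMult (indFun N φ) β ≠ 0) :
    classInner (indFun N (φ * ϑ)) ((β : G → ℂ) * χ) =
      (Cfsg.Agent.Lib.Helper83.irrMult (indFun N φ) β : ℂ) := by
  classical
  obtain ⟨h1, h2, h3⟩ := gallagher_general N hφ hφinv hprod hχ hext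
  rw [h3, Cfsg.Agent.Lib.Helper83.classInner_sum_left, Finset.sum_eq_single β]
  · rw [Cfsg.Agent.Lib.Helper83.classInner_smul_left,
      Cfsg.Agent.Lib.Helper83.irr_inner_self ⟨_, h1 β hβ⟩, mul_one]
  · intro γ _ hγ
    rw [Cfsg.Agent.Lib.Helper83.classInner_smul_left]
    by_cases hm : Cfsg.Agent.Lib.Helper83.irrMult (indFun N φ) γ = 0
    · rw [hm, Nat.cast_zero, zero_mul]
    · have hne : (⟨_, h1 γ hm⟩ : IrrCharacter G) ≠ ⟨_, h1 β hβ⟩ := by
        intro heq
        exact hγ (h2 γ β hm hβ (congrArg Subtype.val heq))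
      rw [Cfsg.Agent.Lib.Helper83.irr_inner_ne hne, mul_zero]
  · intro h
    exact absurd (Finset.mem_univ _) h

omit [Fintype N] in
/-- Surjectivity in Gallagher's theorem. -/
theorem gallagher_surj [Fintype (IrrCharacter G)] {φ ϑ : N → ℂ} (hφ : IsIrrCharacter N φ)
    (hφinv : ∀ g : G, conjFun N g φ = φ)
    (hprod : IsIrrCharacter N (φ * ϑ)) {χ : G → ℂ} (hχ : IsCharacter G χ)
    (hext : ∀ n : N, χ n = ϑ n) {ψ : G → ℂ} (hψ : IsIrrCharacter G ψ)
    (hne : classInner (indFun N (φ * ϑ)) ψ ≠ 0) :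
    ∃ β : IrrCharacter G, Cfsg.Agent.Lib.Helper83.irrMult (indFun N φ) β ≠ 0 ∧
      ψ = (β : G → ℂ) * χ := by
  classical
  obtain ⟨h1, h2, h3⟩ := gallagher_general N hφ hφinv hprod hχ hext
  rw [h3, Cfsg.Agent.Lib.Helper83.classInner_sum_left] at hne
  obtain ⟨β, _, hβ⟩ := Finset.exists_ne_zero_of_sum_ne_zero hne
  rw [Cfsg.Agent.Lib.Helper83.classInner_smul_left] at hβ
  have hm : Cfsg.Agent.Lib.Helper83.irrMult (indFun N φ) β ≠ 0 := by
    intro h0
    apply hβ
    rw [h0, Nat.cast_zero, zero_mul]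
  refine ⟨β, hm, ?_⟩
  exact (irr_eq_of_classInner_ne_zero (h1 β hm) hψ (right_ne_zero_of_mul hβ)).symm

end Gallagher

end Cfsg.Agent.Lib.Helper84
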