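import Mathlib
import Cfsg.Agent.Lib.Helper84.Gallagher
import Cfsg.Agent.Lib.Helper83.LinearCount

set_option autoImplicit false

namespace Cfsg.Agent.Lib.Helper84

open Cfsg
open scoped ComplexConjugate

section Twist

universe u

variable {G : Type u} [Group G] [Fintype G]

/-- An irreducible character times a linear character is irreducible. -/
theorem isIrrCharacter_mul_linear {lam ψ : G → ℂ} (hl : IsCharacter G lam) (h1 : lam 1 = 1)
    (hψ : IsIrrCharacter G ψ) : IsIrrCharacter G (ψ * lam) := by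
  apply Cfsg.Agent.Lib.Helper83.isIrrCharacter_of_norm_one
    (Cfsg.Agent.Lib.Helper83.isCharacter_mul (Cfsg.Agent.Lib.Helper83.isCharacter_of_irr hψ) hl)
  have h2 := Cfsg.Agent.Lib.Helper83.irr_inner_self ⟨ψ, hψ⟩
  rw [Cfsg.Agent.Lib.Helper83.classInner_def] at h2 ⊢
  rw [← h2]
  congr 1
  refine Finset.sum_congr rfl fun g _ => ?_
  simp only [Pi.mul_apply, map_mul]
  have h3 := Cfsg.Agent.Lib.Helper83.char_deg_one_conj_mul hl h1 g
  calc ψ g * lam g * (conj (ψ g) * conj (lam g))
      = ψ g * conj (ψ g) * (lam g * conj (lam g)) := by ring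
    _ = ψ g * conj (ψ g) := by rw [h3, mul_one]

variable (N : Subgroup G) [hN : N.Normal] [Fintype N]

/-- An irreducible character of `G` whose restriction to the normal subgroup `N` contains the
trivial character is constant on `N`. -/
theorem irr_const_of_classInner_one_ne_zero {lam : G → ℂ} (hl : IsIrrCharacter G lam)
    (h : classInner (fun n : N => lam n) (fun _ : N => (1 : ℂ)) ≠ 0) :
    ∀ n ∈ N, lam n = lam 1 := by
  have h1N : IsIrrCharacter N (fun _ : N => (1 : ℂ)) := Cfsg.Agent.Lib.Helper83.isIrrCharacter_one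
  obtain ⟨e, -, he⟩ := restrict_eq_smul_of_invariant N hl h1N (fun g => rfl) h
  intro n hn
  have h2 := congrFun he ⟨n, hn⟩
  have h3 := congrFun he 1
  simp only [Pi.smul_apply, smul_eq_mul, mul_one] at h2 h3
  rw [h2]
  exact h3.symm

/-- If `G/N` is abelian and `θ ∈ Irr(N)` is `G`-invariant, any two irreducible characters of `G`
lying over `θ` differ by a linear character that is trivial on `N`. -/
theorem exists_linear_twist (hab : ∀ x y : G, x * y * x⁻¹ * y⁻¹ ∈ N) {θ : N → ℂ}
    (hθ : IsIrrCharacter N θ) (hinv : ∀ g : G, conjFun N g θ = θ) {ψ ψ' : G → ℂ}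
    (hψ : IsIrrCharacter G ψ) (hψ' : IsIrrCharacter G ψ')
    (h1 : classInner (fun n : N => ψ n) θ ≠ 0) (h2 : classInner (fun n : N => ψ' n) θ ≠ 0) :
    ∃ lam : G → ℂ, IsCharacter G lam ∧ lam 1 = 1 ∧ (∀ n ∈ N, lam n = 1) ∧ ψ' = ψ * lam := by
  classical
  have : Fintype (IrrCharacter G) := Fintype.ofFinite _
  have hψc := Cfsg.Agent.Lib.Helper83.isCharacter_of_irr hψ
  have hψ'c := Cfsg.Agent.Lib.Helper83.isCharacter_of_irr hψ'
  have hψcl := Cfsg.Agent.Lib.Helper83.char_isClassFunction hψc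
  have hψ'cl := Cfsg.Agent.Lib.Helper83.char_isClassFunction hψ'c
  obtain ⟨f, hf, hfe⟩ := restrict_eq_smul_of_invariant N hψ hθ hinv h1
  have hf0 : (f : ℂ) ≠ 0 := by rw [hf]; exact h1
  -- ind (ψ|_N) = ind 1 * ψ
  have hR : IsCharacter G (indFun N (fun _ : N => (1 : ℂ))) :=
    Cfsg.Agent.Lib.Helper34.isCharacter_indFun N Cfsg.Agent.Lib.Helper83.isCharacter_one
  have e1 : indFun N (fun n : N => ψ n) = indFun N (fun _ : N => (1 : ℂ)) * ψ := by
    rw [← indFun_mul_restrict N _ hψcl]
    congr 1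
    funext n
    simp
  have e2 : classInner (indFun N (fun n : N => ψ n)) ψ' ≠ 0 := by
    rw [hfe, Cfsg.Agent.Lib.Helper34.indFun_smul, Cfsg.Agent.Lib.Helper83.classInner_smul_left,
      Cfsg.Agent.Lib.Helper34.classInner_indFun_left N θ ψ' hψ'cl]
    refine mul_ne_zero hf0 ?_
    rw [← Cfsg.Agent.Lib.Helper83.classInner_conj_symm]
    exact (map_ne_zero _).mpr h2
  rw [e1] at e2
  have hdec := Cfsg.Agent.Lib.Helper83.char_eq_sum_irrMult hR
  rw [hdec, Finset.sum_mul, Cfsg.Agent.Lib.Helper83.classInner_sum_left] at e2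
  obtain ⟨lam, -, hlam⟩ := Finset.exists_ne_zero_of_sum_ne_zero e2
  rw [smul_mul_assoc, Cfsg.Agent.Lib.Helper83.classInner_smul_left] at hlam
  have hm : (Cfsg.Agent.Lib.Helper83.irrMult (indFun N (fun _ : N => (1 : ℂ))) lam : ℂ) ≠ 0 :=
    left_ne_zero_of_mul hlam
  have hne : classInner ((lam : G → ℂ) * ψ) ψ' ≠ 0 := right_ne_zero_of_mul hlam
  have hlc := Cfsg.Agent.Lib.Helper83.IrrCharacter_isCharacter lam
  -- lam is trivial on N
  have hconst : ∀ n ∈ N, (lam : G → ℂ) n = (lam : G → ℂ) 1 := by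
    apply irr_const_of_classInner_one_ne_zero N lam.2
    rw [Cfsg.Agent.Lib.Helper83.irrMult_cast hR,
      Cfsg.Agent.Lib.Helper34.classInner_indFun_left N _ _
        (Cfsg.Agent.Lib.Helper83.isClassFunction_irr lam)] at hm
    rw [← Cfsg.Agent.Lib.Helper83.classInner_conj_symm]
    exact (map_ne_zero _).mpr hm
  -- lam is linear
  have hlin : (lam : G → ℂ) 1 = 1 := by
    apply Cfsg.Agent.Lib.Helper83.irr_linear_of_commutator_le lam
    intro x hx
    have hle : commutator G ≤ N := by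
      rw [commutator_def, Subgroup.commutator_le]
      intro a _ b _
      rw [commutatorElement_def]
      exact hab a b
    exact hconst x (hle hx)
  refine ⟨lam, hlc, hlin, fun n hn => by rw [hconst n hn, hlin], ?_⟩
  have hirr : IsIrrCharacter G (ψ * (lam : G → ℂ)) := isIrrCharacter_mul_linear hlc hlin hψ
  rw [mul_comm] at hne
  exact (irr_eq_of_classInner_ne_zero hirr hψ' hne).symm

end Twist

section Inertia

universe u

variable {G : Type u} [Group G] [Fintype G] (H T : Subgroup G) [hN : H.Normal]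
  [Fintype H] [Fintype T] (hHT : H ≤ T)

/-- If `T/H` is abelian and `θ ∈ Irr(H)` is `T`-invariant, all irreducible characters of `T`
lying over `θ` have the same degree. -/
theorem degree_eq_of_abelian_section (hab : ∀ x ∈ T, ∀ y ∈ T, x * y * x⁻¹ * y⁻¹ ∈ H)
    {θ : H → ℂ} (hθ : IsIrrCharacter H θ) (hstab : ∀ t ∈ T, conjFun H t θ = θ)
    {ψ ψ' : T → ℂ} (hψ : IsIrrCharacter T ψ) (hψ' : IsIrrCharacter T ψ')
    (h1 : classInner (resFun H T hHT ψ) θ ≠ 0) (h2 : classInner (resFun H T hHT ψ') θ ≠ 0) :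
    ψ' 1 = ψ 1 := by
  classical
  have : Fintype (H.subgroupOf T) := Fintype.ofFinite _
  have hnorm : (H.subgroupOf T).Normal := inferInstance
  let e := Subgroup.subgroupOfEquivOfLe hHT
  have hres : ∀ a : T → ℂ, (fun x : H.subgroupOf T => a (x : T)) =
      fun x : H.subgroupOf T => resFun H T hHT a (e x) := by
    intro a
    funext x
    rfl
  have hθs : IsIrrCharacter (H.subgroupOf T) (fun x => θ (e x)) :=
    isIrrCharacter_comp_mulEquiv e hθ
  have hab' : ∀ x y : T, x * y * x⁻¹ * y⁻¹ ∈ H.subgroupOf T := by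
    intro x y
    rw [Subgroup.mem_subgroupOf]
    exact hab x x.2 y y.2
  have hinv' : ∀ t : T, conjFun (H.subgroupOf T) t (fun x => θ (e x)) = fun x => θ (e x) := by
    intro t
    funext x
    rw [conjFun_apply]
    have hst := congrFun (hstab (t : G) t.2) (e x)
    rw [conjFun_apply] at hst
    rw [← hst]
    congr 1
  obtain ⟨lam, -, hl1, -, hmul⟩ := exists_linear_twist (H.subgroupOf T) hab' hθs hinv' hψ hψ'
    (by rw [hres, classInner_subgroupOf]; exact h1)
    (by rw [hres, classInner_subgroupOf]; exact h2)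
  rw [hmul, Pi.mul_apply, hl1, mul_one]

end Inertia

end Cfsg.Agent.Lib.Helper84
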