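import Mathlib
import Cfsg.Agent.Lib.Helper84.LinearTwist
import Cfsg.Agent.Lib.Helper83.Central

set_option autoImplicit false

namespace Cfsg.Agent.Lib.Helper84

open Cfsg
open scoped ComplexConjugate

section CosetAvg

universe u

variable {G : Type u} [Group G] [Fintype G] (N : Subgroup G) [hN : N.Normal] [Fintype N]

omit [Fintype G] [Fintype N] in
/-- The indicator function of a normal subgroup is a class function. -/
theorem isClassFunction_indicator : IsClassFunction G (extendByZero N (fun _ : N => (1 : ℂ))) := by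
  intro g h
  by_cases hg : g ∈ N
  · rw [Cfsg.Agent.Lib.Helper34.extendByZero_apply_mem N _ hg,
      Cfsg.Agent.Lib.Helper34.extendByZero_apply_mem N _ (hN.conj_mem g hg h)]
  · have hg' : h * g * h⁻¹ ∉ N := by
      intro hc
      apply hg
      have := hN.conj_mem _ hc h⁻¹
      simpa [mul_assoc] using this
    rw [Cfsg.Agent.Lib.Helper34.extendByZero_apply_not_mem N _ hg,
      Cfsg.Agent.Lib.Helper34.extendByZero_apply_not_mem N _ hg']

/-- The sum of an irreducible character over a coset of a normal subgroup. -/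
theorem sum_coset_irr (γ : IrrCharacter G) (g : G) :
    ∑ n : N, (γ : G → ℂ) ((n : G) * g) =
      (γ : G → ℂ) g * (∑ n : N, (γ : G → ℂ) n) / (γ : G → ℂ) 1 := by
  have h := Cfsg.Agent.Lib.Helper83.irr_sum_classFunction_mul γ (isClassFunction_indicator N) g
  rw [Cfsg.Agent.Lib.Helper34.sum_extendByZero_mul N _ (fun x => (γ : G → ℂ) (g * x)),
    Cfsg.Agent.Lib.Helper34.sum_extendByZero_mul N _ (fun x => (γ : G → ℂ) x)] at h
  simp only [one_mul] at h
  rw [← h]
  refine Finset.sum_congr rfl fun n _ => ?_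
  exact Cfsg.Agent.Lib.Helper83.char_mul_comm (Cfsg.Agent.Lib.Helper83.IrrCharacter_isCharacter γ) g n

/-- Inner product of a coset average with an irreducible character. -/
theorem classInner_cosetAvg (f : G → ℂ) (γ : IrrCharacter G) :
    classInner (fun g => (Nat.card N : ℂ)⁻¹ * ∑ n : N, f ((n : G) * g)) (γ : G → ℂ) =
      conj ((∑ n : N, (γ : G → ℂ) n) / ((Nat.card N : ℂ) * (γ : G → ℂ) 1)) *
        classInner f (γ : G → ℂ) := by
  have hγc := Cfsg.Agent.Lib.Helper83.IrrCharacter_isCharacter γ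
  rw [Cfsg.Agent.Lib.Helper83.classInner_def, Cfsg.Agent.Lib.Helper83.classInner_def]
  have h1 : ∑ g : G, ((Nat.card N : ℂ)⁻¹ * ∑ n : N, f ((n : G) * g)) * conj ((γ : G → ℂ) g) =
      (Nat.card N : ℂ)⁻¹ * ∑ n : N, ∑ g : G, f ((n : G) * g) * conj ((γ : G → ℂ) g) := by
    rw [Finset.sum_comm, Finset.mul_sum]
    refine Finset.sum_congr rfl fun g _ => ?_
    rw [mul_assoc, Finset.sum_mul]
  have h2 : ∀ n : N, ∑ g : G, f ((n : G) * g) * conj ((γ : G → ℂ) g) =
      ∑ g : G, f g * conj ((γ : G → ℂ) ((n : G)⁻¹ * g)) := by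
    intro n
    rw [← Equiv.sum_comp (Equiv.mulLeft (n : G))
      (fun g => f g * conj ((γ : G → ℂ) ((n : G)⁻¹ * g)))]
    refine Finset.sum_congr rfl fun g _ => ?_
    simp
  have h3 : ∀ g : G, ∑ n : N, (γ : G → ℂ) ((n : G)⁻¹ * g) =
      (γ : G → ℂ) g * (∑ n : N, (γ : G → ℂ) n) / (γ : G → ℂ) 1 := by
    intro g
    rw [← sum_coset_irr N γ g, ← Equiv.sum_comp (Equiv.inv N)]
    refine Finset.sum_congr rfl fun n _ => ?_
    simp
  rw [h1]
  simp_rw [h2]
  rw [Finset.sum_comm]
  have h4 : ∀ g : G, ∑ n : N, f g * conj ((γ : G → ℂ) ((n : G)⁻¹ * g)) =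
      f g * conj ((γ : G → ℂ) g * (∑ n : N, (γ : G → ℂ) n) / (γ : G → ℂ) 1) := by
    intro g
    rw [← Finset.mul_sum, ← h3 g, map_sum]
  simp_rw [h4]
  have hNc : (Nat.card N : ℂ) ≠ 0 := Cfsg.Agent.Lib.Helper83.card_ne_zero_complex
  rw [Finset.mul_sum, Finset.mul_sum, Finset.mul_sum, Finset.mul_sum]
  refine Finset.sum_congr rfl fun g _ => ?_
  simp only [map_div₀, map_mul, Complex.conj_natCast]
  field_simp

omit [Fintype G] in
/-- A coset average of a class function is a class function. -/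
theorem isClassFunction_cosetAvg {f : G → ℂ} (hf : IsClassFunction G f) :
    IsClassFunction G (fun g => (Nat.card N : ℂ)⁻¹ * ∑ n : N, f ((n : G) * g)) := by
  intro g h
  simp only
  congr 1
  rw [← Equiv.sum_comp (MulAut.conjNormal h : MulAut N).toEquiv
    (fun n : N => f ((n : G) * (h * g * h⁻¹)))]
  refine Finset.sum_congr rfl fun n _ => ?_
  have e : ((MulAut.conjNormal h : MulAut N) n : G) * (h * g * h⁻¹) = h * ((n : G) * g) * h⁻¹ := by
    rw [MulAut.conjNormal_apply]
    group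
  change f (((MulAut.conjNormal h : MulAut N) n : G) * (h * g * h⁻¹)) = f ((n : G) * g)
  rw [e]
  exact hf _ h

end CosetAvg

section GallagherLinear

universe u

variable {G : Type u} [Group G] [Fintype G] (N : Subgroup G) [hN : N.Normal] [Fintype N]

omit hN in
/-- An irreducible character that is trivial on `N` occurs in `(1_N)^G`. -/
theorem irrMult_ind_one_ne_zero (β : IrrCharacter G) (hβ : ∀ n ∈ N, (β : G → ℂ) n = 1) :
    Cfsg.Agent.Lib.Helper83.irrMult (indFun N (fun _ : N => (1 : ℂ))) β ≠ 0 := by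
  have hR : IsCharacter G (indFun N (fun _ : N => (1 : ℂ))) :=
    Cfsg.Agent.Lib.Helper34.isCharacter_indFun N Cfsg.Agent.Lib.Helper83.isCharacter_one
  have hNc : (Nat.card N : ℂ) ≠ 0 := Cfsg.Agent.Lib.Helper83.card_ne_zero_complex
  have h1 := Cfsg.Agent.Lib.Helper83.irrMult_cast hR β
  rw [Cfsg.Agent.Lib.Helper34.classInner_indFun_left N _ _
    (Cfsg.Agent.Lib.Helper83.isClassFunction_irr β), Cfsg.Agent.Lib.Helper83.classInner_def] at h1
  have h2 : ∑ n : N, (fun _ : N => (1 : ℂ)) n * conj ((β : G → ℂ) n) = (Nat.card N : ℂ) := by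
    rw [Finset.sum_congr rfl (fun (n : N) _ => by rw [hβ (n : G) n.2, map_one, mul_one]),
      Finset.sum_const, Finset.card_univ, nsmul_eq_mul, mul_one, Nat.card_eq_fintype_card]
  rw [h2, inv_mul_cancel₀ hNc] at h1
  intro h0
  rw [h0, Nat.cast_zero] at h1
  exact zero_ne_one h1

/-- **Gallagher, injectivity for linear characters**: if `χ|_N` is irreducible and `κ, κ'` are
linear characters of `G` trivial on `N` with `χ κ = χ κ'`, then `κ = κ'`. -/
theorem mul_linear_injective {χ : G → ℂ} (hχ : IsCharacter G χ)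
    (hχN : IsIrrCharacter N (fun n : N => χ n)) {κ κ' : G → ℂ} (hκ : IsCharacter G κ)
    (hκ' : IsCharacter G κ') (h1 : κ 1 = 1) (h1' : κ' 1 = 1) (hκN : ∀ n ∈ N, κ n = 1)
    (hκN' : ∀ n ∈ N, κ' n = 1) (heq : χ * κ = χ * κ') : κ = κ' := by
  classical
  have : Fintype (IrrCharacter G) := Fintype.ofFinite _
  have h1N : IsIrrCharacter N (fun _ : N => (1 : ℂ)) := Cfsg.Agent.Lib.Helper83.isIrrCharacter_one
  have hone : ((fun _ : N => (1 : ℂ)) * fun n : N => χ n) = fun n : N => χ n := by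
    funext n; simp
  have hprod : IsIrrCharacter N ((fun _ : N => (1 : ℂ)) * fun n : N => χ n) := by
    rw [hone]; exact hχN
  have hinv1 : ∀ g : G, conjFun N g (fun _ : N => (1 : ℂ)) = fun _ : N => (1 : ℂ) := fun g => rfl
  obtain ⟨-, hG2, -⟩ := gallagher_general N h1N hinv1 hprod hχ (fun n => rfl)
  have := hG2 ⟨κ, Cfsg.Agent.Lib.Helper83.isIrrCharacter_of_deg_one hκ h1⟩
    ⟨κ', Cfsg.Agent.Lib.Helper83.isIrrCharacter_of_deg_one hκ' h1'⟩
    (irrMult_ind_one_ne_zero N _ hκN) (irrMult_ind_one_ne_zero N _ hκN')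
    (by rw [mul_comm, heq, mul_comm])
  exact congrArg Subtype.val this

end GallagherLinear

end Cfsg.Agent.Lib.Helper84
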