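import Mathlib
import Cfsg.Agent.Lib.Helper83.SecondOrth
import Cfsg.Agent.S0860

set_option autoImplicit false

namespace Cfsg.Agent.Lib.Helper84

open scoped ComplexConjugate
open Cfsg

/-- Brauer's permutation lemma for a single pair of compatible maps. -/
theorem brauer_pair {G : Type*} [Group G] [Finite G]
    (π : Cfsg.IrrCharacter G → Cfsg.IrrCharacter G) (τ : ConjClasses G ≃ ConjClasses G)
    (hcompat : ∀ (χ : Cfsg.IrrCharacter G) (g g' : G),
      ConjClasses.mk g' = τ (ConjClasses.mk g) → ((π χ : Cfsg.IrrCharacter G) : G → ℂ) g' = (χ : G → ℂ) g) :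
    Nat.card {χ : Cfsg.IrrCharacter G // π χ = χ} = Nat.card {C : ConjClasses G // τ C = C} := by
  classical
  have : Fintype G := Fintype.ofFinite G
  have : Fintype (Cfsg.IrrCharacter G) := Fintype.ofFinite _
  have : Fintype (ConjClasses G) := Fintype.ofFinite _
  have hG : (Nat.card G : ℂ) ≠ 0 := Cfsg.Agent.Lib.Helper83.card_ne_zero_complex
  have h1 : (Nat.card {χ : Cfsg.IrrCharacter G // π χ = χ} : ℂ) =
      ∑ χ : Cfsg.IrrCharacter G, Cfsg.classInner ((π χ : Cfsg.IrrCharacter G) : G → ℂ) (χ : G → ℂ) := by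
    rw [Nat.card_eq_fintype_card, Fintype.card_subtype, Finset.card_filter, Nat.cast_sum]
    refine Finset.sum_congr rfl fun χ _ => ?_
    rw [Cfsg.Agent.Lib.Helper83.irr_orthonormal]
    split_ifs <;> simp
  have hrep : ∀ g : G, ∃ g' : G, ConjClasses.mk g = τ (ConjClasses.mk g') := by
    intro g
    obtain ⟨g', hg'⟩ := ConjClasses.exists_rep (τ.symm (ConjClasses.mk g))
    exact ⟨g', by rw [hg', Equiv.apply_symm_apply]⟩
  choose r hr using hrep
  have h2 : ∀ g : G, ∑ χ : Cfsg.IrrCharacter G,
      ((π χ : Cfsg.IrrCharacter G) : G → ℂ) g * conj ((χ : G → ℂ) g) =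
      (if τ (ConjClasses.mk g) = ConjClasses.mk g then (1 : ℂ) else 0) *
        (Nat.card (Subgroup.centralizer ({g} : Set G)) : ℂ) := by
    intro g
    have : ∀ χ : Cfsg.IrrCharacter G, ((π χ : Cfsg.IrrCharacter G) : G → ℂ) g =
        (χ : G → ℂ) (r g) := fun χ => hcompat χ (r g) g (hr g)
    simp_rw [this]
    rw [Cfsg.Agent.Lib.Helper83.second_orthogonality]
    have hiff : IsConj (r g) g ↔ τ (ConjClasses.mk g) = ConjClasses.mk g := by
      rw [← ConjClasses.mk_eq_mk_iff_isConj]
      constructor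
      · intro h
        have := hr g
        rw [h] at this
        exact this.symm
      · intro h
        have := hr g
        rw [← h] at this
        exact (τ.injective this).symm
    by_cases hc : IsConj (r g) g
    · rw [if_pos hc, if_pos (hiff.mp hc), one_mul]
    · rw [if_neg hc, if_neg (fun h => hc (hiff.mpr h)), zero_mul]
  have h3 : (Nat.card {χ : Cfsg.IrrCharacter G // π χ = χ} : ℂ) * (Nat.card G : ℂ) =
      (Nat.card G : ℂ) * (Nat.card {C : ConjClasses G // τ C = C} : ℂ) := by
    rw [h1, Finset.sum_mul]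
    simp_rw [Cfsg.Agent.Lib.Helper83.classInner_def, mul_comm _ (Nat.card G : ℂ),
      ← mul_assoc, mul_inv_cancel₀ hG, one_mul]
    rw [Finset.sum_comm]
    simp_rw [h2]
    rw [Cfsg.Agent.S0860.sum_class_weighted (fun C => if τ C = C then (1 : ℂ) else 0)]
    congr 1
    rw [Nat.card_eq_fintype_card, Fintype.card_subtype, Finset.card_filter, Nat.cast_sum]
    refine Finset.sum_congr rfl fun C _ => ?_
    split_ifs <;> simp
  rw [mul_comm] at h3
  exact_mod_cast mul_left_cancel₀ hG h3

end Cfsg.Agent.Lib.Helper84
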