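import Mathlib
import Cfsg.Agent.Lib.Helper84.Brauer
import Cfsg.Agent.Lib.Helper83.Decompose

set_option autoImplicit false

namespace Cfsg.Agent.Lib.Helper84

open scoped ComplexConjugate
open Cfsg

section

variable {G : Type*} [Group G]

/-- The inversion map on conjugacy classes. -/
def invClass : ConjClasses G ≃ ConjClasses G where
  toFun := Quotient.map (fun a : G => a⁻¹) (by
    intro a b hab
    obtain ⟨c, hc⟩ := isConj_iff.mp hab
    exact isConj_iff.mpr ⟨c, by rw [← hc]; group⟩)
  invFun := Quotient.map (fun a : G => a⁻¹) (by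
    intro a b hab
    obtain ⟨c, hc⟩ := isConj_iff.mp hab
    exact isConj_iff.mpr ⟨c, by rw [← hc]; group⟩)
  left_inv := by
    intro C
    obtain ⟨k, rfl⟩ := ConjClasses.mk_surjective C
    change ConjClasses.mk (k⁻¹)⁻¹ = ConjClasses.mk k
    rw [inv_inv]
  right_inv := by
    intro C
    obtain ⟨k, rfl⟩ := ConjClasses.mk_surjective C
    change ConjClasses.mk (k⁻¹)⁻¹ = ConjClasses.mk k
    rw [inv_inv]

theorem invClass_mk (k : G) : invClass (ConjClasses.mk k) = ConjClasses.mk k⁻¹ := rfl

variable [Finite G]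

/-- complex conjugation of an irreducible character. -/
theorem isIrrCharacter_conj' {χ : G → ℂ} (hχ : IsIrrCharacter G χ) :
    IsIrrCharacter G (fun g => conj (χ g)) := by
  classical
  have : Fintype G := Fintype.ofFinite G
  apply Cfsg.Agent.Lib.Helper83.isIrrCharacter_of_norm_one
    (Cfsg.Agent.Lib.Helper83.isCharacter_conj (Cfsg.Agent.Lib.Helper83.isCharacter_of_irr hχ))
  have h1 := Cfsg.Agent.Lib.Helper83.irr_inner_self ⟨χ, hχ⟩
  rw [Cfsg.Agent.Lib.Helper83.classInner_def] at h1 ⊢
  rw [← h1]
  congr 1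
  refine Finset.sum_congr rfl fun g _ => ?_
  simp only [Complex.conj_conj]
  ring

/-- conjugation as a map on `IrrCharacter G`. -/
noncomputable def conjIrr' : IrrCharacter G → IrrCharacter G :=
  fun χ => ⟨fun g => conj ((χ : G → ℂ) g), isIrrCharacter_conj' χ.2⟩

theorem conjIrr'_apply (χ : IrrCharacter G) (g : G) :
    ((conjIrr' χ : IrrCharacter G) : G → ℂ) g = conj ((χ : G → ℂ) g) := rfl

theorem conjIrr'_eq_iff (χ : IrrCharacter G) :
    conjIrr' χ = χ ↔ ∀ g : G, ((χ : G → ℂ) g).im = 0 := by
  constructor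
  · intro h g
    have := congrFun (congrArg Subtype.val h) g
    change conj ((χ : G → ℂ) g) = (χ : G → ℂ) g at this
    exact Complex.conj_eq_iff_im.mp this
  · intro h
    apply Subtype.ext
    funext g
    exact Complex.conj_eq_iff_im.mpr (h g)

omit [Finite G] in
theorem invClass_eq_iff (C : ConjClasses G) :
    invClass C = C ↔ ∀ k : G, ConjClasses.mk k = C → IsConj k k⁻¹ := by
  constructor
  · intro h k hk
    rw [← hk, invClass_mk, ConjClasses.mk_eq_mk_iff_isConj] at h
    exact h.symm
  · intro h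
    obtain ⟨k, rfl⟩ := ConjClasses.mk_surjective C
    rw [invClass_mk, ConjClasses.mk_eq_mk_iff_isConj]
    exact (h k rfl).symm

/-- The number of real-valued irreducible characters equals the number of real classes. -/
theorem card_real_irr_eq_card_real_classes :
    Nat.card {χ : IrrCharacter G // ∀ g : G, ((χ : G → ℂ) g).im = 0} =
      Nat.card {C : ConjClasses G // ∀ k : G, ConjClasses.mk k = C → IsConj k k⁻¹} := by
  have h := brauer_pair (G := G) conjIrr' invClass (by
    intro χ g g' hg
    rw [invClass_mk, ConjClasses.mk_eq_mk_iff_isConj] at hg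
    rw [conjIrr'_apply]
    have hcl := Cfsg.Agent.Lib.Helper83.isClassFunction_irr χ
    obtain ⟨c, hc⟩ := isConj_iff.mp hg
    have h1 := hcl g' c
    rw [hc] at h1
    rw [← h1, Cfsg.Agent.Lib.Helper83.char_inv (Cfsg.Agent.Lib.Helper83.IrrCharacter_isCharacter χ),
      Complex.conj_conj])
  rw [← Nat.card_congr (Equiv.subtypeEquivRight (fun χ => conjIrr'_eq_iff χ)),
    ← Nat.card_congr (Equiv.subtypeEquivRight (fun C => invClass_eq_iff C))]
  exact h

end

end Cfsg.Agent.Lib.Helper84
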