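import Mathlib
import Cfsg.Agent.Lib.Helper84.RealCount
import Cfsg.Agent.Lib.Helper83.Quotient

set_option autoImplicit false

namespace Cfsg.Agent.Lib.Helper84

open scoped ComplexConjugate
open Cfsg

section

variable {Q : Type*} [Group Q] [Finite Q]

omit [Finite Q] in
/-- In a group of odd order, the only real element is the identity. -/
theorem eq_one_of_isConj_inv_of_odd (hodd : Odd (Nat.card Q)) {g : Q} (h : IsConj g g⁻¹) :
    g = 1 := by
  obtain ⟨x, hx⟩ := isConj_iff.mp h
  -- `x ^ 2` commutes with `g`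
  have h2 : x ^ 2 * g = g * x ^ 2 := by
    have h3 : x * g⁻¹ * x⁻¹ = g := by
      calc x * g⁻¹ * x⁻¹ = (x * g * x⁻¹)⁻¹ := by group
        _ = g := by rw [hx, inv_inv]
    calc x ^ 2 * g = x * (x * g * x⁻¹) * x := by rw [pow_two]; group
      _ = x * g⁻¹ * x⁻¹ * x ^ 2 := by rw [hx, pow_two]; group
      _ = g * x ^ 2 := by rw [h3]
  -- `x` is a power of `x ^ 2`
  have hxodd : Odd (orderOf x) := Odd.of_dvd_nat hodd (orderOf_dvd_natCard x)
  obtain ⟨k, hk⟩ := hxodd
  have hxpow : x = (x ^ 2) ^ (k + 1) := by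
    rw [← pow_mul]
    have : 2 * (k + 1) = orderOf x + 1 := by omega
    rw [this, pow_succ, pow_orderOf_eq_one, one_mul]
  have hcomm : x * g = g * x := by
    have : Commute (x ^ 2) g := h2
    have h4 : Commute ((x ^ 2) ^ (k + 1)) g := this.pow_left (k + 1)
    rw [← hxpow] at h4
    exact h4
  have hgg : g = g⁻¹ := by
    rw [← hx, hcomm, mul_inv_cancel_right]
  have hg2 : g ^ 2 = 1 := by
    rw [pow_two]
    nth_rewrite 2 [hgg]
    exact mul_inv_cancel g
  have hgodd : Odd (orderOf g) := Odd.of_dvd_nat hodd (orderOf_dvd_natCard g)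
  have hdvd : orderOf g ∣ 2 := orderOf_dvd_of_pow_eq_one hg2
  have h1 : orderOf g = 1 := by
    rcases (Nat.dvd_prime Nat.prime_two).mp hdvd with h | h
    · exact h
    · rw [h] at hgodd; exact absurd hgodd (by decide)
  exact orderOf_eq_one_iff.mp h1

/-- In a group of odd order, the only real-valued irreducible character is the trivial one. -/
theorem real_irr_eq_one_of_odd (hodd : Odd (Nat.card Q)) (β : IrrCharacter Q)
    (hreal : ∀ q : Q, ((β : Q → ℂ) q).im = 0) : (β : Q → ℂ) = fun _ => 1 := by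
  have hcount := card_real_irr_eq_card_real_classes (G := Q)
  have hcl : Nat.card {C : ConjClasses Q // ∀ k : Q, ConjClasses.mk k = C → IsConj k k⁻¹} = 1 := by
    rw [Nat.card_eq_one_iff_unique]
    constructor
    · constructor
      rintro ⟨C, hC⟩ ⟨C', hC'⟩
      apply Subtype.ext
      obtain ⟨k, rfl⟩ := ConjClasses.mk_surjective C
      obtain ⟨k', rfl⟩ := ConjClasses.mk_surjective C'
      change ConjClasses.mk k = ConjClasses.mk k'
      rw [eq_one_of_isConj_inv_of_odd hodd (hC k rfl), eq_one_of_isConj_inv_of_odd hodd (hC' k' rfl)]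
    · refine ⟨⟨ConjClasses.mk 1, ?_⟩⟩
      intro k hk
      rw [ConjClasses.mk_eq_mk_iff_isConj] at hk
      have : k = 1 := by
        obtain ⟨c, hc⟩ := isConj_iff.mp hk
        have h6 : k = c⁻¹ * (c * k * c⁻¹) * c := by group
        rw [h6, hc]; group
      rw [this, inv_one]
  rw [hcl, Nat.card_eq_one_iff_unique] at hcount
  obtain ⟨hsub, _⟩ := hcount
  have htriv : ∀ q : Q, (((Cfsg.Agent.Lib.Helper83.trivChar Q : IrrCharacter Q) : Q → ℂ) q).im = 0 := by
    intro q
    rw [Cfsg.Agent.Lib.Helper83.trivChar_apply]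
    simp
  have := hsub.elim ⟨β, hreal⟩ ⟨Cfsg.Agent.Lib.Helper83.trivChar Q, htriv⟩
  have h2 : β = Cfsg.Agent.Lib.Helper83.trivChar Q := congrArg Subtype.val this
  rw [h2]
  rfl

end

section Quot

universe u

variable {G : Type u} [Group G] [Finite G] (N : Subgroup G) [N.Normal]

/-- If `N` has odd index in `G`, a real-valued irreducible character of `G` which is constant on
`N` is trivial. -/
theorem real_irr_eq_one_of_odd_index (hodd : Odd N.index) (β : IrrCharacter G)
    (hreal : ∀ g : G, ((β : G → ℂ) g).im = 0) (hN : ∀ n ∈ N, (β : G → ℂ) n = (β : G → ℂ) 1) :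
    (β : G → ℂ) = fun _ => 1 := by
  obtain ⟨ψ, hψ, hψβ⟩ := Cfsg.Agent.Lib.Helper83.exists_isIrrCharacter_quotient N β.2 hN
  have hodd' : Odd (Nat.card (G ⧸ N)) := by
    rw [← Subgroup.index_eq_card]; exact hodd
  have hψreal : ∀ q : G ⧸ N, (ψ q).im = 0 := by
    intro q
    obtain ⟨g, rfl⟩ := QuotientGroup.mk_surjective q
    rw [hψβ g]
    exact hreal g
  have h1 := real_irr_eq_one_of_odd hodd' ⟨ψ, hψ⟩ hψreal
  funext g
  rw [← hψβ g]
  exact congrFun h1 _

end Quot

end Cfsg.Agent.Lib.Helper84
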