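import Mathlib
import Cfsg.Agent.Lib.Helper84.Gallagher
import Cfsg.Agent.Lib.Helper84.CosetAvg
import Cfsg.Agent.Lib.Helper84.LinearTwist
import Cfsg.Agent.Lib.Helper84.OddReal
import Cfsg.Agent.Lib.Helper80.GaloisChar
import Cfsg.Agent.Lib.Helper83.Quotient
import Cfsg.Agent.Lib.Helper83.Linear
import Cfsg.Agent.Lib.Helper79.ExtendCyclic
import Cfsg.Agent.Lib.Helper84.NormalAction
import Cfsg.Agent.Lib.Helper84.Clifford
import Cfsg.Agent.S0888
import Cfsg.Agent.Lib.Helper84.CliffordInj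
import Cfsg.Agent.Lib.Helper21.CliffordMid
import Cfsg.Agent.Lib.Helper34.CyclicTIGalois

/-!
# Galois-fixed characters over a normal subgroup of odd index

`σ` is the Galois automorphism `g ↦ g ^ k` where `g ^ k = g⁻¹` for every `g` of odd order.
If `N ⊴ G` has odd index and `θ ∈ Irr(N)` is `σ`-fixed and extends to `G`, then there is a
unique `σ`-fixed irreducible character of `G` over `θ`, and it is an extension of `θ`.
-/

set_option autoImplicit false

namespace Cfsg.Agent.Lib.Helper84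

open Cfsg
open scoped ComplexConjugate

universe u

section SigmaBasic

variable {G : Type u} [Group G] [Fintype G] (N : Subgroup G) [hN : N.Normal] [Fintype N]

omit [Fintype ↥N] in
/-- If `g ^ k = g⁻¹` for all `g` of odd order and `N` has odd index, then `g ^ (k + 1) ∈ N`. -/
theorem pow_succ_mem_of_odd_index (hidx : Odd N.index) (k : ℕ)
    (hk₂ : ∀ g : G, Odd (orderOf g) → g ^ k = g⁻¹) (g : G) : g ^ (k + 1) ∈ N := by
  classical
  have hc0 : Nat.card G ≠ 0 := Nat.card_pos.ne'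
  have har : ordProj[2] (Nat.card G) * ordCompl[2] (Nat.card G) = Nat.card G :=
    Nat.ordProj_mul_ordCompl_eq_self (Nat.card G) 2
  have hrodd : ¬ 2 ∣ ordCompl[2] (Nat.card G) := Nat.not_dvd_ordCompl Nat.prime_two hc0
  have hh : (g ^ ordProj[2] (Nat.card G)) ^ ordCompl[2] (Nat.card G) = 1 := by
    rw [← pow_mul, har]
    exact pow_card_eq_one'
  have hodd : Odd (orderOf (g ^ ordProj[2] (Nat.card G))) := by
    have hdvd : orderOf (g ^ ordProj[2] (Nat.card G)) ∣ ordCompl[2] (Nat.card G) :=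
      orderOf_dvd_of_pow_eq_one hh
    rw [← Nat.not_even_iff_odd, even_iff_two_dvd]
    intro h2
    exact hrodd (h2.trans hdvd)
  have h1 : (g ^ ordProj[2] (Nat.card G)) ^ (k + 1) = 1 := by
    rw [pow_succ, hk₂ _ hodd, inv_mul_cancel]
  have hq : ((g : G ⧸ N)) ^ (ordProj[2] (Nat.card G) * (k + 1)) = 1 := by
    rw [← QuotientGroup.mk_pow, pow_mul, h1]
    rfl
  have hq2 : ((g : G ⧸ N)) ^ N.index = 1 := by
    rw [Subgroup.index_eq_card]
    exact pow_card_eq_one'
  have hdvd1 : orderOf (g : G ⧸ N) ∣ ordProj[2] (Nat.card G) * (k + 1) :=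
    orderOf_dvd_of_pow_eq_one hq
  have hdvd2 : orderOf (g : G ⧸ N) ∣ N.index := orderOf_dvd_of_pow_eq_one hq2
  have hoddq : Odd (orderOf (g : G ⧸ N)) := Odd.of_dvd_nat hidx hdvd2
  have hcop : Nat.Coprime (orderOf (g : G ⧸ N)) (ordProj[2] (Nat.card G)) :=
    Nat.Coprime.pow_right _ (Nat.coprime_two_right.2 hoddq)
  have hdvd3 : orderOf (g : G ⧸ N) ∣ k + 1 := hcop.dvd_of_dvd_mul_left hdvd1
  have h3 : ((g : G ⧸ N)) ^ (k + 1) = 1 := orderOf_dvd_iff_pow_eq_one.1 hdvd3
  rw [← QuotientGroup.mk_pow, QuotientGroup.eq_one_iff] at h3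
  exact h3

omit [Fintype ↥N] in
/-- For a character `β` of `G` that is constant on `N` (odd index), the Galois conjugate
`β ∘ (· ^ k)` is the complex conjugate of `β`. -/
theorem pow_eq_conj_of_const (hidx : Odd N.index) (k : ℕ)
    (hk₂ : ∀ g : G, Odd (orderOf g) → g ^ k = g⁻¹) {β : G → ℂ} (hβ : IsCharacter G β)
    (hβN : ∀ n ∈ N, β n = β 1) (g : G) : β (g ^ k) = conj (β g) := by
  have hmem := pow_succ_mem_of_odd_index N hidx k hk₂ g
  have h1 : g ^ k = g⁻¹ * g ^ (k + 1) := by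
    rw [pow_succ', inv_mul_cancel_left]
  rw [h1, Cfsg.Agent.Lib.Helper83.char_mul_of_mem_ker' hβ (hβN _ hmem) g⁻¹,
    Cfsg.Agent.Lib.Helper83.char_inv hβ]

omit hN in
/-- An irreducible character constant on `N` occurs in `(1_N)^G`. -/
theorem irrMult_ind_one_ne_zero' (β : IrrCharacter G)
    (hβ : ∀ n ∈ N, (β : G → ℂ) n = (β : G → ℂ) 1) :
    Cfsg.Agent.Lib.Helper83.irrMult (indFun N (fun _ : N => (1 : ℂ))) β ≠ 0 := by
  have hR : IsCharacter G (indFun N (fun _ : N => (1 : ℂ))) :=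
    Cfsg.Agent.Lib.Helper34.isCharacter_indFun N Cfsg.Agent.Lib.Helper83.isCharacter_one
  have hNc : (Nat.card N : ℂ) ≠ 0 := Cfsg.Agent.Lib.Helper83.card_ne_zero_complex
  have h1 := Cfsg.Agent.Lib.Helper83.irrMult_cast hR β
  rw [Cfsg.Agent.Lib.Helper34.classInner_indFun_left N _ _
    (Cfsg.Agent.Lib.Helper83.isClassFunction_irr β), Cfsg.Agent.Lib.Helper83.classInner_def] at h1
  have h2 : ∑ n : N, (fun _ : N => (1 : ℂ)) n * conj ((β : G → ℂ) n) =
      (Nat.card N : ℂ) * conj ((β : G → ℂ) 1) := by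
    rw [Finset.sum_congr rfl (fun (n : N) _ => by rw [hβ (n : G) n.2, one_mul]),
      Finset.sum_const, Finset.card_univ, nsmul_eq_mul, Nat.card_eq_fintype_card]
  rw [h2, ← mul_assoc, inv_mul_cancel₀ hNc, one_mul] at h1
  intro h0
  rw [h0, Nat.cast_zero] at h1
  exact Cfsg.Agent.Lib.Helper83.irr_degree_ne_zero β ((map_eq_zero _).1 h1.symm)

/-- An irreducible character occurring in `(1_N)^G` is constant on `N`. -/
theorem const_of_irrMult_ind_one_ne_zero (β : IrrCharacter G)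
    (hβ : Cfsg.Agent.Lib.Helper83.irrMult (indFun N (fun _ : N => (1 : ℂ))) β ≠ 0) :
    ∀ n ∈ N, (β : G → ℂ) n = (β : G → ℂ) 1 := by
  have hR : IsCharacter G (indFun N (fun _ : N => (1 : ℂ))) :=
    Cfsg.Agent.Lib.Helper34.isCharacter_indFun N Cfsg.Agent.Lib.Helper83.isCharacter_one
  have h1 := Cfsg.Agent.Lib.Helper83.irrMult_cast hR β
  rw [Cfsg.Agent.Lib.Helper34.classInner_indFun_left N _ _
    (Cfsg.Agent.Lib.Helper83.isClassFunction_irr β)] at h1
  apply irr_const_of_classInner_one_ne_zero N β.2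
  rw [← Cfsg.Agent.Lib.Helper83.classInner_conj_symm, ← h1]
  rw [Ne, map_eq_zero]
  exact_mod_cast hβ

end SigmaBasic

section LemmaA

variable {G : Type u} [Group G] [Fintype G] (N : Subgroup G) [hN : N.Normal] [Fintype N]

/-- Gallagher: if `θ` extends to `X`, every irreducible character over `θ` is `β X` with `β`
irreducible and constant on `N`. -/
theorem exists_mul_of_over_ext {θ : N → ℂ} (hθ : IsIrrCharacter N θ) {X : G → ℂ}
    (hX : IsIrrCharacter G X) (hXres : ∀ n : N, X n = θ n) {ψ : G → ℂ}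
    (hψ : IsIrrCharacter G ψ) (hover : classInner (fun n : N => ψ n) θ ≠ 0) :
    ∃ β : IrrCharacter G, (∀ n ∈ N, (β : G → ℂ) n = (β : G → ℂ) 1) ∧
      ψ = (β : G → ℂ) * X := by
  classical
  have : Fintype (IrrCharacter G) := Fintype.ofFinite _
  have hXc := Cfsg.Agent.Lib.Helper83.isCharacter_of_irr hX
  have hψcl := Cfsg.Agent.Lib.Helper83.char_isClassFunction
    (Cfsg.Agent.Lib.Helper83.isCharacter_of_irr hψ)
  have h1N : IsIrrCharacter N (fun _ : N => (1 : ℂ)) := Cfsg.Agent.Lib.Helper83.isIrrCharacter_one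
  have hθeq : θ = fun n : N => X n := funext fun n => (hXres n).symm
  have hone : ((fun _ : N => (1 : ℂ)) * fun n : N => X n) = fun n : N => X n := by
    funext n; simp
  have hprod : IsIrrCharacter N ((fun _ : N => (1 : ℂ)) * fun n : N => X n) := by
    rw [hone, ← hθeq]; exact hθ
  have hinv1 : ∀ g : G, conjFun N g (fun _ : N => (1 : ℂ)) = fun _ : N => (1 : ℂ) := fun g => rfl
  have hfrob : classInner (indFun N ((fun _ : N => (1 : ℂ)) * fun n : N => X n)) ψ =
      conj (classInner (fun n : N => ψ n) (fun n : N => X n)) := by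
    rw [hone, Cfsg.Agent.Lib.Helper34.classInner_indFun_left N _ ψ hψcl,
      Cfsg.Agent.Lib.Helper83.classInner_conj_symm]
  have hne' : classInner (indFun N ((fun _ : N => (1 : ℂ)) * fun n : N => X n)) ψ ≠ 0 := by
    rw [hfrob, ← hθeq]
    exact (map_ne_zero _).mpr hover
  obtain ⟨β, hβ, hψβ⟩ := gallagher_surj N h1N hinv1 hprod hXc (fun n => rfl) hψ hne'
  exact ⟨β, const_of_irrMult_ind_one_ne_zero N β hβ, hψβ⟩

/-- Gallagher, injectivity: `β ↦ β X` is injective on irreducible characters constant on `N`. -/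
theorem mul_ext_injective {θ : N → ℂ} (hθ : IsIrrCharacter N θ) {X : G → ℂ}
    (hX : IsIrrCharacter G X) (hXres : ∀ n : N, X n = θ n) {β γ : IrrCharacter G}
    (hβ : ∀ n ∈ N, (β : G → ℂ) n = (β : G → ℂ) 1)
    (hγ : ∀ n ∈ N, (γ : G → ℂ) n = (γ : G → ℂ) 1)
    (h : (β : G → ℂ) * X = (γ : G → ℂ) * X) : β = γ := by
  classical
  have : Fintype (IrrCharacter G) := Fintype.ofFinite _
  have hXc := Cfsg.Agent.Lib.Helper83.isCharacter_of_irr hX
  have h1N : IsIrrCharacter N (fun _ : N => (1 : ℂ)) := Cfsg.Agent.Lib.Helper83.isIrrCharacter_one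
  have hθeq : θ = fun n : N => X n := funext fun n => (hXres n).symm
  have hone : ((fun _ : N => (1 : ℂ)) * fun n : N => X n) = fun n : N => X n := by
    funext n; simp
  have hprod : IsIrrCharacter N ((fun _ : N => (1 : ℂ)) * fun n : N => X n) := by
    rw [hone, ← hθeq]; exact hθ
  have hinv1 : ∀ g : G, conjFun N g (fun _ : N => (1 : ℂ)) = fun _ : N => (1 : ℂ) := fun g => rfl
  obtain ⟨_, hG2, _⟩ := gallagher_general N h1N hinv1 hprod hXc (fun n => rfl)
  exact hG2 β γ (irrMult_ind_one_ne_zero' N β hβ) (irrMult_ind_one_ne_zero' N γ hγ) h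

omit [Fintype G] in
theorem isCharacter_pow_fun {χ : G → ℂ} (hχ : IsCharacter G χ) (j : ℕ) :
    IsCharacter G (χ ^ j) := by
  induction j with
  | zero =>
    rw [pow_zero]
    exact Cfsg.Agent.Lib.Helper83.isCharacter_one
  | succ j ih =>
    rw [pow_succ]
    exact Cfsg.Agent.Lib.Helper83.isCharacter_mul ih hχ

/-- **Lemma A.**  If `N ⊴ G` has odd index, `θ ∈ Irr(N)` is `σ`-fixed and extends to `G`, then
there is a unique `σ`-fixed irreducible character of `G` over `θ`; it extends `θ`. -/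
theorem sigma_unique_of_ext (hidx : Odd N.index) (k : ℕ) (hk : k.Coprime (Nat.card G))
    (hk₂ : ∀ g : G, Odd (orderOf g) → g ^ k = g⁻¹) {θ : N → ℂ} (hθ : IsIrrCharacter N θ)
    (hθσ : ∀ n : N, θ (n ^ k) = θ n) {η : G → ℂ} (hη : IsIrrCharacter G η)
    (hηres : ∀ n : N, η n = θ n) :
    ∃ χ : G → ℂ, IsIrrCharacter G χ ∧ (∀ n : N, χ n = θ n) ∧ (∀ g : G, χ (g ^ k) = χ g) ∧
      ∀ χ' : G → ℂ, IsIrrCharacter G χ' → classInner (fun n : N => χ' n) θ ≠ 0 →
        (∀ g : G, χ' (g ^ k) = χ' g) → χ' = χ := by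
  classical
  have hησ : IsIrrCharacter G (fun g => η (g ^ k)) :=
    Cfsg.Agent.Lib.Helper80.isIrrCharacter_pow_coprime hη k hk
  have hησres : ∀ n : N, η ((n : G) ^ k) = θ n := by
    intro n
    have h1 : ((n : G) ^ k) = ((n ^ k : N) : G) := by simp
    rw [h1, hηres, hθσ]
  have hover : classInner (fun n : N => (fun g => η (g ^ k)) (n : G)) θ ≠ 0 := by
    rw [show (fun n : N => (fun g => η (g ^ k)) (n : G)) = θ from funext hησres,
      Cfsg.Agent.Lib.Helper83.irr_inner_self ⟨θ, hθ⟩]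
    exact one_ne_zero
  obtain ⟨lam, hlamN, hlam⟩ := exists_mul_of_over_ext N hθ hη hηres hησ hover
  have hη1 : η 1 ≠ 0 := Cfsg.Agent.Lib.Helper83.irr_degree_ne_zero ⟨η, hη⟩
  have hlam1 : (lam : G → ℂ) 1 = 1 := by
    have h1 := congrFun hlam 1
    simp only [one_pow, Pi.mul_apply] at h1
    have h2 : (1 : ℂ) * η 1 = (lam : G → ℂ) 1 * η 1 := by rw [one_mul]; exact h1
    exact (mul_right_cancel₀ hη1 h2).symm
  have hlamc := Cfsg.Agent.Lib.Helper83.isCharacter_of_irr lam.2
  have hhom : ∀ (g : G) (j : ℕ), (lam : G → ℂ) (g ^ j) = (lam : G → ℂ) g ^ j := by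
    intro g j
    induction j with
    | zero => simp [hlam1]
    | succ j ih =>
      rw [pow_succ, Cfsg.Agent.Lib.Helper83.char_deg_one_mul hlamc hlam1, ih, pow_succ]
  have hlampow : ∀ g : G, (lam : G → ℂ) g ^ N.index = 1 := by
    intro g
    rw [← hhom]
    have hmem : g ^ N.index ∈ N := by
      have h1 : ((g : G ⧸ N)) ^ N.index = 1 := by
        rw [Subgroup.index_eq_card]
        exact pow_card_eq_one'
      rw [← QuotientGroup.mk_pow, QuotientGroup.eq_one_iff] at h1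
      exact h1
    rw [hlamN _ hmem, hlam1]
  obtain ⟨j, hj⟩ := id hidx
  set μ : G → ℂ := (lam : G → ℂ) ^ (j + 1) with hμ
  have hμc : IsCharacter G μ := isCharacter_pow_fun hlamc (j + 1)
  have hμ1 : μ 1 = 1 := by simp [hμ, hlam1]
  have hμN : ∀ n ∈ N, μ n = 1 := by
    intro n hn
    simp [hμ, hlamN n hn, hlam1]
  have hμsq : ∀ g, μ g * μ g = (lam : G → ℂ) g := by
    intro g
    simp only [hμ, Pi.pow_apply]
    rw [← pow_add]
    have h1 : j + 1 + (j + 1) = N.index + 1 := by omega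
    rw [h1, pow_succ, hlampow g, one_mul]
  have hX : IsIrrCharacter G (η * μ) := isIrrCharacter_mul_linear hμc hμ1 hη
  have hXres : ∀ n : N, (η * μ) n = θ n := by
    intro n
    simp [Pi.mul_apply, hμN n n.2, hηres]
  have hXσ : ∀ g : G, (η * μ) (g ^ k) = (η * μ) g := by
    intro g
    have h1 : η (g ^ k) = (lam : G → ℂ) g * η g := congrFun hlam g
    have h2 : μ (g ^ k) = conj (μ g) :=
      pow_eq_conj_of_const N hidx k hk₂ hμc (fun n hn => by rw [hμN n hn, hμ1]) g
    have h3 : μ g * conj (μ g) = 1 := Cfsg.Agent.Lib.Helper83.char_deg_one_conj_mul hμc hμ1 g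
    show η (g ^ k) * μ (g ^ k) = η g * μ g
    rw [h1, h2, ← hμsq g]
    calc μ g * μ g * η g * conj (μ g) = η g * μ g * (μ g * conj (μ g)) := by ring
      _ = η g * μ g := by rw [h3, mul_one]
  refine ⟨η * μ, hX, hXres, hXσ, ?_⟩
  intro χ' hχ' hover' hχ'σ
  obtain ⟨β, hβN, hχ'β⟩ := exists_mul_of_over_ext N hθ hX hXres hχ' hover'
  have hβc := Cfsg.Agent.Lib.Helper83.isCharacter_of_irr β.2
  have hβσ : ∀ g, (β : G → ℂ) (g ^ k) = conj ((β : G → ℂ) g) :=
    pow_eq_conj_of_const N hidx k hk₂ hβc hβN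
  have hβbarN : ∀ n ∈ N, ((⟨fun g => conj ((β : G → ℂ) g), isIrrCharacter_conj' β.2⟩ :
      IrrCharacter G) : G → ℂ) n = ((⟨fun g => conj ((β : G → ℂ) g), isIrrCharacter_conj' β.2⟩ :
      IrrCharacter G) : G → ℂ) 1 := by
    intro n hn
    show conj ((β : G → ℂ) n) = conj ((β : G → ℂ) 1)
    rw [hβN n hn]
  have heq : ((⟨fun g => conj ((β : G → ℂ) g), isIrrCharacter_conj' β.2⟩ :
      IrrCharacter G) : G → ℂ) * (η * μ) = (β : G → ℂ) * (η * μ) := by
    funext g
    show conj ((β : G → ℂ) g) * (η * μ) g = (β : G → ℂ) g * (η * μ) g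
    have h1 := hχ'σ g
    rw [hχ'β] at h1
    simp only [Pi.mul_apply] at h1 ⊢
    rw [hβσ] at h1
    have h2 := hXσ g
    simp only [Pi.mul_apply] at h2
    rw [h2] at h1
    exact h1
  have hβeq := mul_ext_injective N hθ hX hXres hβbarN hβN heq
  have hreal : ∀ g, ((β : G → ℂ) g).im = 0 := by
    intro g
    have h1 : conj ((β : G → ℂ) g) = (β : G → ℂ) g :=
      congrArg (fun b : IrrCharacter G => (b : G → ℂ) g) hβeq
    exact Complex.conj_eq_iff_im.1 h1
  have hβtriv := real_irr_eq_one_of_odd_index N hidx β hreal hβN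
  rw [hχ'β, hβtriv]
  funext g
  simp

end LemmaA

section Transport

variable {G : Type u} [Group G] [Finite G] (N M : Subgroup G) (hNM : N ≤ M)

/-- Transport of a function on `N` to `N.subgroupOf M`. -/
def toSubgroupOf (θ : N → ℂ) : N.subgroupOf M → ℂ :=
  fun x => θ (Subgroup.subgroupOfEquivOfLe hNM x)

omit [Finite G] in
theorem toSubgroupOf_apply (θ : N → ℂ) (x : N.subgroupOf M) :
    toSubgroupOf N M hNM θ x = θ ⟨((x : M) : G), x.2⟩ := rfl

omit [Finite G] in
theorem toSubgroupOf_mk (θ : N → ℂ) (n : N) :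
    toSubgroupOf N M hNM θ ⟨⟨(n : G), hNM n.2⟩, n.2⟩ = θ n := rfl

theorem isIrrCharacter_toSubgroupOf {θ : N → ℂ} (hθ : IsIrrCharacter N θ) :
    IsIrrCharacter (N.subgroupOf M) (toSubgroupOf N M hNM θ) :=
  isIrrCharacter_comp_mulEquiv (Subgroup.subgroupOfEquivOfLe hNM) hθ

omit [Finite G] in
theorem toSubgroupOf_pow {θ : N → ℂ} (k : ℕ) (hθσ : ∀ n : N, θ (n ^ k) = θ n)
    (x : N.subgroupOf M) : toSubgroupOf N M hNM θ (x ^ k) = toSubgroupOf N M hNM θ x := by
  unfold toSubgroupOf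
  rw [map_pow, hθσ]

omit [Finite G] in
theorem toSubgroupOf_conj [hN : N.Normal] {θ : N → ℂ}
    (hinv : ∀ g ∈ M, ∀ n : N, θ ⟨g * n * g⁻¹, hN.conj_mem n n.2 g⟩ = θ n)
    (m : M) (x : N.subgroupOf M) :
    toSubgroupOf N M hNM θ ⟨m * x * m⁻¹, (inferInstance : (N.subgroupOf M).Normal).conj_mem x x.2 m⟩
      = toSubgroupOf N M hNM θ x := by
  rw [toSubgroupOf_apply, toSubgroupOf_apply]
  exact hinv (m : G) m.2 ⟨((x : M) : G), x.2⟩

omit [Finite G] in
theorem coprime_card_subgroup (k : ℕ) (hk : k.Coprime (Nat.card G)) :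
    k.Coprime (Nat.card M) :=
  Nat.Coprime.coprime_dvd_right (Subgroup.card_subgroup_dvd_card M) hk

omit [Finite G] in
theorem pow_eq_inv_subgroup (k : ℕ) (hk₂ : ∀ g : G, Odd (orderOf g) → g ^ k = g⁻¹) (g : M)
    (hg : Odd (orderOf g)) : g ^ k = g⁻¹ := by
  apply Subtype.ext
  rw [Subgroup.coe_pow, Subgroup.coe_inv]
  apply hk₂
  rwa [Subgroup.orderOf_coe]

omit [Finite G] in
include hNM in
theorem odd_index_subgroupOf (hidx : Odd N.index) : Odd (N.subgroupOf M).index :=
  Odd.of_dvd_nat hidx (Subgroup.relIndex_dvd_index_of_le hNM)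

end Transport

section Cyclic

/-- An invariant irreducible character of a normal subgroup with cyclic quotient extends. -/
theorem exists_ext_of_cyclic {G : Type u} [Group G] [Finite G] (N : Subgroup G) [hN : N.Normal]
    (hcyc : IsCyclic (G ⧸ N)) {θ : N → ℂ} (hθ : IsIrrCharacter N θ)
    (hinv : ∀ (g : G) (n : N), θ ⟨g * n * g⁻¹, hN.conj_mem n n.2 g⟩ = θ n) :
    ∃ η : G → ℂ, IsIrrCharacter G η ∧ ∀ n : N, η n = θ n := by
  obtain ⟨d, ρ, hρ, hρθ⟩ := hθ
  have := hρ
  obtain ⟨σ, hσ, hσres⟩ := Cfsg.Agent.Lib.Helper79.exists_irreducible_extension N ρ hcyc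
    (by
      intro g n
      rw [hρθ]
      exact hinv g n)
  refine ⟨σ.character, ⟨d, σ, hσ, rfl⟩, ?_⟩
  intro n
  rw [← hρθ]
  show LinearMap.trace ℂ _ (σ (n : G)) = LinearMap.trace ℂ _ (ρ n)
  rw [hσres]

end Cyclic

section LemmaB

/-- **Lemma B.** If `G / N` is a `q`-group of odd order, a `G`-invariant `σ`-fixed `θ ∈ Irr(N)`
extends to `G`. -/
theorem exists_ext_of_prime_power_index (q : ℕ) (hq : q.Prime) (k : ℕ) :
    ∀ (a : ℕ) (G : Type u) [Group G] [Finite G] (N : Subgroup G) [hN : N.Normal],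
      N.index = q ^ a → Odd N.index → k.Coprime (Nat.card G) →
      (∀ g : G, Odd (orderOf g) → g ^ k = g⁻¹) →
      ∀ θ : N → ℂ, IsIrrCharacter N θ → (∀ n : N, θ (n ^ k) = θ n) →
      (∀ (g : G) (n : N), θ ⟨g * n * g⁻¹, hN.conj_mem n n.2 g⟩ = θ n) →
      ∃ η : G → ℂ, IsIrrCharacter G η ∧ ∀ n : N, η n = θ n := by
  intro a
  induction a with
  | zero =>
    intro G _ _ N hN hind _ _ _ θ hθ _ hinv
    have hcyc : IsCyclic (G ⧸ N) := by
      have h1 : Nat.card (G ⧸ N) = 1 := by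
        rw [← Subgroup.index_eq_card, hind, pow_zero]
      have : Subsingleton (G ⧸ N) := (Nat.card_eq_one_iff_unique.mp h1).1
      exact isCyclic_of_subsingleton
    exact exists_ext_of_cyclic N hcyc hθ hinv
  | succ a ih =>
    intro G _ _ N hN hind hodd hk hk₂ θ hθ hθσ hinv
    classical
    have : Fact q.Prime := ⟨hq⟩
    have hcardQ : Nat.card (G ⧸ N) = q ^ (a + 1) := by
      rw [← Subgroup.index_eq_card]; exact hind
    obtain ⟨K, hK⟩ := Sylow.exists_subgroup_card_pow_prime (G := G ⧸ N) q (n := a)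
      (by rw [hcardQ]; exact pow_dvd_pow q (Nat.le_succ a))
    have hKidx : K.index = q := by
      have h1 := Subgroup.card_mul_index K
      rw [hK, hcardQ, pow_succ] at h1
      exact Nat.eq_of_mul_eq_mul_left (pow_pos hq.pos a) h1
    have hKn : K.Normal := by
      apply Subgroup.normal_of_index_eq_minFac_card
      rw [hKidx, hcardQ, Nat.pow_minFac (Nat.succ_ne_zero a), hq.minFac_eq]
    have hMn : (K.comap (QuotientGroup.mk' N)).Normal := hKn.comap _
    have hNM : N ≤ K.comap (QuotientGroup.mk' N) := by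
      intro n hn
      show (QuotientGroup.mk' N n) ∈ K
      have h1 : QuotientGroup.mk' N n = 1 := (QuotientGroup.eq_one_iff n).2 hn
      rw [h1]
      exact K.one_mem
    have hMidx : (K.comap (QuotientGroup.mk' N)).index = q := by
      rw [Subgroup.index_comap_of_surjective K (QuotientGroup.mk'_surjective N), hKidx]
    generalize K.comap (QuotientGroup.mk' N) = M at hMn hNM hMidx
    have hrel : (N.subgroupOf M).index = q ^ a := by
      have h1 : N.relIndex M * M.index = N.index := Subgroup.relIndex_mul_index hNM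
      rw [hMidx, hind, pow_succ] at h1
      exact Nat.eq_of_mul_eq_mul_right hq.pos h1
    have hinvM : ∀ g ∈ M, ∀ n : N, θ ⟨g * n * g⁻¹, hN.conj_mem n n.2 g⟩ = θ n :=
      fun g _ n => hinv g n
    obtain ⟨η', hη', hη'res⟩ := ih M (N.subgroupOf M) hrel (odd_index_subgroupOf N M hNM hodd)
      (coprime_card_subgroup M k hk) (pow_eq_inv_subgroup M k hk₂) (toSubgroupOf N M hNM θ)
      (isIrrCharacter_toSubgroupOf N M hNM hθ) (toSubgroupOf_pow N M hNM k hθσ)
      (fun m x => toSubgroupOf_conj N M hNM hinvM m x)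
    have : Fintype M := Fintype.ofFinite _
    have : Fintype (N.subgroupOf M) := Fintype.ofFinite _
    obtain ⟨ψ, hψ, hψres, hψσ, hψuniq⟩ := sigma_unique_of_ext (N.subgroupOf M)
      (odd_index_subgroupOf N M hNM hodd) k (coprime_card_subgroup M k hk)
      (pow_eq_inv_subgroup M k hk₂) (isIrrCharacter_toSubgroupOf N M hNM hθ)
      (toSubgroupOf_pow N M hNM k hθσ) hη' hη'res
    have hψinv : ∀ (g : G) (m : M), ψ ⟨g * m * g⁻¹, hMn.conj_mem m m.2 g⟩ = ψ m := by
      intro g m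
      have hconj : IsIrrCharacter M (conjFun M g ψ) := isIrrCharacter_conjFun M g hψ
      have heq : conjFun M g ψ = ψ := by
        apply hψuniq _ hconj
        · have hres : (fun x : N.subgroupOf M => conjFun M g ψ (x : M)) =
              toSubgroupOf N M hNM θ := by
            funext x
            rw [conjFun_apply]
            have hmem : (⟨g * ((x : M) : G) * g⁻¹, hMn.conj_mem _ (x : M).2 g⟩ : M) ∈
                N.subgroupOf M := by
              show g * ((x : M) : G) * g⁻¹ ∈ N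
              exact hN.conj_mem _ x.2 g
            have h1 := hψres ⟨_, hmem⟩
            rw [h1, toSubgroupOf_apply, toSubgroupOf_apply]
            exact hinv g ⟨((x : M) : G), x.2⟩
          rw [hres, Cfsg.Agent.Lib.Helper83.irr_inner_self
            ⟨_, isIrrCharacter_toSubgroupOf N M hNM hθ⟩]
          exact one_ne_zero
        · intro m'
          rw [conjFun_apply, conjFun_apply]
          have h1 : (⟨g * ((m' ^ k : M) : G) * g⁻¹, hMn.conj_mem _ (m' ^ k).2 g⟩ : M) =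
              (⟨g * (m' : G) * g⁻¹, hMn.conj_mem _ m'.2 g⟩ : M) ^ k := by
            apply Subtype.ext
            simp only [Subgroup.coe_pow, conj_pow]
          rw [h1, hψσ]
      have h2 := congrFun heq m
      rw [conjFun_apply] at h2
      exact h2
    have hcycM : IsCyclic (G ⧸ M) := by
      have hc : Nat.card (G ⧸ M) = q := by rw [← Subgroup.index_eq_card]; exact hMidx
      exact isCyclic_of_prime_card hc
    obtain ⟨χ, hχ, hχres⟩ := exists_ext_of_cyclic M hcycM hψ hψinv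
    refine ⟨χ, hχ, ?_⟩
    intro n
    have h1 := hχres ⟨(n : G), hNM n.2⟩
    have h2 := hψres ⟨⟨(n : G), hNM n.2⟩, n.2⟩
    rw [toSubgroupOf_mk] at h2
    rw [← h2]
    exact h1

end LemmaB

section LemmaC

/-- **Lemma C.** If `N ⊴ G` has odd index, a `G`-invariant `σ`-fixed `θ ∈ Irr(N)` extends
to `G`. -/
theorem exists_ext_of_odd_index {G : Type u} [Group G] [Finite G] (N : Subgroup G)
    [hN : N.Normal] (hidx : Odd N.index) (k : ℕ) (hk : k.Coprime (Nat.card G))
    (hk₂ : ∀ g : G, Odd (orderOf g) → g ^ k = g⁻¹) {θ : N → ℂ} (hθ : IsIrrCharacter N θ)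
    (hθσ : ∀ n : N, θ (n ^ k) = θ n)
    (hinv : ∀ (g : G) (n : N), θ ⟨g * n * g⁻¹, hN.conj_mem n n.2 g⟩ = θ n) :
    ∃ η : G → ℂ, IsIrrCharacter G η ∧ ∀ n : N, η n = θ n := by
  apply Cfsg.Agent.S0888.result N θ hθ hinv
  intro p hp
  have : Fact p.Prime := ⟨hp⟩
  obtain ⟨S⟩ := (inferInstance : Nonempty (Sylow p (G ⧸ N)))
  have hNP : N ≤ (S : Subgroup (G ⧸ N)).comap (QuotientGroup.mk' N) := by
    intro n hn
    show (QuotientGroup.mk' N n) ∈ (S : Subgroup (G ⧸ N))
    have h1 : QuotientGroup.mk' N n = 1 := (QuotientGroup.eq_one_iff n).2 hn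
    rw [h1]
    exact (S : Subgroup (G ⧸ N)).one_mem
  have hPidx : ((S : Subgroup (G ⧸ N)).comap (QuotientGroup.mk' N)).index =
      (S : Subgroup (G ⧸ N)).index :=
    Subgroup.index_comap_of_surjective _ (QuotientGroup.mk'_surjective N)
  obtain ⟨n, hn⟩ := IsPGroup.iff_card.1 S.isPGroup'
  have hcardQ : Nat.card (G ⧸ N) = N.index := (Subgroup.index_eq_card N).symm
  have hSidx0 : (S : Subgroup (G ⧸ N)).index ≠ 0 := Subgroup.index_ne_zero_of_finite
  generalize (S : Subgroup (G ⧸ N)).comap (QuotientGroup.mk' N) = P at hNP hPidx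
  have hrel : N.relIndex P = p ^ n := by
    have h1 : N.relIndex P * P.index = N.index := Subgroup.relIndex_mul_index hNP
    have h2 := Subgroup.card_mul_index (S : Subgroup (G ⧸ N))
    rw [hcardQ, hn] at h2
    rw [hPidx, ← h2] at h1
    exact Nat.eq_of_mul_eq_mul_right (Nat.pos_of_ne_zero hSidx0) h1
  have hcop : Nat.Coprime P.index p := by
    rw [hPidx]
    exact ((Nat.Prime.coprime_iff_not_dvd hp).2 S.not_dvd_index).symm
  have hinvP : ∀ g ∈ P, ∀ m : N, θ ⟨g * m * g⁻¹, hN.conj_mem m m.2 g⟩ = θ m :=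
    fun g _ m => hinv g m
  obtain ⟨η', hη', hη'res⟩ := exists_ext_of_prime_power_index p hp k n P (N.subgroupOf P) hrel
    (odd_index_subgroupOf N P hNP hidx) (coprime_card_subgroup P k hk)
    (pow_eq_inv_subgroup P k hk₂) (toSubgroupOf N P hNP θ)
    (isIrrCharacter_toSubgroupOf N P hNP hθ) (toSubgroupOf_pow N P hNP k hθσ)
    (fun m x => toSubgroupOf_conj N P hNP hinvP m x)
  refine ⟨P, hNP, η', hcop, ⟨n, hrel⟩, hη', ?_⟩
  intro m
  have h1 := hη'res ⟨⟨(m : G), hNP m.2⟩, m.2⟩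
  rw [toSubgroupOf_mk] at h1
  exact h1

/-- **Main Lemma (invariant case).** If `N ⊴ G` has odd index and `θ ∈ Irr(N)` is `G`-invariant
and `σ`-fixed, there is a unique `σ`-fixed irreducible character of `G` over `θ`, and it extends
`θ`. -/
theorem sigma_main_invariant {G : Type u} [Group G] [Fintype G] (N : Subgroup G)
    [hN : N.Normal] [Fintype N] (hidx : Odd N.index) (k : ℕ) (hk : k.Coprime (Nat.card G))
    (hk₂ : ∀ g : G, Odd (orderOf g) → g ^ k = g⁻¹) {θ : N → ℂ} (hθ : IsIrrCharacter N θ)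
    (hθσ : ∀ n : N, θ (n ^ k) = θ n)
    (hinv : ∀ (g : G) (n : N), θ ⟨g * n * g⁻¹, hN.conj_mem n n.2 g⟩ = θ n) :
    ∃ χ : G → ℂ, IsIrrCharacter G χ ∧ (∀ n : N, χ n = θ n) ∧ (∀ g : G, χ (g ^ k) = χ g) ∧
      ∀ χ' : G → ℂ, IsIrrCharacter G χ' → classInner (fun n : N => χ' n) θ ≠ 0 →
        (∀ g : G, χ' (g ^ k) = χ' g) → χ' = χ := by
  obtain ⟨η, hη, hηres⟩ := exists_ext_of_odd_index N hidx k hk hk₂ hθ hθσ hinv
  exact sigma_unique_of_ext N hidx k hk hk₂ hθ hθσ hη hηres

end LemmaC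

section Final

variable {G : Type u} [Group G] [Fintype G] (N : Subgroup G) [hN : N.Normal] [Fintype N]

omit [Fintype G] [Fintype N] in
/-- The inertia subgroup of a function on a normal subgroup. -/
def inertiaSub (θ : N → ℂ) : Subgroup G where
  carrier := {g | conjFun N g θ = θ}
  one_mem' := conjFun_one N θ
  mul_mem' := by
    intro a b ha hb
    show conjFun N (a * b) θ = θ
    rw [conjFun_mul, show conjFun N a θ = θ from ha, show conjFun N b θ = θ from hb]
  inv_mem' := by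
    intro a ha
    show conjFun N a⁻¹ θ = θ
    have h := conjFun_inv_conjFun N a θ
    rw [show conjFun N a θ = θ from ha] at h
    exact h

omit [Fintype G] [Fintype N] in
theorem mem_inertiaSub (θ : N → ℂ) (g : G) : g ∈ inertiaSub N θ ↔ conjFun N g θ = θ := Iff.rfl

omit [Fintype G] [Fintype N] in
theorem le_inertiaSub {θ : N → ℂ} (hθ : IsClassFunction N θ) : N ≤ inertiaSub N θ := by
  intro n hn
  show conjFun N n θ = θ
  funext x
  rw [conjFun_apply]
  exact hθ x ⟨n, hn⟩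

/-- **Main theorem.** If `N ⊴ G` has odd index and `θ ∈ Irr(N)` is `σ`-fixed, there is a unique
`σ`-fixed irreducible character of `G` over `θ`. -/
theorem sigma_main (hidx : Odd N.index) (k : ℕ) (hk : k.Coprime (Nat.card G))
    (hk₂ : ∀ g : G, Odd (orderOf g) → g ^ k = g⁻¹) {θ : N → ℂ} (hθ : IsIrrCharacter N θ)
    (hθσ : ∀ n : N, θ (n ^ k) = θ n) :
    ∃ χ : G → ℂ, IsIrrCharacter G χ ∧ classInner (fun n : N => χ n) θ ≠ 0 ∧
      (∀ g : G, χ (g ^ k) = χ g) ∧
      ∀ χ' : G → ℂ, IsIrrCharacter G χ' → classInner (fun n : N => χ' n) θ ≠ 0 →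
        (∀ g : G, χ' (g ^ k) = χ' g) → χ' = χ := by
  classical
  have hθcl := Cfsg.Agent.Lib.Helper83.char_isClassFunction
    (Cfsg.Agent.Lib.Helper83.isCharacter_of_irr hθ)
  have hNT : N ≤ inertiaSub N θ := le_inertiaSub N hθcl
  have hT : ∀ g : G, g ∈ inertiaSub N θ ↔ ∀ n : N, conjFun N g θ n = θ n := by
    intro g
    rw [mem_inertiaSub, funext_iff]
  have hI : ∀ g : G, conjFun N g θ = θ → g ∈ inertiaSub N θ := fun g hg => hg
  generalize inertiaSub N θ = T at hNT hT hI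
  have : Fintype T := Fintype.ofFinite _
  have : Fintype (N.subgroupOf T) := Fintype.ofFinite _
  have hinvT : ∀ g ∈ T, ∀ n : N, θ ⟨g * n * g⁻¹, hN.conj_mem n n.2 g⟩ = θ n := by
    intro g hg n
    have h1 := (hT g).1 hg n
    rwa [conjFun_apply] at h1
  obtain ⟨ψ, hψ, hψres, hψσ, hψuniq⟩ := sigma_main_invariant (N.subgroupOf T)
    (odd_index_subgroupOf N T hNT hidx) k (coprime_card_subgroup T k hk)
    (pow_eq_inv_subgroup T k hk₂) (isIrrCharacter_toSubgroupOf N T hNT hθ)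
    (toSubgroupOf_pow N T hNT k hθσ) (fun m x => toSubgroupOf_conj N T hNT hinvT m x)
  have hres : resFun N T hNT ψ = θ := by
    funext n
    rw [resFun_apply]
    have h1 := hψres ⟨⟨(n : G), hNT n.2⟩, n.2⟩
    rw [toSubgroupOf_mk] at h1
    exact h1
  have h1 : classInner (resFun N T hNT ψ) θ ≠ 0 := by
    rw [hres, Cfsg.Agent.Lib.Helper83.irr_inner_self ⟨θ, hθ⟩]
    exact one_ne_zero
  have hχirr : IsIrrCharacter G (indFun T ψ) :=
    isIrrCharacter_indFun_inertia N T hNT hθ hT hψ h1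
  have hχover : classInner (fun n : N => indFun T ψ n) θ ≠ 0 := by
    rw [classInner_indFun_inertia N T hNT hθ hT hψ h1]
    exact h1
  have hχσ : ∀ g, indFun T ψ (g ^ k) = indFun T ψ g := by
    intro g
    rw [Cfsg.Agent.Lib.Helper34.indFun_pow_coprime T ψ k hk g]
    have h2 : (fun t : T => ψ (t ^ k)) = ψ := funext hψσ
    rw [h2]
  refine ⟨indFun T ψ, hχirr, hχover, hχσ, ?_⟩
  intro χ' hχ' hover' hχ'σ
  obtain ⟨ψ'', hψ'', hψ''over, hψ''ind⟩ :=
    Cfsg.Agent.Lib.Helper21.exists_indFun_mid_eq N T hNT hθ hI hχ' hover'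
  have hψ''σirr : IsIrrCharacter T (fun t => ψ'' (t ^ k)) :=
    Cfsg.Agent.Lib.Helper80.isIrrCharacter_pow_coprime hψ'' k (coprime_card_subgroup T k hk)
  have hψ''σover : classInner (resFun N T hNT (fun t => ψ'' (t ^ k))) θ ≠ 0 := by
    have e1 : resFun N T hNT (fun t => ψ'' (t ^ k)) =
        fun n : N => (resFun N T hNT ψ'') (n ^ k) := by
      funext n
      rw [resFun_apply, resFun_apply]
      congr 1
    have e2 : θ = fun n : N => θ (n ^ k) := funext fun n => (hθσ n).symm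
    rw [e1, e2, Cfsg.Agent.Lib.Helper34.classInner_pow_coprime _ _ k
      (coprime_card_subgroup N k hk)]
    exact hψ''over
  have hindσ : indFun T (fun t => ψ'' (t ^ k)) = indFun T ψ'' := by
    funext g
    rw [← Cfsg.Agent.Lib.Helper34.indFun_pow_coprime T ψ'' k hk g, hψ''ind, hχ'σ]
  have hψ''fix : (fun t => ψ'' (t ^ k)) = ψ'' :=
    indFun_inertia_injective N T hNT hθ hT hψ''σirr hψ'' hψ''σover hψ''over hindσ
  have hov : classInner (fun x : N.subgroupOf T => ψ'' (x : T)) (toSubgroupOf N T hNT θ)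
      ≠ 0 := by
    have h2 := classInner_subgroupOf N T hNT (resFun N T hNT ψ'') θ
    have h3 : (fun x : N.subgroupOf T => ψ'' (x : T)) =
        fun x : N.subgroupOf T => resFun N T hNT ψ'' (Subgroup.subgroupOfEquivOfLe hNT x) := by
      funext x
      rw [resFun_apply]
      congr 1
    have h4 : toSubgroupOf N T hNT θ =
        fun x => θ (Subgroup.subgroupOfEquivOfLe hNT x) := rfl
    rw [h3, h4, h2]
    exact hψ''over
  have h5 := hψuniq ψ'' hψ'' hov (fun t => congrFun hψ''fix t)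
  rw [← hψ''ind, h5]

end Final

end Cfsg.Agent.Lib.Helper84
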