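import Mathlib
import Cfsg.Prelude.Def_Characters
import Cfsg.Agent.Lib.Helper84.Schur

set_option autoImplicit false

namespace Cfsg.Agent.Lib.Helper84

open Representation Module

section

variable {G : Type*} [Group G] [Fintype G]

omit [Fintype G] in
theorem irr_one_ne_zero (χ : G → ℂ) (hχ : Cfsg.IsIrrCharacter G χ) : χ 1 ≠ 0 := by
  obtain ⟨n, ρ, hirr, rfl⟩ := hχ
  have := hirr
  rw [char_one]
  exact irr_finrank_ne_zero ρ

theorem irr_sum_sum_comm (χ : G → ℂ) (hχ : Cfsg.IsIrrCharacter G χ) (w : G) :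
    ∑ x : G, ∑ y : G, χ (x * y * x⁻¹ * y⁻¹ * w) =
      ((Fintype.card G : ℂ) / χ 1) ^ 2 * χ w := by
  obtain ⟨n, ρ, hirr, rfl⟩ := hχ
  have := hirr
  rw [sum_sum_char_comm, char_one]

theorem irr_sum_sq_mul (χ : G → ℂ) (hχ : Cfsg.IsIrrCharacter G χ) (w : G) :
    ∑ u : G, χ (u * u * w) = (∑ u : G, χ (u * u)) / χ 1 * χ w := by
  obtain ⟨n, ρ, hirr, rfl⟩ := hχ
  have := hirr
  rw [sum_char_sq_mul, char_one]

/-- Frobenius' commutator counting formula, assuming the decomposition of the regular character. -/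
theorem frobenius_count_of_regular [Finite (Cfsg.IrrCharacter G)]
    (hreg1 : ∑ᶠ χ : Cfsg.IrrCharacter G, (χ : G → ℂ) 1 * (χ : G → ℂ) 1 = (Fintype.card G : ℂ))
    (hreg2 : ∀ u : G, u ≠ 1 → ∑ᶠ χ : Cfsg.IrrCharacter G, (χ : G → ℂ) 1 * (χ : G → ℂ) u = 0)
    (z : G) :
    (Nat.card {xy : G × G // xy.1 * xy.2 * xy.1⁻¹ * xy.2⁻¹ = z} : ℂ) =
      (Nat.card G : ℂ) * ∑ᶠ χ : Cfsg.IrrCharacter G, (χ : G → ℂ) z / (χ : G → ℂ) 1 := by
  classical
  haveI : Fintype (Cfsg.IrrCharacter G) := Fintype.ofFinite _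
  have hG : (Fintype.card G : ℂ) ≠ 0 := by simp
  -- step A
  have stepA : ∀ w : G,
      (Nat.card {xy : G × G // xy.1 * xy.2 * xy.1⁻¹ * xy.2⁻¹ = w⁻¹} : ℂ) =
        (Fintype.card G : ℂ) * ∑ χ : Cfsg.IrrCharacter G, (χ : G → ℂ) w / (χ : G → ℂ) 1 := by
    intro w
    have h1 : (Nat.card {xy : G × G // xy.1 * xy.2 * xy.1⁻¹ * xy.2⁻¹ = w⁻¹} : ℂ) *
        (Fintype.card G : ℂ) =
        ∑ x : G, ∑ y : G, ∑ χ : Cfsg.IrrCharacter G,
          (χ : G → ℂ) 1 * (χ : G → ℂ) (x * y * x⁻¹ * y⁻¹ * w) := by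
      have : ∀ x y : G, ∑ χ : Cfsg.IrrCharacter G,
          (χ : G → ℂ) 1 * (χ : G → ℂ) (x * y * x⁻¹ * y⁻¹ * w) =
          if x * y * x⁻¹ * y⁻¹ = w⁻¹ then (Fintype.card G : ℂ) else 0 := by
        intro x y
        rw [← finsum_eq_sum_of_fintype]
        split_ifs with h
        · rw [h, inv_mul_cancel, hreg1]
        · rw [hreg2]
          rwa [ne_eq, mul_eq_one_iff_eq_inv]
      simp_rw [this]
      rw [Nat.card_eq_fintype_card, Fintype.card_subtype, ← Fintype.sum_prod_type',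
        Finset.sum_ite, Finset.sum_const_zero, add_zero, Finset.sum_const, nsmul_eq_mul]
    have h2 : ∑ x : G, ∑ y : G, ∑ χ : Cfsg.IrrCharacter G,
          (χ : G → ℂ) 1 * (χ : G → ℂ) (x * y * x⁻¹ * y⁻¹ * w) =
        ∑ χ : Cfsg.IrrCharacter G, (χ : G → ℂ) 1 *
          (((Fintype.card G : ℂ) / (χ : G → ℂ) 1) ^ 2 * (χ : G → ℂ) w) := by
      have e1 : ∀ χ : Cfsg.IrrCharacter G, (χ : G → ℂ) 1 *
          (((Fintype.card G : ℂ) / (χ : G → ℂ) 1) ^ 2 * (χ : G → ℂ) w) =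
          ∑ x : G, ∑ y : G, (χ : G → ℂ) 1 * (χ : G → ℂ) (x * y * x⁻¹ * y⁻¹ * w) := by
        intro χ
        rw [← irr_sum_sum_comm _ χ.2, Finset.mul_sum]
        refine Finset.sum_congr rfl fun x _ => ?_
        rw [Finset.mul_sum]
      simp_rw [e1]
      rw [Finset.sum_comm (s := (Finset.univ : Finset (Cfsg.IrrCharacter G)))]
      refine Finset.sum_congr rfl fun x _ => ?_
      rw [Finset.sum_comm]
    have h3 : ∑ χ : Cfsg.IrrCharacter G, (χ : G → ℂ) 1 *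
          (((Fintype.card G : ℂ) / (χ : G → ℂ) 1) ^ 2 * (χ : G → ℂ) w) =
        (Fintype.card G : ℂ) * ((Fintype.card G : ℂ) *
          ∑ χ : Cfsg.IrrCharacter G, (χ : G → ℂ) w / (χ : G → ℂ) 1) := by
      rw [Finset.mul_sum, Finset.mul_sum]
      refine Finset.sum_congr rfl fun χ _ => ?_
      have := irr_one_ne_zero χ.1 χ.2
      field_simp
    rw [h2, h3] at h1
    have := mul_right_cancel₀ hG (h1.trans (mul_comm _ _))
    exact this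
  -- step B
  have stepB : Nat.card {xy : G × G // xy.1 * xy.2 * xy.1⁻¹ * xy.2⁻¹ = z} =
      Nat.card {xy : G × G // xy.1 * xy.2 * xy.1⁻¹ * xy.2⁻¹ = z⁻¹} := by
    refine Nat.card_congr ⟨fun p => ⟨(p.1.2, p.1.1), ?_⟩, fun p => ⟨(p.1.2, p.1.1), ?_⟩, ?_, ?_⟩
    · have h : p.1.1 * p.1.2 * p.1.1⁻¹ * p.1.2⁻¹ = z := p.2
      exact (by group : p.1.2 * p.1.1 * p.1.2⁻¹ * p.1.1⁻¹ =
        (p.1.1 * p.1.2 * p.1.1⁻¹ * p.1.2⁻¹)⁻¹).trans (congrArg Inv.inv h)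
    · have h : p.1.1 * p.1.2 * p.1.1⁻¹ * p.1.2⁻¹ = z⁻¹ := p.2
      exact ((by group : p.1.2 * p.1.1 * p.1.2⁻¹ * p.1.1⁻¹ =
        (p.1.1 * p.1.2 * p.1.1⁻¹ * p.1.2⁻¹)⁻¹).trans (congrArg Inv.inv h)).trans (inv_inv z)
    · intro p; rfl
    · intro p; rfl
  rw [stepB, stepA z, finsum_eq_sum_of_fintype, Nat.card_eq_fintype_card]

end

end Cfsg.Agent.Lib.Helper84
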