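import Mathlib
import Cfsg.Prelude.Def_Characters
import Cfsg.Agent.Lib.Helper04.CharValues
import Cfsg.Agent.Lib.Helper84.Schur
import Cfsg.Agent.Lib.Helper84.Frobenius

set_option autoImplicit false

namespace Cfsg.Agent.Lib.Helper84

open Representation Module

section FS

variable {G : Type*} [Group G] [Fintype G] {V : Type*} [AddCommGroup V] [Module ℂ V]
  [FiniteDimensional ℂ V] (ρ : Representation ℂ G V)

/-- The average over the group of a bilinear form, as a map into the dual. -/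
noncomputable def avgForm (B : V →ₗ[ℂ] Module.Dual ℂ V) : V →ₗ[ℂ] Module.Dual ℂ V :=
  ∑ u : G, (Module.Dual.transpose (R := ℂ) (ρ u)) ∘ₗ B ∘ₗ ρ u

omit [FiniteDimensional ℂ V] in
theorem avgForm_apply (B : V →ₗ[ℂ] Module.Dual ℂ V) (v w : V) :
    avgForm ρ B v w = ∑ u : G, B (ρ u v) (ρ u w) := by
  simp [avgForm, LinearMap.sum_apply, Module.Dual.transpose_apply]

omit [FiniteDimensional ℂ V] in
theorem avgForm_intertwining (B : V →ₗ[ℂ] Module.Dual ℂ V) (g : G) :
    avgForm ρ B ∘ₗ ρ g = ρ.dual g ∘ₗ avgForm ρ B := by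
  ext v w
  simp only [LinearMap.comp_apply, avgForm_apply, dual_apply, Module.Dual.transpose_apply]
  rw [← Equiv.sum_comp (Equiv.mulRight g⁻¹)]
  refine Finset.sum_congr rfl fun u _ => ?_
  simp only [Equiv.coe_mulRight]
  rw [← Module.End.mul_apply, ← map_mul, ← Module.End.mul_apply, ← map_mul]
  simp

theorem avgForm_eq_zero_of_not_real [ρ.IsIrreducible]
    (h : ∃ g, ρ.character g⁻¹ ≠ ρ.character g) (B : V →ₗ[ℂ] Module.Dual ℂ V) :
    avgForm ρ B = 0 := by
  by_contra hne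
  let F : IntertwiningMap ρ ρ.dual := ⟨avgForm ρ B, avgForm_intertwining ρ B⟩
  rcases IsIrreducible.injective_or_eq_zero F with hinj | h0
  · have hfr : finrank ℂ V = finrank ℂ (Module.Dual ℂ V) := (Subspace.dual_finrank_eq).symm
    let e : V ≃ₗ[ℂ] Module.Dual ℂ V :=
      LinearEquiv.ofInjectiveOfFinrankEq (avgForm ρ B) hinj hfr
    have he : ∀ g, e.toLinearMap ∘ₗ ρ g = ρ.dual g ∘ₗ e.toLinearMap := by
      intro g
      exact avgForm_intertwining ρ B g
    have hiso := char_iso (Representation.Equiv.mk e he)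
    obtain ⟨g, hg⟩ := h
    apply hg
    rw [← char_dual, ← hiso]
  · apply hne
    exact congrArg IntertwiningMap.toLinearMap h0

theorem sum_char_sq_eq_zero_of_not_real [ρ.IsIrreducible]
    (h : ∃ g, ρ.character g⁻¹ ≠ ρ.character g) :
    ∑ u : G, ρ.character (u * u) = 0 := by
  classical
  let b := Module.finBasis ℂ V
  have key : ∀ u : G, ρ.character (u * u) =
      ∑ i, ∑ j, ((b.coord i).smulRight (b.coord j) : V →ₗ[ℂ] Module.Dual ℂ V)
        (ρ u (b j)) (ρ u (b i)) := by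
    intro u
    rw [Representation.character, map_mul, LinearMap.trace_eq_matrix_trace ℂ b,
      LinearMap.toMatrix_mul, Matrix.trace]
    refine Finset.sum_congr rfl fun i _ => ?_
    rw [Matrix.diag_apply, Matrix.mul_apply]
    refine Finset.sum_congr rfl fun j _ => ?_
    simp [LinearMap.toMatrix_apply]
  simp_rw [key]
  rw [Finset.sum_comm]
  refine Finset.sum_eq_zero fun i _ => ?_
  rw [Finset.sum_comm]
  refine Finset.sum_eq_zero fun j _ => ?_
  rw [← avgForm_apply, avgForm_eq_zero_of_not_real ρ h]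
  simp

open scoped ComplexConjugate in
theorem real_of_sum_char_sq_ne_zero [ρ.IsIrreducible]
    (h : ∑ u : G, ρ.character (u * u) ≠ 0) (g : G) : (ρ.character g).im = 0 := by
  have h1 : ρ.character g⁻¹ = ρ.character g := by
    by_contra hne
    exact h (sum_char_sq_eq_zero_of_not_real ρ ⟨g, hne⟩)
  rw [Cfsg.Agent.Lib.Helper04.char_inv] at h1
  exact Complex.conj_eq_iff_im.mp h1

end FS

section Count

variable {G : Type*} [Group G] [Fintype G]

theorem irr_real_of_sum_sq_ne_zero (χ : G → ℂ) (hχ : Cfsg.IsIrrCharacter G χ)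
    (h : ∑ u : G, χ (u * u) ≠ 0) (g : G) : (χ g).im = 0 := by
  obtain ⟨n, ρ, hirr, rfl⟩ := hχ
  have := hirr
  exact real_of_sum_char_sq_ne_zero ρ h g

/-- Frobenius–Schur count of square roots, assuming the decomposition of the regular character. -/
theorem root_count_of_regular [Finite (Cfsg.IrrCharacter G)]
    (hreg1 : ∑ᶠ χ : Cfsg.IrrCharacter G, (χ : G → ℂ) 1 * (χ : G → ℂ) 1 = (Fintype.card G : ℂ))
    (hreg2 : ∀ u : G, u ≠ 1 → ∑ᶠ χ : Cfsg.IrrCharacter G, (χ : G → ℂ) 1 * (χ : G → ℂ) u = 0)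
    (g : G) :
    (Nat.card {u : G // u * u = g} : ℂ) =
      ∑ᶠ χ : Cfsg.IrrCharacter G,
        ((Nat.card G : ℂ)⁻¹ * ∑ᶠ u : G, (χ : G → ℂ) (u * u)) * (χ : G → ℂ) g := by
  classical
  haveI : Fintype (Cfsg.IrrCharacter G) := Fintype.ofFinite _
  have hG : (Fintype.card G : ℂ) ≠ 0 := by simp
  have stepA : ∀ w : G,
      (Nat.card {u : G // u * u = w⁻¹} : ℂ) =
        ∑ χ : Cfsg.IrrCharacter G,
          ((Fintype.card G : ℂ)⁻¹ * ∑ u : G, (χ : G → ℂ) (u * u)) * (χ : G → ℂ) w := by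
    intro w
    have h1 : (Nat.card {u : G // u * u = w⁻¹} : ℂ) * (Fintype.card G : ℂ) =
        ∑ u : G, ∑ χ : Cfsg.IrrCharacter G, (χ : G → ℂ) 1 * (χ : G → ℂ) (u * u * w) := by
      have : ∀ u : G, ∑ χ : Cfsg.IrrCharacter G, (χ : G → ℂ) 1 * (χ : G → ℂ) (u * u * w) =
          if u * u = w⁻¹ then (Fintype.card G : ℂ) else 0 := by
        intro u
        rw [← finsum_eq_sum_of_fintype]
        split_ifs with h
        · rw [h, inv_mul_cancel, hreg1]
        · rw [hreg2]
          rwa [ne_eq, mul_eq_one_iff_eq_inv]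
      simp_rw [this]
      rw [Nat.card_eq_fintype_card, Fintype.card_subtype,
        Finset.sum_ite, Finset.sum_const_zero, add_zero, Finset.sum_const, nsmul_eq_mul]
    have h2 : ∑ u : G, ∑ χ : Cfsg.IrrCharacter G,
          (χ : G → ℂ) 1 * (χ : G → ℂ) (u * u * w) =
        ∑ χ : Cfsg.IrrCharacter G, (∑ u : G, (χ : G → ℂ) (u * u)) * (χ : G → ℂ) w := by
      rw [Finset.sum_comm]
      refine Finset.sum_congr rfl fun χ _ => ?_
      rw [← Finset.mul_sum, irr_sum_sq_mul _ χ.2]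
      have := irr_one_ne_zero χ.1 χ.2
      field_simp
    rw [h2] at h1
    rw [eq_div_of_mul_eq hG h1, Finset.sum_div]
    refine Finset.sum_congr rfl fun χ _ => ?_
    field_simp
  have stepB : Nat.card {u : G // u * u = g} = Nat.card {u : G // u * u = g⁻¹} := by
    refine Nat.card_congr ⟨fun p => ⟨p.1⁻¹, ?_⟩, fun p => ⟨p.1⁻¹, ?_⟩, ?_, ?_⟩
    · have h : p.1 * p.1 = g := p.2
      rw [← mul_inv_rev, h]
    · have h : p.1 * p.1 = g⁻¹ := p.2
      rw [← mul_inv_rev, h, inv_inv]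
    · intro p; simp
    · intro p; simp
  rw [stepB, stepA g, finsum_eq_sum_of_fintype]
  refine Finset.sum_congr rfl fun χ _ => ?_
  rw [finsum_eq_sum_of_fintype, Nat.card_eq_fintype_card]

end Count

end Cfsg.Agent.Lib.Helper84
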