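import Mathlib
import Cfsg.Agent.Lib.Helper80.GaloisChar
import Cfsg.Agent.Lib.Helper80.DetChar
import Cfsg.Agent.Lib.Helper80.DetCanon
import Cfsg.Prelude.Def_Transfer

/-!
# Determinants and Galois conjugation

* `detChar_pow_coprime` : `det (χ ^ σ) = (det χ) ^ k` for the Galois conjugate `g ↦ χ (g ^ k)`.
* `exists_pow_fixed_ext` : the canonical extension of a `σ`-fixed invariant character is
  `σ`-fixed.
-/

set_option autoImplicit false

namespace Cfsg.Agent.Lib.Helper84

open Cfsg

universe u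

/-- The determinant of an entrywise twisted representation. -/
theorem det_twistRep {G : Type*} [Group G] {d : ℕ} (τ : ℂ →+* ℂ)
    (ρ : Representation ℂ G (Fin d → ℂ)) (g : G) :
    LinearMap.det (Cfsg.Agent.Lib.Helper80.twistRep τ ρ g) = τ (LinearMap.det (ρ g)) := by
  unfold Cfsg.Agent.Lib.Helper80.twistRep
  simp only [MonoidHom.coe_mk, OneHom.coe_mk]
  rw [LinearMap.det_toLin', ← RingHom.map_det τ,
    ← LinearMap.det_toLin' (LinearMap.toMatrix' (ρ g)), Matrix.toLin'_toMatrix']

/-- `det (χ ^ σ) = (det χ) ^ k`. -/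
theorem detChar_pow_coprime {G : Type*} [Group G] [Finite G] {χ : G → ℂ}
    (hχ : IsCharacter G χ) (k : ℕ) (hk : k.Coprime (Nat.card G)) :
    detChar (fun g => χ (g ^ k)) = fun g => detChar χ g ^ k := by
  obtain ⟨d, ρ, rfl⟩ := hχ
  obtain ⟨τ, hτ⟩ := Cfsg.Agent.Lib.Helper80.exists_ringEquiv_pow (Nat.card G) Nat.card_pos k hk
  have hchar : (fun g => ρ.character (g ^ k)) =
      (Cfsg.Agent.Lib.Helper80.twistRep τ.toRingHom ρ).character := by
    funext g
    rw [Cfsg.Agent.Lib.Helper80.twistRep_character]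
    obtain ⟨b, μ, hμ, -, hk', -⟩ :=
      Cfsg.Agent.Lib.Helper05.exists_eigenvalues ρ g (isOfFinOrder_of_finite g)
    have h1 := hk' 1
    rw [pow_one] at h1
    rw [h1, hk' k, map_sum]
    apply Finset.sum_congr rfl
    intro i _
    rw [pow_one]
    symm
    apply hτ
    obtain ⟨m, hm⟩ := orderOf_dvd_natCard g
    rw [hm, pow_mul, hμ, one_pow]
  rw [hchar, Cfsg.Agent.Lib.Helper80.detChar_character, Cfsg.Agent.Lib.Helper80.detChar_character]
  funext g
  rw [det_twistRep]
  apply hτ
  rw [← map_pow, ← map_pow, pow_card_eq_one', map_one, map_one]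

/-- The determinantal order of a Galois conjugate divides the determinantal order. -/
theorem detOrder_pow_coprime_dvd {G : Type*} [Group G] [Finite G] {χ : G → ℂ}
    (hχ : IsCharacter G χ) (k : ℕ) (hk : k.Coprime (Nat.card G)) :
    detOrder (fun g => χ (g ^ k)) ∣ detOrder χ := by
  unfold detOrder
  rw [detChar_pow_coprime hχ k hk]
  have h : (fun g => detChar χ g ^ k) = (detChar χ) ^ k := by
    funext g
    simp
  rw [h]
  exact orderOf_pow_dvd k

/-- The canonical extension of a `σ`-fixed invariant irreducible character of a normal subgroup,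
with `o(ϑ) ϑ(1)` coprime to the index, is `σ`-fixed. -/
theorem exists_pow_fixed_ext {G : Type u} [Group G] [Fintype G] (N : Subgroup G) [hN : N.Normal]
    (k : ℕ) (hk : k.Coprime (Nat.card G)) (ϑ : N → ℂ) (hϑ : IsIrrCharacter N ϑ)
    (hinv : ∀ (g : G) (n : N), ϑ ⟨g * n * g⁻¹, hN.conj_mem (n : G) n.2 g⟩ = ϑ n)
    (d : ℕ) (hd : ϑ 1 = d) (hcop : Nat.Coprime N.index (detOrder ϑ * d))
    (hσ : ∀ n : N, ϑ (n ^ k) = ϑ n) :
    ∃ χ : G → ℂ, IsIrrCharacter G χ ∧ (∀ n : N, χ n = ϑ n) ∧ ∀ g : G, χ (g ^ k) = χ g := by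
  obtain ⟨χ, ⟨hχ, hχres, hχord⟩, huniq⟩ :=
    Cfsg.Agent.Lib.Helper80.exists_canonical_ext N ϑ hϑ hinv d hd hcop
  refine ⟨χ, hχ, hχres, ?_⟩
  have hχc := Cfsg.Agent.Lib.Helper83.isCharacter_of_irr hχ
  have h1 : IsIrrCharacter G (fun g => χ (g ^ k)) :=
    Cfsg.Agent.Lib.Helper80.isIrrCharacter_pow_coprime hχ k hk
  have h2 : ∀ n : N, (fun g => χ (g ^ k)) (n : G) = ϑ n := by
    intro n
    have h3 : ((n : G) ^ k) = ((n ^ k : N) : G) := by simp
    show χ ((n : G) ^ k) = ϑ n
    rw [h3, hχres, hσ]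
  have h3 : Nat.Coprime N.index (detOrder (fun g => χ (g ^ k))) := by
    apply Nat.Coprime.coprime_dvd_right (detOrder_pow_coprime_dvd hχc k hk)
    rw [hχord]
    exact Nat.Coprime.coprime_mul_right_right hcop
  have h4 := huniq _ h1 h2 h3
  intro g
  exact congrFun h4 g

/-- The determinantal order of a character of a group generated by elements of order prime to
`p` (given as a subgroup `N` which is the closure of the `p'`-elements of the ambient group)
is prime to `p`. -/
theorem detOrder_coprime_of_pResidual {G : Type u} [Group G] [Finite G] (p : ℕ) [Fact p.Prime]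
    (N : Subgroup G) (hN : N = pResidual p G) (ϑ : N → ℂ) :
    Nat.Coprime p (detOrder ϑ) := by
  have hp : p.Prime := Fact.out
  rw [Cfsg.Agent.Lib.Helper80.detOrder_eq]
  set δ := Cfsg.Agent.Lib.Helper80.detHom ϑ with hδ
  set m := ordCompl[p] (Nat.card N) with hm
  have hcard0 : Nat.card N ≠ 0 := Nat.card_pos.ne'
  have hmcop : Nat.Coprime p m := (Nat.coprime_ordCompl hp hcard0)
  -- the kernel of δ ^ m contains all p'-elements
  have hker : ∀ n : N, (δ ^ m) n = 1 := by
    have hle : pResidual p G ≤ ((δ ^ m).ker).map N.subtype := by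
      unfold pResidual
      rw [Subgroup.closure_le]
      intro g hg
      have hgN : g ∈ N := by
        rw [hN]
        exact Subgroup.subset_closure hg
      refine ⟨⟨g, hgN⟩, ?_, rfl⟩
      show (δ ^ m) ⟨g, hgN⟩ = 1
      rw [MonoidHom.pow_apply, ← map_pow]
      have hord : orderOf (⟨g, hgN⟩ : N) ∣ m := by
        have h1 : orderOf (⟨g, hgN⟩ : N) ∣ Nat.card N := orderOf_dvd_natCard _
        have h2 : orderOf (⟨g, hgN⟩ : N) = orderOf g := by
          rw [← Subgroup.orderOf_coe]
        rw [← Nat.ordProj_mul_ordCompl_eq_self (Nat.card N) p] at h1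
        have h3 : Nat.Coprime (orderOf (⟨g, hgN⟩ : N)) (p ^ (Nat.card N).factorization p) := by
          rw [h2]
          exact Nat.Coprime.pow_right _ hg
        exact h3.dvd_of_dvd_mul_left h1
      rw [orderOf_dvd_iff_pow_eq_one.1 hord, map_one]
    intro n
    have hn2 : (n : G) ∈ pResidual p G := by
      rw [← hN]
      exact n.2
    obtain ⟨y, hy, hyn⟩ := hle hn2
    have : y = n := Subtype.ext hyn
    rw [← this]
    exact hy
  have h1 : δ ^ m = 1 := by
    ext n
    rw [hker n]
    rfl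
  exact Nat.Coprime.coprime_dvd_right (orderOf_dvd_of_pow_eq_one h1) hmcop

end Cfsg.Agent.Lib.Helper84
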