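import Mathlib
import Cfsg.Agent.Lib.Helper84.DetGalois
import Cfsg.Agent.Lib.Helper84.SigmaExt
import Cfsg.Agent.Lib.Helper84.Clifford
import Cfsg.Agent.Lib.Helper80.CharMisc
import Cfsg.Agent.Lib.Helper79.OddDegree
import Cfsg.Agent.Lib.Helper85.PrincipalNormal
import Cfsg.Agent.Lib.Helper82.Fong
import Cfsg.Agent.Lib.Helper82.BlockBasic
import Cfsg.Agent.Lib.Helper81.DefectBasic
import Cfsg.Agent.Lib.Helper81.ThirdMain
import Cfsg.Agent.Lib.Helper22.PrincipalSection
import Cfsg.Agent.Lib.Helper03.PResidual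
import Cfsg.Agent.Lib.Helper20.LinExt
import Cfsg.Agent.S0887
import Cfsg.Agent.S0966

/-!
# Counting Galois-fixed characters of `p'`-degree over `O^p(G)` with cyclic quotient
-/

set_option autoImplicit false

namespace Cfsg.Agent.Lib.Helper84

open Cfsg
open scoped ComplexConjugate

universe u

section Restrict

variable {G : Type u} [Group G] [Fintype G] (N : Subgroup G) [hN : N.Normal] [Fintype N]

/-- An irreducible character of degree prime to `p` restricts irreducibly to a normal subgroup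
of `p`-power index. -/
theorem restrict_irr_of_not_dvd (p : ℕ) [Fact p.Prime] (hidx : ∃ a : ℕ, N.index = p ^ a)
    {χ : G → ℂ} (hχ : IsIrrCharacter G χ) (c : ℕ) (hc : χ 1 = c) (hpc : ¬ p ∣ c) :
    IsIrrCharacter N (fun n : N => χ n) := by
  classical
  have hp : p.Prime := Fact.out
  have hχc := Cfsg.Agent.Lib.Helper83.isCharacter_of_irr hχ
  have hres : IsCharacter N (fun n : N => χ n) :=
    Cfsg.Agent.Lib.Helper83.isCharacter_restrict N hχc
  obtain ⟨θ, hθ⟩ := Cfsg.Agent.Lib.Helper82.exists_constituent N (⟨χ, hχ⟩ : IrrCharacter G)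
  have hθ' : classInner (fun n : N => χ n) (θ : N → ℂ) ≠ 0 := hθ
  obtain ⟨d, ρ, hρ⟩ := Cfsg.Agent.Lib.Helper83.isCharacter_of_irr θ.2
  have hd : (θ : N → ℂ) 1 = d := by
    rw [← hρ]
    exact Cfsg.Agent.Lib.Helper79.character_one_eq_dim ρ
  obtain ⟨hdc, hcd⟩ := Cfsg.Agent.S0887.result N χ hχ (θ : N → ℂ) θ.2 hθ' c d hc hd
  obtain ⟨a, ha⟩ := hidx
  rw [ha] at hcd
  obtain ⟨j, -, hj⟩ := (Nat.dvd_prime_pow hp).1 hcd
  have hc0 : c ≠ 0 := by
    intro h0
    apply hpc
    rw [h0]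
    exact dvd_zero p
  have hd0 : d ≠ 0 := by
    intro h0
    rw [h0] at hdc
    exact hc0 (Nat.eq_zero_of_zero_dvd hdc)
  have hj0 : j = 0 := by
    by_contra hne
    apply hpc
    have h1 : p ∣ c / d := by
      rw [hj]
      exact dvd_pow_self p hne
    exact h1.trans (Nat.div_dvd_of_dvd hdc)
  rw [hj0, pow_zero] at hj
  have hcd' : c = d := by
    have := Nat.div_mul_cancel hdc
    rw [hj, one_mul] at this
    exact this.symm
  obtain ⟨A', hA', hdecomp⟩ := exists_char_sub hres θ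
  obtain ⟨e, ρ', hρ'⟩ := hA'
  have hA'1 : A' 1 = e := by
    rw [← hρ']
    exact Cfsg.Agent.Lib.Helper79.character_one_eq_dim ρ'
  have hm : Cfsg.Agent.Lib.Helper83.irrMult (fun n : N => χ n) θ ≠ 0 := by
    intro h0
    apply hθ'
    rw [← Cfsg.Agent.Lib.Helper83.irrMult_cast hres θ, h0, Nat.cast_zero]
  have h1 := congrFun hdecomp 1
  simp only [Pi.add_apply, Pi.smul_apply, smul_eq_mul] at h1
  rw [hd, hA'1] at h1
  have h2 : χ ((1 : N) : G) = c := by
    rw [← hc]
    rfl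
  rw [h2, hcd'] at h1
  have h3 : d = Cfsg.Agent.Lib.Helper83.irrMult (fun n : N => χ n) θ * d + e := by
    exact_mod_cast h1
  have hm1 : Cfsg.Agent.Lib.Helper83.irrMult (fun n : N => χ n) θ = 1 ∧ e = 0 := by
    set m := Cfsg.Agent.Lib.Helper83.irrMult (fun n : N => χ n) θ with hmdef
    have hm1' : 1 ≤ m := Nat.one_le_iff_ne_zero.2 hm
    have hd1 : 1 ≤ d := Nat.one_le_iff_ne_zero.2 hd0
    constructor
    · by_contra hne
      have h2m : 2 ≤ m := by omega
      have : 2 * d ≤ m * d := Nat.mul_le_mul_right d h2m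
      omega
    · by_contra hne
      have : d ≤ m * d := Nat.le_mul_of_pos_left d hm1'
      omega
  have hA'0 : A' = 0 := by
    apply Cfsg.Agent.Lib.Helper80.char_eq_zero_of_degree_zero ⟨e, ρ', hρ'⟩
    rw [hA'1, hm1.2, Nat.cast_zero]
  rw [hdecomp, hm1.1, hA'0, Nat.cast_one, one_smul, add_zero]
  exact θ.2

end Restrict

section Block

variable {G : Type u} [Group G] [Fintype G] (N : Subgroup G) [hN : N.Normal] [Fintype N]

/-- Constituents of the restriction of a member of the principal block lie in the principal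
block of the normal subgroup. -/
theorem mem_principalBlock_of_under (p : ℕ) [Fact p.Prime] {M : Ideal AlgInt}
    (hM : IsPModular p M) {χ : IrrCharacter G} (hχB : χ ∈ principalBlock M G)
    {θ : IrrCharacter N}
    (hover : classInner (fun n : N => (χ : G → ℂ) n) (θ : N → ℂ) ≠ 0) :
    θ ∈ principalBlock M N := by
  have hMp : M.IsPrime := hM.2.1.isPrime
  have hb : IsPBlock M (principalBlock M N) :=
    Cfsg.Agent.Lib.Helper22.isPBlock_principalBlock M N
  have hinv : Cfsg.Agent.Lib.Helper82.IsInvariantSet N (principalBlock M N) :=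
    Cfsg.Agent.Lib.Helper85.PrincipalNormal.isInvariantSet_principalBlock N
  have h1 : χ ∈ Cfsg.Agent.Lib.Helper82.overSet N (principalBlock M N) :=
    Cfsg.Agent.Lib.Helper85.PrincipalNormal.principalBlock_subset_overSet N hM hχB
  exact Cfsg.Agent.Lib.Helper82.mem_of_overSet N hM hb hinv h1
    (Cfsg.Agent.Lib.Helper82.mem_blockOf_self hMp χ) hover

/-- If `N` has `p`-power index, every irreducible character over a member of the principal
block of `N` lies in the principal block of `G`. -/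
theorem mem_principalBlock_of_over (p : ℕ) [Fact p.Prime] {M : Ideal AlgInt}
    (hM : IsPModular p M) (hidx : ∃ a : ℕ, N.index = p ^ a) {χ : IrrCharacter G}
    {θ : IrrCharacter N} (hθ : θ ∈ principalBlock M N)
    (hover : classInner (fun n : N => (χ : G → ℂ) n) (θ : N → ℂ) ≠ 0) :
    χ ∈ principalBlock M G := by
  have hMp : M.IsPrime := hM.2.1.isPrime
  have hb : IsPBlock M (principalBlock M N) :=
    Cfsg.Agent.Lib.Helper22.isPBlock_principalBlock M N
  have huniq := Cfsg.Agent.S0966.result p M hM N hidx (principalBlock M N) hb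
  have h1 : blockOf M (χ : G → ℂ) = principalBlock M G := by
    apply huniq.unique
    · exact ⟨Cfsg.Agent.Lib.Helper82.isPBlock_blockOf χ, χ,
        Cfsg.Agent.Lib.Helper82.mem_blockOf_self hMp χ, θ, hθ, hover⟩
    · refine ⟨Cfsg.Agent.Lib.Helper22.isPBlock_principalBlock M G,
        Cfsg.Agent.Lib.Helper83.trivChar G,
        Cfsg.Agent.Lib.Helper81.trivChar_mem_principalBlock hMp,
        Cfsg.Agent.Lib.Helper83.trivChar N,
        Cfsg.Agent.Lib.Helper81.trivChar_mem_principalBlock hMp, ?_⟩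
      have h2 : (fun n : N => (Cfsg.Agent.Lib.Helper83.trivChar G : G → ℂ) n) =
          (Cfsg.Agent.Lib.Helper83.trivChar N : N → ℂ) := rfl
      rw [h2, Cfsg.Agent.Lib.Helper83.irr_inner_self]
      exact one_ne_zero
  rw [← h1]
  exact Cfsg.Agent.Lib.Helper82.mem_blockOf_self hMp χ

end Block

section Arith

variable {G : Type*} [Group G] [Finite G] (p : ℕ) [Fact p.Prime] (k : ℕ)

theorem pow_cond_coprime
    (hk₁ : ∀ g : G, (∃ j : ℕ, orderOf g = p ^ j) → g ^ k = g ^ (1 + p))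
    (hk₂ : ∀ g : G, Nat.Coprime (orderOf g) p → g ^ k = g) : k.Coprime (Nat.card G) := by
  have hp : p.Prime := Fact.out
  apply Nat.coprime_of_dvd
  intro q hq hqk hqG
  have : Fact q.Prime := ⟨hq⟩
  obtain ⟨x, hx⟩ := exists_prime_orderOf_dvd_card' q hqG
  have hxk : x ^ k = 1 := by
    apply orderOf_dvd_iff_pow_eq_one.1
    rw [hx]
    exact hqk
  have hx1 : x ≠ 1 := by
    intro h1
    rw [h1, orderOf_one] at hx
    exact hq.one_lt.ne hx
  apply hx1
  by_cases hqp : q = p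
  · have h1 := hk₁ x ⟨1, by rw [hx, hqp, pow_one]⟩
    rw [hxk, pow_add, pow_one] at h1
    have h2 : x ^ p = 1 := by
      apply orderOf_dvd_iff_pow_eq_one.1
      rw [hx, hqp]
    rw [h2, mul_one] at h1
    exact h1.symm
  · have h1 := hk₂ x (by rw [hx]; exact (Nat.coprime_primes hq hp).2 hqp)
    rw [hxk] at h1
    exact h1.symm

theorem pow_cond_modEq_one (hpG : p ∣ Nat.card G)
    (hk₁ : ∀ g : G, (∃ j : ℕ, orderOf g = p ^ j) → g ^ k = g ^ (1 + p)) :
    k ≡ 1 [MOD p] := by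
  obtain ⟨x, hx⟩ := exists_prime_orderOf_dvd_card' p hpG
  have h1 := hk₁ x ⟨1, by rw [hx, pow_one]⟩
  have h2 : x ^ p = 1 := by
    apply orderOf_dvd_iff_pow_eq_one.1
    rw [hx]
  rw [pow_add, h2, mul_one] at h1
  rw [← hx]
  exact pow_eq_pow_iff_modEq.1 h1

/-- a `p`-power order linear character fixed by `σ` has order dividing `p` -/
theorem pow_p_eq_one_of_fixed
    (hk₁ : ∀ g : G, (∃ j : ℕ, orderOf g = p ^ j) → g ^ k = g ^ (1 + p))
    (μ : G →* ℂˣ) (a : ℕ) (hμa : ∀ g, μ g ^ (p ^ a) = 1) (hμk : ∀ g, μ g ^ k = μ g) (g : G) :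
    μ g ^ p = 1 := by
  have hp : p.Prime := Fact.out
  have hcard0 : Nat.card G ≠ 0 := Nat.card_pos.ne'
  set m := ordCompl[p] (Nat.card G) with hm
  have hmcop : Nat.Coprime p m := Nat.coprime_ordCompl hp hcard0
  have hpel : ∃ j : ℕ, orderOf (g ^ m) = p ^ j := by
    have h1 : (g ^ m) ^ (p ^ (Nat.card G).factorization p) = 1 := by
      rw [← pow_mul, mul_comm, Nat.ordProj_mul_ordCompl_eq_self]
      exact pow_card_eq_one'
    obtain ⟨j, -, hj⟩ := (Nat.dvd_prime_pow hp).1 (orderOf_dvd_of_pow_eq_one h1)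
    exact ⟨j, hj⟩
  have h1 := hk₁ (g ^ m) hpel
  have h2 := congrArg μ h1
  rw [map_pow, map_pow, map_pow, map_pow] at h2
  -- (ζ^m)^k = (ζ^m)^(1+p)
  set ζ := μ g with hζ
  have h3 : (ζ ^ m) ^ k = ζ ^ m := by
    rw [← pow_mul, mul_comm, pow_mul, hμk g]
  rw [h3, pow_add, pow_one] at h2
  have h4 : (ζ ^ m) ^ p = 1 := by
    have := mul_left_cancel (a := ζ ^ m) (b := 1) (c := (ζ ^ m) ^ p) (by rw [mul_one]; exact h2)
    exact this.symm
  have h5 : orderOf ζ ∣ m * p := by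
    apply orderOf_dvd_of_pow_eq_one
    rw [pow_mul]
    exact h4
  have h6 : orderOf ζ ∣ p ^ a := orderOf_dvd_of_pow_eq_one (hμa g)
  have h7 : Nat.Coprime (orderOf ζ) m := by
    apply Nat.Coprime.coprime_dvd_left h6
    exact Nat.Coprime.pow_left a hmcop
  have h8 : orderOf ζ ∣ p := h7.dvd_of_dvd_mul_left h5
  exact orderOf_dvd_iff_pow_eq_one.1 h8

omit [Fact p.Prime] in
theorem pow_k_eq_self_of_pow_p {A : Type*} [Monoid A] (hk : k ≡ 1 [MOD p]) (ζ : A) (hζ : ζ ^ p = 1) :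
    ζ ^ k = ζ := by
  have h1 : orderOf ζ ∣ p := orderOf_dvd_of_pow_eq_one hζ
  have h2 : k ≡ 1 [MOD orderOf ζ] := hk.of_dvd h1
  have h3 : k % orderOf ζ = 1 % orderOf ζ := h2
  rw [← pow_mod_orderOf, h3, pow_mod_orderOf, pow_one]

end Arith

section Dual

/-- the number of homomorphisms of order dividing `p` from a cyclic group of order `p ^ a`,
`a ≥ 1`, to `ℂˣ` is `p` -/
theorem card_pow_p_ker {Q : Type*} [Group Q] [Finite Q] (hQ : IsCyclic Q) (p : ℕ) [Fact p.Prime]
    (a : ℕ) (ha : a ≠ 0) (hcard : Nat.card Q = p ^ a) :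
    Nat.card (MonoidHom.ker (G := Q →* ℂˣ) (powMonoidHom p)) = p := by
  have hp : p.Prime := Fact.out
  have e1 : Multiplicative (ZMod (Nat.card Q)) ≃* Q := zmodCyclicMulEquiv hQ
  have : NeZero (Nat.card Q) := ⟨Nat.card_pos.ne'⟩
  obtain ⟨e2⟩ := CommGroup.monoidHom_mulEquiv_of_hasEnoughRootsOfUnity
    (Multiplicative (ZMod (Nat.card Q))) ℂ
  have e3 : (Q →* ℂˣ) ≃* (Multiplicative (ZMod (Nat.card Q)) →* ℂˣ) :=
    e1.symm.monoidHomCongrLeft
  have e : (Q →* ℂˣ) ≃* Q := (e3.trans e2).trans e1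
  have : IsCyclic (Q →* ℂˣ) := isCyclic_of_surjective e.symm e.symm.surjective
  have : Finite (Q →* ℂˣ) := Finite.of_equiv Q e.symm.toEquiv
  have h := IsCyclic.card_powMonoidHom_ker (G := Q →* ℂˣ) p
  rw [Nat.card_congr e.toEquiv, hcard] at h
  have h2 : (p ^ a).gcd p = p := by
    obtain ⟨b, rfl⟩ := Nat.exists_eq_succ_of_ne_zero ha
    rw [pow_succ]
    exact Nat.gcd_eq_right (Dvd.intro_left _ rfl)
  rw [h2] at h
  exact h

end Dual

section Main

variable {G : Type u} [Group G] [Fintype G]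

omit [Fintype G] in
theorem charDegree_eq_of_one {χ : G → ℂ} {c : ℕ} (h : χ 1 = c) : charDegree χ = c := by
  unfold charDegree
  rw [h]
  simp

theorem exists_degree_nat {χ : G → ℂ} (hχ : IsCharacter G χ) : ∃ c : ℕ, χ 1 = c := by
  obtain ⟨d, ρ, hρ⟩ := hχ
  exact ⟨d, by rw [← hρ]; exact Cfsg.Agent.Lib.Helper79.character_one_eq_dim ρ⟩

variable (N : Subgroup G) [hN : N.Normal] [Fintype N]

omit [Fintype G] [Fintype N] in
/-- invariance under a Sylow `p`-subgroup and `P N = G` give invariance under `G` -/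
theorem invariant_of_sup_eq_top (P : Subgroup G) (hsup : P ⊔ N = ⊤) {θ : N → ℂ}
    (hθ : IsClassFunction N θ)
    (hP : ∀ x ∈ P, ∀ n : N, θ ⟨x * n * x⁻¹, hN.conj_mem n n.2 x⟩ = θ n) (g : G) :
    conjFun N g θ = θ := by
  have h1 : P ≤ inertiaSub N θ := by
    intro x hx
    rw [mem_inertiaSub]
    funext n
    rw [conjFun_apply]
    exact hP x hx n
  have h2 : N ≤ inertiaSub N θ := le_inertiaSub N hθ
  have h3 : g ∈ inertiaSub N θ := by
    have : (⊤ : Subgroup G) ≤ inertiaSub N θ := by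
      rw [← hsup]
      exact sup_le h1 h2
    exact this (Subgroup.mem_top g)
  exact (mem_inertiaSub N θ g).1 h3

/-- existence of a `σ`-fixed extension -/
theorem exists_fixed_ext_pResidual (p : ℕ) [Fact p.Prime] (hNres : N = pResidual p G) (a : ℕ)
    (hidx : N.index = p ^ a) (k : ℕ) (hk : k.Coprime (Nat.card G)) {θ : N → ℂ}
    (hθ : IsIrrCharacter N θ) (hinv : ∀ g : G, conjFun N g θ = θ) (hdeg : ¬ p ∣ charDegree θ)
    (hσ : ∀ n : N, θ (n ^ k) = θ n) :
    ∃ χ : G → ℂ, IsIrrCharacter G χ ∧ (∀ n : N, χ n = θ n) ∧ ∀ g : G, χ (g ^ k) = χ g := by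
  have hp : p.Prime := Fact.out
  obtain ⟨d, hd⟩ := exists_degree_nat (Cfsg.Agent.Lib.Helper83.isCharacter_of_irr hθ)
  rw [charDegree_eq_of_one hd] at hdeg
  have hinv' : ∀ (g : G) (n : N), θ ⟨g * n * g⁻¹, hN.conj_mem (n : G) n.2 g⟩ = θ n := by
    intro g n
    have := congrFun (hinv g) n
    rw [conjFun_apply] at this
    exact this
  have hcop : Nat.Coprime N.index (detOrder θ * d) := by
    rw [hidx]
    apply Nat.Coprime.pow_left
    exact Nat.Coprime.mul_right (detOrder_coprime_of_pResidual p N hNres θ)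
      ((Nat.Prime.coprime_iff_not_dvd hp).2 hdeg)
  exact exists_pow_fixed_ext N k hk θ hθ hinv' d hd hcop hσ

omit [Fintype G] [Fintype N] in
theorem comm_mem_of_cyclic (hcyc : IsCyclic (G ⧸ N)) (x y : G) : x * y * x⁻¹ * y⁻¹ ∈ N := by
  rw [← QuotientGroup.eq_one_iff]
  simp only [QuotientGroup.mk_mul, QuotientGroup.mk_inv]
  have hcomm : ∀ a b : G ⧸ N, a * b = b * a := by
    intro a b
    let _ := IsCyclic.commGroup (α := G ⧸ N)
    exact mul_comm a b
  rw [hcomm (x : G ⧸ N) (y : G ⧸ N)]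
  group

/-- the linear character of `G` inflated from a homomorphism `G ⧸ N →* ℂˣ` -/
noncomputable def quotLin (l : (G ⧸ N) →* ℂˣ) : G → ℂ :=
  Cfsg.Agent.Lib.Helper20.homFun (l.comp (QuotientGroup.mk' N))

omit [Fintype G] [Fintype N] in
theorem quotLin_apply (l : (G ⧸ N) →* ℂˣ) (g : G) :
    quotLin N l g = ((l (g : G ⧸ N) : ℂˣ) : ℂ) := rfl

omit [Fintype G] [Fintype N] in
theorem quotLin_isCharacter (l : (G ⧸ N) →* ℂˣ) : IsCharacter G (quotLin N l) :=
  (Cfsg.Agent.Lib.Helper20.isCharacter_homFun _).1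

omit [Fintype G] [Fintype N] in
theorem quotLin_one (l : (G ⧸ N) →* ℂˣ) : quotLin N l 1 = 1 := by
  rw [quotLin_apply]
  simp

omit [Fintype G] [Fintype N] in
theorem quotLin_of_mem (l : (G ⧸ N) →* ℂˣ) {n : G} (hn : n ∈ N) : quotLin N l n = 1 := by
  rw [quotLin_apply, (QuotientGroup.eq_one_iff n).2 hn, map_one, Units.val_one]

omit [Fintype G] [Fintype N] in
theorem quotLin_injective : Function.Injective (quotLin (G := G) N) := by
  intro l₁ l₂ h
  have h1 : l₁.comp (QuotientGroup.mk' N) = l₂.comp (QuotientGroup.mk' N) :=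
    Cfsg.Agent.Lib.Helper20.homFun_injective h
  exact (MonoidHom.cancel_right (QuotientGroup.mk'_surjective N)).1 h1

omit [Fintype N] in
/-- twisting a `σ`-fixed extension by a character of `G ⧸ N` of order dividing `p` -/
theorem twist_props (p : ℕ) (k : ℕ) (hkmod : k ≡ 1 [MOD p]) {θ : N → ℂ} {χ₀ : G → ℂ}
    (hχ₀ : IsIrrCharacter G χ₀) (hres : ∀ n : N, χ₀ n = θ n) (hσ : ∀ g : G, χ₀ (g ^ k) = χ₀ g)
    (l : (G ⧸ N) →* ℂˣ) (hl : l ^ p = 1) :
    IsIrrCharacter G (χ₀ * quotLin N l) ∧ (∀ n : N, (χ₀ * quotLin N l) n = θ n) ∧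
      ∀ g : G, (χ₀ * quotLin N l) (g ^ k) = (χ₀ * quotLin N l) g := by
  refine ⟨isIrrCharacter_mul_linear (quotLin_isCharacter N l) (quotLin_one N l) hχ₀, ?_, ?_⟩
  · intro n
    rw [Pi.mul_apply, quotLin_of_mem N l n.2, mul_one, hres]
  · intro g
    rw [Pi.mul_apply, Pi.mul_apply, hσ, quotLin_apply, quotLin_apply, QuotientGroup.mk_pow,
      map_pow]
    have h1 : l (g : G ⧸ N) ^ p = 1 := by
      have := congrArg (fun f : (G ⧸ N) →* ℂˣ => f (g : G ⧸ N)) hl
      simpa using this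
    rw [pow_k_eq_self_of_pow_p p k hkmod _ h1]

end Main

section Final

variable {G : Type u} [Group G] [Fintype G]

/-- **Main count.** -/
theorem card_galois_fixed_pResidual (p : ℕ) [Fact p.Prime] (M : Ideal AlgInt)
    (hM : IsPModular p M) (P : Sylow p G) (N : Subgroup G) [hN : N.Normal]
    (hNres : N = pResidual p G) (hcyc : IsCyclic (G ⧸ N)) (hnt : N ≠ ⊤) (k : ℕ)
    (hk₁ : ∀ g : G, (∃ j : ℕ, orderOf g = p ^ j) → g ^ k = g ^ (1 + p))
    (hk₂ : ∀ g : G, Nat.Coprime (orderOf g) p → g ^ k = g) :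
    Nat.card {χ : IrrCharacter G // χ ∈ principalBlock M G ∧ ¬ p ∣ charDegree (χ : G → ℂ) ∧
      ∀ g : G, (χ : G → ℂ) (g ^ k) = (χ : G → ℂ) g} =
    p * Nat.card {θ : IrrCharacter ↥N // θ ∈ principalBlock M ↥N ∧
      ¬ p ∣ charDegree (θ : ↥N → ℂ) ∧
      (∀ x ∈ (P : Subgroup G), ∀ n : ↥N,
        (θ : ↥N → ℂ) ⟨x * n * x⁻¹, hN.conj_mem n n.2 x⟩ = (θ : ↥N → ℂ) n) ∧
      ∀ n : ↥N, (θ : ↥N → ℂ) (n ^ k) = (θ : ↥N → ℂ) n} := by
  classical
  have : Fintype N := Fintype.ofFinite N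
  have hp : p.Prime := Fact.out
  -- structure of `G ⧸ N`
  have hPG : IsPGroup p (G ⧸ N) := by
    subst hNres
    exact Cfsg.Agent.Lib.Helper03.isPGroup_quotient_pResidual
  obtain ⟨a, ha⟩ := hPG.exists_card_eq
  have hidx : N.index = p ^ a := by
    rw [Subgroup.index_eq_card]
    exact ha
  have ha0 : a ≠ 0 := by
    intro h
    rw [h, pow_zero] at hidx
    exact hnt (Subgroup.index_eq_one.1 hidx)
  have hpG : p ∣ Nat.card G := by
    have h1 : p ∣ N.index := by
      rw [hidx]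
      exact dvd_pow_self p ha0
    exact h1.trans (Subgroup.index_dvd_card N)
  have hkcop : k.Coprime (Nat.card G) := pow_cond_coprime p k hk₁ hk₂
  have hkmod : k ≡ 1 [MOD p] := pow_cond_modEq_one p k hpG hk₁
  have hsup : (P : Subgroup G) ⊔ N = ⊤ := by
    subst hNres
    exact Cfsg.Agent.Lib.Helper03.sylow_sup_pResidual_eq_top P
  have hab : ∀ x y : G, x * y * x⁻¹ * y⁻¹ ∈ N := comm_mem_of_cyclic N hcyc
  have hΛ := card_pow_p_ker hcyc p a ha0 ha
  -- invariance and the chosen extension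
  have hinvB : ∀ θ : {θ : IrrCharacter ↥N // θ ∈ principalBlock M ↥N ∧
      ¬ p ∣ charDegree (θ : ↥N → ℂ) ∧
      (∀ x ∈ (P : Subgroup G), ∀ n : ↥N,
        (θ : ↥N → ℂ) ⟨x * n * x⁻¹, hN.conj_mem n n.2 x⟩ = (θ : ↥N → ℂ) n) ∧
      ∀ n : ↥N, (θ : ↥N → ℂ) (n ^ k) = (θ : ↥N → ℂ) n}, ∀ g : G,
      conjFun N g ((θ : IrrCharacter N) : N → ℂ) = ((θ : IrrCharacter N) : N → ℂ) := by
    intro θ g
    exact invariant_of_sup_eq_top N (P : Subgroup G) hsup
      (Cfsg.Agent.Lib.Helper83.char_isClassFunction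
        (Cfsg.Agent.Lib.Helper83.isCharacter_of_irr θ.1.2)) θ.2.2.2.1 g
  have key : ∀ θ : {θ : IrrCharacter ↥N // θ ∈ principalBlock M ↥N ∧
      ¬ p ∣ charDegree (θ : ↥N → ℂ) ∧
      (∀ x ∈ (P : Subgroup G), ∀ n : ↥N,
        (θ : ↥N → ℂ) ⟨x * n * x⁻¹, hN.conj_mem n n.2 x⟩ = (θ : ↥N → ℂ) n) ∧
      ∀ n : ↥N, (θ : ↥N → ℂ) (n ^ k) = (θ : ↥N → ℂ) n},
      ∃ χ : G → ℂ, IsIrrCharacter G χ ∧ (∀ n : N, χ n = ((θ : IrrCharacter N) : N → ℂ) n) ∧
        ∀ g : G, χ (g ^ k) = χ g := by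
    intro θ
    exact exists_fixed_ext_pResidual N p hNres a hidx k hkcop θ.1.2 (hinvB θ) θ.2.2.1 θ.2.2.2.2
  choose can hcanirr hcanres hcanσ using key
  -- the bijection
  have hbij : Nat.card ((MonoidHom.ker (G := (G ⧸ N) →* ℂˣ) (powMonoidHom p)) ×
      {θ : IrrCharacter ↥N // θ ∈ principalBlock M ↥N ∧
      ¬ p ∣ charDegree (θ : ↥N → ℂ) ∧
      (∀ x ∈ (P : Subgroup G), ∀ n : ↥N,
        (θ : ↥N → ℂ) ⟨x * n * x⁻¹, hN.conj_mem n n.2 x⟩ = (θ : ↥N → ℂ) n) ∧
      ∀ n : ↥N, (θ : ↥N → ℂ) (n ^ k) = (θ : ↥N → ℂ) n}) =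
      Nat.card {χ : IrrCharacter G // χ ∈ principalBlock M G ∧ ¬ p ∣ charDegree (χ : G → ℂ) ∧
      ∀ g : G, (χ : G → ℂ) (g ^ k) = (χ : G → ℂ) g} := by
    have hlp : ∀ l : MonoidHom.ker (G := (G ⧸ N) →* ℂˣ) (powMonoidHom p),
        (l : (G ⧸ N) →* ℂˣ) ^ p = 1 := by
      intro l
      have := l.2
      rw [MonoidHom.mem_ker, powMonoidHom_apply] at this
      exact this
    have hover : ∀ (l : MonoidHom.ker (G := (G ⧸ N) →* ℂˣ) (powMonoidHom p)) θ,
        classInner (fun n : N => (can θ * quotLin N (l : (G ⧸ N) →* ℂˣ)) n)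
          ((θ : IrrCharacter N) : N → ℂ) ≠ 0 := by
      intro l θ
      have h1 := (twist_props N p k hkmod (hcanirr θ) (hcanres θ) (hcanσ θ) l (hlp l)).2.1
      rw [show (fun n : N => (can θ * quotLin N (l : (G ⧸ N) →* ℂˣ)) n) =
        ((θ : IrrCharacter N) : N → ℂ) from funext h1,
        Cfsg.Agent.Lib.Helper83.irr_inner_self]
      exact one_ne_zero
    refine Nat.card_eq_of_bijective (fun x => ⟨⟨can x.2 * quotLin N (x.1 : (G ⧸ N) →* ℂˣ),
      (twist_props N p k hkmod (hcanirr x.2) (hcanres x.2) (hcanσ x.2) x.1 (hlp x.1)).1⟩,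
      mem_principalBlock_of_over N p hM ⟨a, hidx⟩ x.2.2.1 (hover x.1 x.2), ?_,
      (twist_props N p k hkmod (hcanirr x.2) (hcanres x.2) (hcanσ x.2) x.1 (hlp x.1)).2.2⟩)
      ⟨?_, ?_⟩
    · -- degree
      have h1 : (can x.2 * quotLin N (x.1 : (G ⧸ N) →* ℂˣ)) 1 =
          ((x.2 : IrrCharacter N) : N → ℂ) 1 := by
        have := (twist_props N p k hkmod (hcanirr x.2) (hcanres x.2) (hcanσ x.2) x.1
          (hlp x.1)).2.1 1
        simpa using this
      show ¬ p ∣ charDegree (can x.2 * quotLin N (x.1 : (G ⧸ N) →* ℂˣ))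
      unfold charDegree
      rw [h1]
      exact x.2.2.2.1
    · -- injective
      intro x y hxy
      have h0 : can x.2 * quotLin N (x.1 : (G ⧸ N) →* ℂˣ) =
          can y.2 * quotLin N (y.1 : (G ⧸ N) →* ℂˣ) :=
        congrArg (fun z => ((z.1 : IrrCharacter G) : G → ℂ)) hxy
      have h1 : x.2 = y.2 := by
        apply Subtype.ext
        apply Subtype.ext
        funext n
        rw [← (twist_props N p k hkmod (hcanirr x.2) (hcanres x.2) (hcanσ x.2) x.1
          (hlp x.1)).2.1 n, ← (twist_props N p k hkmod (hcanirr y.2) (hcanres y.2) (hcanσ y.2) y.1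
          (hlp y.1)).2.1 n, h0]
      obtain ⟨l₁, θ₁⟩ := x
      obtain ⟨l₂, θ₂⟩ := y
      simp only at h1 h0
      subst h1
      have hχN : IsIrrCharacter N (fun n : N => can θ₁ n) := by
        rw [show (fun n : N => can θ₁ n) = ((θ₁ : IrrCharacter N) : N → ℂ) from
          funext (hcanres θ₁)]
        exact θ₁.1.2
      have h2 : quotLin N (l₁ : (G ⧸ N) →* ℂˣ) = quotLin N (l₂ : (G ⧸ N) →* ℂˣ) :=
        mul_linear_injective N (Cfsg.Agent.Lib.Helper83.isCharacter_of_irr (hcanirr θ₁)) hχN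
          (quotLin_isCharacter N _) (quotLin_isCharacter N _) (quotLin_one N _) (quotLin_one N _)
          (fun n hn => quotLin_of_mem N _ hn) (fun n hn => quotLin_of_mem N _ hn) h0
      have h3 := quotLin_injective N h2
      exact Prod.ext (Subtype.ext h3) rfl
    · -- surjective
      rintro ⟨χ, hχB, hχdeg, hχσ⟩
      have hχc := Cfsg.Agent.Lib.Helper83.isCharacter_of_irr χ.2
      have hχcl := Cfsg.Agent.Lib.Helper83.char_isClassFunction hχc
      obtain ⟨c, hc⟩ := exists_degree_nat hχc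
      have hpc : ¬ p ∣ c := by
        rw [← charDegree_eq_of_one hc]
        exact hχdeg
      have hres : IsIrrCharacter N (fun n : N => (χ : G → ℂ) n) :=
        restrict_irr_of_not_dvd N p ⟨a, hidx⟩ χ.2 c hc hpc
      set θ : IrrCharacter N := ⟨fun n : N => (χ : G → ℂ) n, hres⟩ with hθdef
      have hoverθ : classInner (fun n : N => (χ : G → ℂ) n) (θ : N → ℂ) ≠ 0 := by
        have := Cfsg.Agent.Lib.Helper83.irr_inner_self θ
        rw [show ((θ : IrrCharacter N) : N → ℂ) = fun n : N => (χ : G → ℂ) n from rfl] at this ⊢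
        rw [this]
        exact one_ne_zero
      have hθB : θ ∈ principalBlock M N := mem_principalBlock_of_under N p hM hχB hoverθ
      have hθdeg : ¬ p ∣ charDegree (θ : N → ℂ) := by
        have h1 : (θ : N → ℂ) 1 = c := by
          show (χ : G → ℂ) ((1 : N) : G) = c
          rw [← hc]
          rfl
        rw [charDegree_eq_of_one h1]
        exact hpc
      have hθP : ∀ x ∈ (P : Subgroup G), ∀ n : ↥N,
          (θ : ↥N → ℂ) ⟨x * n * x⁻¹, hN.conj_mem n n.2 x⟩ = (θ : ↥N → ℂ) n := by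
        intro x _ n
        exact hχcl (n : G) x
      have hθσ : ∀ n : ↥N, (θ : ↥N → ℂ) (n ^ k) = (θ : ↥N → ℂ) n := by
        intro n
        show (χ : G → ℂ) ((n ^ k : N) : G) = (χ : G → ℂ) n
        rw [Subgroup.coe_pow]
        exact hχσ n
      set b : {θ : IrrCharacter ↥N // θ ∈ principalBlock M ↥N ∧
        ¬ p ∣ charDegree (θ : ↥N → ℂ) ∧
        (∀ x ∈ (P : Subgroup G), ∀ n : ↥N,
          (θ : ↥N → ℂ) ⟨x * n * x⁻¹, hN.conj_mem n n.2 x⟩ = (θ : ↥N → ℂ) n) ∧
        ∀ n : ↥N, (θ : ↥N → ℂ) (n ^ k) = (θ : ↥N → ℂ) n} := ⟨θ, hθB, hθdeg, hθP, hθσ⟩ with hbdef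
      have hover0 : classInner (fun n : N => can b n) (θ : N → ℂ) ≠ 0 := by
        rw [show (fun n : N => can b n) = (θ : N → ℂ) from funext (hcanres b),
          Cfsg.Agent.Lib.Helper83.irr_inner_self]
        exact one_ne_zero
      obtain ⟨lam, hlamc, hlam1, hlamN, hχlam⟩ :=
        exists_linear_twist N hab θ.2 (hinvB b) (hcanirr b) χ.2 hover0 hoverθ
      obtain ⟨μ, hμ⟩ := Cfsg.Agent.Lib.Helper20.exists_hom_of_linear hlamc hlam1
      have hμN : ∀ n ∈ N, μ n = 1 := by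
        intro n hn
        apply Units.ext
        rw [← Cfsg.Agent.Lib.Helper20.homFun_apply, hμ, hlamN n hn, Units.val_one]
      have hμker : N ≤ μ.ker := fun n hn => MonoidHom.mem_ker.2 (hμN n hn)
      set l : (G ⧸ N) →* ℂˣ := QuotientGroup.lift N μ hμker with hldef
      have hlμ : ∀ g : G, l (g : G ⧸ N) = μ g := fun g => QuotientGroup.lift_mk N hμker g
      have hlam_eq : quotLin N l = lam := by
        funext g
        rw [quotLin_apply, hlμ, ← hμ, Cfsg.Agent.Lib.Helper20.homFun_apply]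
      -- μ is σ-fixed
      have hχN : IsIrrCharacter N (fun n : N => can b n) := by
        rw [show (fun n : N => can b n) = (θ : N → ℂ) from funext (hcanres b)]
        exact θ.2
      have hμk : ∀ g : G, μ g ^ k = μ g := by
        have h1 : can b * Cfsg.Agent.Lib.Helper20.homFun (μ ^ k) =
            can b * Cfsg.Agent.Lib.Helper20.homFun μ := by
          funext g
          rw [Pi.mul_apply, Pi.mul_apply, Cfsg.Agent.Lib.Helper20.homFun_apply,
            Cfsg.Agent.Lib.Helper20.homFun_apply, MonoidHom.pow_apply, ← map_pow, ← hcanσ b g]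
          have h2 := congrFun hχlam (g ^ k)
          have h3 := congrFun hχlam g
          rw [Pi.mul_apply, ← hμ, Cfsg.Agent.Lib.Helper20.homFun_apply] at h2 h3
          rw [← h2, hχσ g, h3, hcanσ b g]
        have h2 := mul_linear_injective N (Cfsg.Agent.Lib.Helper83.isCharacter_of_irr (hcanirr b))
          hχN (Cfsg.Agent.Lib.Helper20.isCharacter_homFun (μ ^ k)).1
          (Cfsg.Agent.Lib.Helper20.isCharacter_homFun μ).1
          (Cfsg.Agent.Lib.Helper20.isCharacter_homFun (μ ^ k)).2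
          (Cfsg.Agent.Lib.Helper20.isCharacter_homFun μ).2
          (fun n hn => by
            rw [Cfsg.Agent.Lib.Helper20.homFun_apply, MonoidHom.pow_apply, hμN n hn, one_pow,
              Units.val_one])
          (fun n hn => by rw [Cfsg.Agent.Lib.Helper20.homFun_apply, hμN n hn, Units.val_one]) h1
        have h3 := Cfsg.Agent.Lib.Helper20.homFun_injective h2
        intro g
        have := congrArg (fun f : G →* ℂˣ => f g) h3
        simpa using this
      have hμa : ∀ g : G, μ g ^ (p ^ a) = 1 := by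
        intro g
        have h1 := Cfsg.Agent.Lib.Helper20.pow_index_eq_one_of_trivial N μ hμN
        rw [hidx] at h1
        have := congrArg (fun f : G →* ℂˣ => f g) h1
        simpa using this
      have hμp : ∀ g : G, μ g ^ p = 1 := pow_p_eq_one_of_fixed p k hk₁ μ a hμa hμk
      have hlp' : l ^ p = 1 := by
        apply MonoidHom.ext
        intro t
        induction t using QuotientGroup.induction_on with
        | H g =>
          rw [MonoidHom.pow_apply, hlμ, hμp g]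
          rfl
      have hlmem : l ∈ MonoidHom.ker (G := (G ⧸ N) →* ℂˣ) (powMonoidHom p) := by
        rw [MonoidHom.mem_ker, powMonoidHom_apply]
        exact hlp'
      refine ⟨(⟨l, hlmem⟩, b), ?_⟩
      apply Subtype.ext
      apply Subtype.ext
      show can b * quotLin N l = (χ : G → ℂ)
      rw [hlam_eq, hχlam]
  rw [← hbij, Nat.card_prod, hΛ]

end Final

end Cfsg.Agent.Lib.Helper84
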