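import Mathlib
import Cfsg.Agent.Lib.Helper84.Gallagher
import Cfsg.Agent.Lib.Helper84.PResCount
import Cfsg.Agent.Lib.Helper84.Frobenius
import Cfsg.Agent.Lib.Helper34.Induction
import Cfsg.Agent.Lib.Helper83.Decompose
import Cfsg.Agent.S0856

/-!
# S4460 (three character degrees), step C2: Gallagher glue

`K` normal of `p`-power index, `χ` irreducible of `p'`-degree, `β` irreducible with `K ≤ ker β`:
then `β * χ` is irreducible (so `β 1 * χ 1` is a character degree).
-/

set_option autoImplicit false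

namespace Cfsg.Agent.Lib.Helper84.CD3

open Cfsg
open scoped ComplexConjugate

/-- **C2 core** (Gallagher): `K ⊴ G` of `p`-power index, `χ ∈ Irr(G)` with `p ∤ χ(1)`,
`β ∈ Irr(G)` with `K ≤ ker β`.  Then `β * χ ∈ Irr(G)`. -/
theorem mul_irr_of_pPower_index {G : Type*} [Group G] [Fintype G] (K : Subgroup G) [hK : K.Normal]
    (p : ℕ) [Fact p.Prime] (hidx : ∃ a : ℕ, K.index = p ^ a)
    {χ β : G → ℂ} (hχ : IsIrrCharacter G χ) (hβ : IsIrrCharacter G β)
    (hβK : ∀ k ∈ K, β k = β 1) (c : ℕ) (hc : χ 1 = c) (hpc : ¬ p ∣ c) :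
    IsIrrCharacter G (β * χ) := by
  classical
  haveI : Fintype K := Fintype.ofFinite _
  have hχc := Cfsg.Agent.Lib.Helper83.isCharacter_of_irr hχ
  have hβc := Cfsg.Agent.Lib.Helper83.isCharacter_of_irr hβ
  have hχcl : IsClassFunction G χ := Cfsg.Agent.Lib.Helper83.char_isClassFunction hχc
  have hβcl : IsClassFunction G β := Cfsg.Agent.Lib.Helper83.char_isClassFunction hβc
  have hres : IsIrrCharacter K (fun n : K => χ n) :=
    Cfsg.Agent.Lib.Helper84.restrict_irr_of_not_dvd K p hidx hχ c hc hpc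
  have hone : IsIrrCharacter K (fun _ : K => (1 : ℂ)) := Cfsg.Agent.Lib.Helper83.isIrrCharacter_one
  have hprod : ((fun _ : K => (1 : ℂ)) * fun n : K => χ n) = fun n : K => χ n := by
    funext n
    simp
  have hbij := Cfsg.Agent.S0856.result K (fun _ : K => (1 : ℂ)) (fun n : K => χ n) hone hres
    (fun _ _ => rfl)
    (fun g n => by
      have := hχcl (n : G) g
      simpa using this)
    (by rw [hprod]; exact hres) χ hχ (fun _ => rfl)
  have hmem : β ∈ {β : G → ℂ | Cfsg.IsIrrCharacter G β ∧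
      Cfsg.classInner (Cfsg.indFun K (fun _ : K => (1 : ℂ))) β ≠ 0} := by
    refine ⟨hβ, ?_⟩
    rw [Cfsg.Agent.Lib.Helper34.classInner_indFun_left K _ β hβcl,
      Cfsg.Agent.Lib.Helper34.classInner_def]
    have h1 : ∀ h : K, (1 : ℂ) * conj (β (h : G)) = conj (β 1) := by
      intro h
      rw [one_mul, hβK h h.2]
    rw [Finset.sum_congr rfl (fun h _ => h1 h), Finset.sum_const, Finset.card_univ,
      nsmul_eq_mul, ← Nat.card_eq_fintype_card]
    have hKne : (Nat.card K : ℂ) ≠ 0 := by exact_mod_cast Nat.card_pos.ne'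
    rw [← mul_assoc, inv_mul_cancel₀ hKne, one_mul]
    intro h0
    have : β 1 = 0 := by
      have := congrArg conj h0
      simpa using this
    exact Cfsg.Agent.Lib.Helper84.irr_one_ne_zero β hβ this
  exact (hbij.mapsTo hmem).1

end Cfsg.Agent.Lib.Helper84.CD3
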