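import Mathlib
import Cfsg.Prelude.Def_Blocks
import Cfsg.Agent.Lib.Helper01.CD3Defs
import Cfsg.Agent.Lib.Helper84.CD3C2
import Cfsg.Agent.Lib.Helper83.CharMisc
import Cfsg.Agent.Lib.Helper83.Quotient
import Cfsg.Agent.Lib.Helper83.CharBasic

/-!
# S4460 pack K-CD3, leaf 446024 K-CD3-C2: a `p`-group quotient of `G` is abelian
-/

set_option autoImplicit false

namespace Cfsg.Agent.Lib.Helper84.CD3

open Cfsg Cfsg.Agent.Lib.Helper01.CD3
open scoped ComplexConjugate

universe u

/-- the degree of a product of two characters -/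
theorem charDegree_mul_of_isCharacter {G : Type u} [Group G] {χ β : G → ℂ}
    (hχ : IsCharacter G χ) (hβ : IsCharacter G β) :
    charDegree (β * χ) = charDegree β * charDegree χ := by
  have h1 := Cfsg.Agent.Lib.Helper83.charDegree_cast hχ
  have h2 := Cfsg.Agent.Lib.Helper83.charDegree_cast hβ
  have h3 : (β * χ) 1 = ((charDegree β * charDegree χ : ℕ) : ℂ) := by
    rw [Pi.mul_apply, ← h1, ← h2, Nat.cast_mul]
  exact Cfsg.Agent.Lib.Helper84.charDegree_eq_of_one h3

/-- 446024 K-CD3-C2: a `p`-group quotient of `G` is abelian. -/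
theorem pgroup_quotient_comm {G : Type u} [Group G] [Finite G] {m n : ℕ} (hm : 1 < m) (hn : 1 < n)
    (hmn : Nat.Coprime m n) (hcd : ThreeDeg G m n)
    (hm' : ∃ χ : G → ℂ, IsIrrCharacter G χ ∧ charDegree χ = m)
    (hn' : ∃ χ : G → ℂ, IsIrrCharacter G χ ∧ charDegree χ = n)
    (K : Subgroup G) [K.Normal] (p : ℕ) [Fact p.Prime] (hp : IsPGroup p (G ⧸ K)) :
    ∀ a b : G ⧸ K, a * b = b * a := by
  classical
  by_contra hnc
  letI : Fintype G := Fintype.ofFinite G
  have hpp : p.Prime := Fact.out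
  -- a nonlinear irreducible character of the quotient
  obtain ⟨β₀, hβ₀⟩ := Cfsg.Agent.Lib.Helper83.exists_nonlinear_of_not_comm hnc
  -- its degree is a power of p
  obtain ⟨a, ha⟩ := IsPGroup.iff_card.mp hp
  have hdvd : charDegree (β₀ : G ⧸ K → ℂ) ∣ p ^ a := by
    rw [← ha]
    exact Cfsg.Agent.Lib.Helper83.irr_charDegree_dvd_card β₀
  obtain ⟨e, -, he⟩ := (Nat.dvd_prime_pow hpp).mp hdvd
  -- inflate
  set β : G → ℂ := fun g => (β₀ : G ⧸ K → ℂ) (QuotientGroup.mk g) with hβdef
  have hβ : IsIrrCharacter G β := Cfsg.Agent.Lib.Helper83.isIrrCharacter_inflate K β₀.2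
  have hβ1 : β 1 = (β₀ : G ⧸ K → ℂ) 1 := by
    rw [hβdef]
    simp only [QuotientGroup.mk_one]
  have hβK : ∀ k ∈ K, β k = β 1 := by
    intro k hk
    rw [hβ1, hβdef]
    simp only
    rw [(QuotientGroup.eq_one_iff k).mpr hk]
  have hβdeg : charDegree β = p ^ e := by
    rw [← he]
    unfold charDegree
    rw [hβ1]
  have hβc := Cfsg.Agent.Lib.Helper83.isCharacter_of_irr hβ
  have hβcast := Cfsg.Agent.Lib.Helper83.charDegree_cast hβc
  have he0 : e ≠ 0 := by
    rintro rfl
    rw [pow_zero] at hβdeg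
    apply hβ₀
    rw [← hβ1, ← hβcast, hβdeg, Nat.cast_one]
  have hpdvd : p ∣ charDegree β := by
    rw [hβdeg]
    exact dvd_pow_self p he0
  have hidx : ∃ a : ℕ, K.index = p ^ a := ⟨a, by rw [Subgroup.index_eq_card, ha]⟩
  -- the general contradiction: β of degree d > 1 divisible by p, χ of degree c > 1 prime to p,
  -- product degree d * c not in {1, d, c}... we do it by cases
  have key : ∀ (c : ℕ), 1 < c → Nat.Coprime (charDegree β) c → 1 < charDegree β →
      (∀ φ : G → ℂ, IsIrrCharacter G φ →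
        charDegree φ = 1 ∨ charDegree φ = charDegree β ∨ charDegree φ = c) →
      (∃ χ : G → ℂ, IsIrrCharacter G χ ∧ charDegree χ = c) → False := by
    intro c hc hcop hd hcd' ⟨χ, hχ, hχc⟩
    have hχc' := Cfsg.Agent.Lib.Helper83.isCharacter_of_irr hχ
    have hχcast := Cfsg.Agent.Lib.Helper83.charDegree_cast hχc'
    have hpc : ¬ p ∣ c := by
      intro hpc
      have := Nat.dvd_gcd hpdvd hpc
      rw [hcop] at this
      exact hpp.one_lt.ne' (Nat.dvd_one.mp this)
    have hirr := mul_irr_of_pPower_index K p hidx hχ hβ hβK c (by rw [← hχcast, hχc]) hpc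
    have hdeg : charDegree (β * χ) = charDegree β * c := by
      rw [charDegree_mul_of_isCharacter hχc' hβc, hχc]
    rcases hcd' _ hirr with h | h | h
    · rw [hdeg] at h
      have := Nat.eq_one_of_mul_eq_one_left h
      omega
    · rw [hdeg] at h
      have : charDegree β * c = charDegree β * 1 := by rw [h, mul_one]
      have := Nat.eq_of_mul_eq_mul_left (by omega) this
      omega
    · rw [hdeg] at h
      have : charDegree β * c = 1 * c := by rw [h, one_mul]
      have := Nat.eq_of_mul_eq_mul_right (by omega) this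
      omega
  have hd1 : 1 < charDegree β := by
    rw [hβdeg]
    exact Nat.one_lt_pow he0 hpp.one_lt
  rcases hcd β hβ with h | h | h
  · omega
  · -- degree of β is m
    exact key n hn (by rw [h]; exact hmn) hd1 (by rw [h]; exact hcd) hn'
  · -- degree of β is n
    exact key m hm (by rw [h]; exact hmn.symm) hd1 (by rw [h]; exact hcd.symm) hm'

end Cfsg.Agent.Lib.Helper84.CD3
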