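import Mathlib
import Cfsg.Agent.Lib.Helper83.Decompose
import Cfsg.Agent.Lib.Helper85.Clifford
import Cfsg.Agent.Lib.Helper85.CliffordCorr

/-!
# Clifford's degree formula

If `θ ∈ Irr(N)` occurs with multiplicity `m ≠ 0` in the restriction of `χ ∈ Irr(G)` to the normal
subgroup `N`, then `χ(1) = m · |G : I_G(θ)| · θ(1)`.
-/

set_option autoImplicit false

namespace Cfsg.Agent.Lib.Helper84

open Cfsg
open scoped ComplexConjugate

universe u

theorem clifford_degree {G : Type u} [Group G] [Fintype G] {N : Subgroup G} [Fintype N]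
    (hN : N.Normal) (χ : IrrCharacter G) (θ : IrrCharacter N) (m : ℕ)
    (hm : classInner (fun n : N => (χ : G → ℂ) n) (θ : N → ℂ) = m) (hm0 : m ≠ 0) :
    charDegree (χ : G → ℂ) =
      m * ((Cfsg.Agent.Lib.Helper85.conjStab hN (θ : N → ℂ)).index * charDegree (θ : N → ℂ)) := by
  classical
  have hθ : classInner (fun n : N => (χ : G → ℂ) n) (θ : N → ℂ) ≠ 0 := by
    rw [hm]; exact_mod_cast hm0
  have hχc := Cfsg.Agent.Lib.Helper83.IrrCharacter_isCharacter χ
  have hcl := Cfsg.Agent.Lib.Helper85.clifford_finset hN χ.2 θ.2 hθ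
  have hcl1 := congrFun hcl 1
  simp only [Pi.smul_apply, Finset.sum_apply, smul_eq_mul] at hcl1
  have hconj1 : ∀ ψ ∈ Finset.univ.image
      (fun g : G => Cfsg.Agent.Lib.Helper85.conjFun hN (θ : N → ℂ) g),
      ψ 1 = (θ : N → ℂ) 1 := by
    intro ψ hψ
    rw [Finset.mem_image] at hψ
    obtain ⟨g, -, rfl⟩ := hψ
    rw [Cfsg.Agent.Lib.Helper85.conjFun_apply]
    have h1 : (⟨g * ((1 : N) : G) * g⁻¹, hN.conj_mem (1 : N) (1 : N).2 g⟩ : N) = 1 :=
      Subtype.ext (by simp)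
    rw [h1]
  rw [Finset.sum_congr rfl hconj1, Finset.sum_const, nsmul_eq_mul,
    Cfsg.Agent.Lib.Helper85.card_conj_orbit_eq_index hN, hm] at hcl1
  apply Nat.cast_injective (R := ℂ)
  rw [Cfsg.Agent.Lib.Helper83.charDegree_cast hχc]
  push_cast
  rw [Cfsg.Agent.Lib.Helper83.charDegree_cast
    (Cfsg.Agent.Lib.Helper83.IrrCharacter_isCharacter θ)]
  simpa using hcl1

end Cfsg.Agent.Lib.Helper84
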