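import Mathlib

/-!
# K-S2720-G (helper84, for helper7's pack K-E of S2720): Singer element of an irreducible module

`L` a minimal nonzero `σ`-invariant subspace of a finite vector space. Then `K := F[X] ⧸ ker (g ↦ g(σ)|_L)`
is a finite integral domain, evaluation at a nonzero `w ∈ L` is a bijection `K → L`, and a generator of the
cyclic group `Kˣ` (of order `|L| - 1`) is represented by a polynomial `f` such that `f(σ)` acts regularly
on `L ∖ {0}`.
-/

set_option autoImplicit false
set_option linter.style.haveILetI false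

namespace Cfsg.Agent.Lib.Helper84.S2720K

open Module Polynomial

section abstract

variable {F : Type*} [Field F] [Fintype F] {V : Type*} [AddCommGroup V] [Module F V]
  [FiniteDimensional F V]

omit [Fintype F] [FiniteDimensional F V] in
/-- polynomials in `σ` restricted to an invariant subspace -/
theorem aeval_restrict_apply (σ : V →ₗ[F] V) (L : Submodule F V) (hσL : ∀ x ∈ L, σ x ∈ L)
    (g : F[X]) (y : L) : ((aeval (σ.restrict hσL) g) y : V) = aeval σ g (y : V) := by
  induction g using Polynomial.induction_on' with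
  | add p q hp hq =>
    rw [map_add, map_add, LinearMap.add_apply, LinearMap.add_apply, Submodule.coe_add, hp, hq]
  | monomial n a =>
    rw [aeval_monomial, aeval_monomial, Module.End.mul_apply, Module.End.mul_apply,
      Module.algebraMap_end_apply, Module.algebraMap_end_apply, Submodule.coe_smul,
      Module.End.pow_restrict n hσL, LinearMap.restrict_apply]

/-- K-S2720-G. -/
theorem exists_singer (σ : V →ₗ[F] V) (L : Submodule F V) (hσL : ∀ x ∈ L, σ x ∈ L) (hL0 : L ≠ ⊥)
    (hirr : ∀ M : Submodule F V, M ≤ L → (∀ x ∈ M, σ x ∈ M) → M = ⊥ ∨ M = L) :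
    ∃ f : F[X], (∀ x ∈ L, ((aeval σ f) ^ (Nat.card L - 1)) x = x) ∧
      ∀ x ∈ L, x ≠ 0 → ∀ j : ℕ, 0 < j → j < Nat.card L - 1 → ((aeval σ f) ^ j) x ≠ x := by
  classical
  haveI : Finite V := Module.finite_of_finite F
  set τ : Module.End F L := σ.restrict hσL with hτ
  have hres : ∀ (g : F[X]) (y : L), ((aeval τ g) y : V) = aeval σ g (y : V) :=
    fun g y => aeval_restrict_apply σ L hσL g y
  -- every nonzero vector of `L` generates `L`
  have hgen : ∀ x : L, x ≠ 0 → ∀ y : L, ∃ h : F[X], aeval τ h x = y := by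
    intro x hx y
    let ev : F[X] →ₗ[F] L := (LinearMap.applyₗ x).comp (aeval τ).toLinearMap
    have hev : ∀ g : F[X], ev g = aeval τ g x := fun g => rfl
    have hM := hirr ((LinearMap.range ev).map L.subtype) (Submodule.map_subtype_le _ _) (by
      rintro m ⟨n, ⟨g, rfl⟩, rfl⟩
      refine ⟨τ (ev g), ⟨X * g, ?_⟩, ?_⟩
      · rw [hev, hev, map_mul, aeval_X, Module.End.mul_apply]
      · rfl)
    rcases hM with hM | hM
    · exfalso
      apply hx
      have h1 : (x : V) ∈ (LinearMap.range ev).map L.subtype :=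
        ⟨x, ⟨1, by rw [hev, map_one, Module.End.one_apply]⟩, rfl⟩
      rw [hM, Submodule.mem_bot] at h1
      exact Subtype.ext h1
    · have h1 : (y : V) ∈ (LinearMap.range ev).map L.subtype := by rw [hM]; exact y.2
      obtain ⟨n, ⟨g, hg⟩, hn⟩ := h1
      refine ⟨g, ?_⟩
      rw [← hev, hg]
      exact Subtype.ext hn
  -- a polynomial killing one nonzero vector kills `L`
  have hkey : ∀ x : L, x ≠ 0 → ∀ g : F[X], aeval τ g x = 0 → aeval τ g = 0 := by
    intro x hx g hg
    ext y
    obtain ⟨h, rfl⟩ := hgen x hx y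
    have h1 : aeval τ g (aeval τ h x) = aeval τ h (aeval τ g x) := by
      rw [← Module.End.mul_apply, ← Module.End.mul_apply, ← map_mul, ← map_mul, mul_comm]
    rw [h1, hg, map_zero]
    rfl
  -- a nonzero vector
  obtain ⟨w, hw0⟩ : ∃ w : L, w ≠ 0 := by
    obtain ⟨v, hvL, hv0⟩ := (Submodule.ne_bot_iff L).mp hL0
    exact ⟨⟨v, hvL⟩, fun h => hv0 (congrArg Subtype.val h)⟩
  -- the ideal and the quotient
  let φ : F[X] →+* Module.End F L := (aeval τ : F[X] →ₐ[F] Module.End F L).toRingHom
  have hφ : ∀ g : F[X], φ g = aeval τ g := fun g => rfl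
  have hprime : (RingHom.ker φ).IsPrime := by
    refine ⟨?_, ?_⟩
    · rw [Ideal.ne_top_iff_one, RingHom.mem_ker, hφ, map_one]
      intro h1
      apply hw0
      have := congrArg (fun e : Module.End F L => e w) h1
      simpa using this
    · intro a b hab
      rw [RingHom.mem_ker, hφ] at hab
      by_contra hcon
      rw [not_or] at hcon
      obtain ⟨ha, hb⟩ := hcon
      rw [RingHom.mem_ker, hφ] at ha hb
      have : ∃ y : L, aeval τ b y ≠ 0 := by
        by_contra hall
        apply hb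
        ext y
        by_contra hy
        exact hall ⟨y, fun h => hy (by rw [h]; rfl)⟩
      obtain ⟨y, hy⟩ := this
      apply ha
      apply hkey (aeval τ b y) hy
      rw [← Module.End.mul_apply, ← map_mul, hab]
      rfl
  haveI := hprime
  -- evaluation at `w` is a bijection `K → L`
  let ψ : (F[X] ⧸ RingHom.ker φ) → L := fun k => (RingHom.kerLift φ k) w
  have hψ : ∀ g : F[X], ψ (Ideal.Quotient.mk (RingHom.ker φ) g) = aeval τ g w := by
    intro g
    show (RingHom.kerLift φ (Ideal.Quotient.mk (RingHom.ker φ) g)) w = _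
    rw [RingHom.kerLift_mk, hφ]
  have hψinj : Function.Injective ψ := by
    intro k k' hkk
    obtain ⟨g, rfl⟩ := Ideal.Quotient.mk_surjective k
    obtain ⟨g', rfl⟩ := Ideal.Quotient.mk_surjective k'
    rw [hψ, hψ] at hkk
    rw [Ideal.Quotient.eq, RingHom.mem_ker, hφ]
    apply hkey w hw0
    rw [map_sub, LinearMap.sub_apply, hkk, sub_self]
  have hψsurj : Function.Surjective ψ := by
    intro y
    obtain ⟨h, hh⟩ := hgen w hw0 y
    exact ⟨Ideal.Quotient.mk _ h, by rw [hψ, hh]⟩
  haveI : Finite (F[X] ⧸ RingHom.ker φ) := Finite.of_injective ψ hψinj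
  have hcard : Nat.card (F[X] ⧸ RingHom.ker φ) = Nat.card L :=
    Nat.card_congr (Equiv.ofBijective ψ ⟨hψinj, hψsurj⟩)
  letI : Fintype (F[X] ⧸ RingHom.ker φ) := Fintype.ofFinite _
  letI : Field (F[X] ⧸ RingHom.ker φ) := Fintype.fieldOfDomain _
  have hcardu : Nat.card (F[X] ⧸ RingHom.ker φ)ˣ = Nat.card L - 1 := by
    rw [Nat.card_units, hcard]
  obtain ⟨u, hu⟩ := IsCyclic.exists_generator (α := (F[X] ⧸ RingHom.ker φ)ˣ)
  have hord : orderOf u = Nat.card L - 1 := by
    rw [orderOf_eq_card_of_forall_mem_zpowers hu, hcardu]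
  obtain ⟨f, hf⟩ := Ideal.Quotient.mk_surjective (u : F[X] ⧸ RingHom.ker φ)
  have hpow : ∀ j : ℕ, Ideal.Quotient.mk (RingHom.ker φ) (f ^ j) = ((u ^ j : _ˣ) : F[X] ⧸ RingHom.ker φ) := by
    intro j
    rw [map_pow, hf, Units.val_pow_eq_pow_val]
  have hσf : ∀ (j : ℕ) (x : V) (hx : x ∈ L), ((aeval σ f) ^ j) x = ((aeval τ (f ^ j)) ⟨x, hx⟩ : V) := by
    intro j x hx
    rw [hres, map_pow]
  refine ⟨f, ?_, ?_⟩
  · intro x hx
    rw [hσf _ x hx]
    have h1 : Ideal.Quotient.mk (RingHom.ker φ) (f ^ (Nat.card L - 1)) =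
        Ideal.Quotient.mk (RingHom.ker φ) 1 := by
      rw [hpow, ← hord, pow_orderOf_eq_one, Units.val_one, map_one]
    rw [Ideal.Quotient.eq, RingHom.mem_ker, hφ, map_sub, map_one, sub_eq_zero] at h1
    rw [h1, Module.End.one_apply]
  · intro x hx hx0 j hj0 hjlt hfix
    rw [hσf _ x hx] at hfix
    have hx0' : (⟨x, hx⟩ : L) ≠ 0 := fun h => hx0 (congrArg Subtype.val h)
    have h1 : aeval τ (f ^ j - 1) ⟨x, hx⟩ = 0 := by
      rw [map_sub, map_one, LinearMap.sub_apply, Module.End.one_apply, sub_eq_zero]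
      exact Subtype.ext hfix
    have h2 := hkey _ hx0' _ h1
    have h3 : Ideal.Quotient.mk (RingHom.ker φ) (f ^ j) = Ideal.Quotient.mk (RingHom.ker φ) 1 := by
      rw [Ideal.Quotient.eq, RingHom.mem_ker, hφ]
      exact h2
    rw [hpow, map_one] at h3
    have h4 : u ^ j = 1 := Units.ext h3
    have h5 := orderOf_dvd_of_pow_eq_one h4
    rw [hord] at h5
    have := Nat.le_of_dvd hj0 h5
    omega

end abstract

end Cfsg.Agent.Lib.Helper84.S2720K
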