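import Mathlib
import Cfsg.Agent.S0857
import Cfsg.Agent.Lib.Helper84.Clifford
import Cfsg.Agent.Lib.Helper85.CliffordCorr

set_option autoImplicit false

namespace Cfsg.Agent.Lib.Helper84

open Cfsg
open scoped ComplexConjugate

section RelPrim

universe u

variable {Γ : Type u} [Group Γ] [Fintype Γ]

/-- In a group with solvable quotient `Γ/M`, a normal subgroup `K > M` has a normal subgroup
`L` of `Γ` with `M ≤ L < K`, `K/L` a chief factor and abelian. -/
theorem exists_abelian_chief_below (M K : Subgroup Γ) [M.Normal] [K.Normal]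
    (hsolv : Group.IsSolvable (Γ ⧸ M)) (hMK : M < K) :
    ∃ L : Subgroup Γ, L.Normal ∧ M ≤ L ∧ L < K ∧
      (∀ X : Subgroup Γ, X.Normal → L ≤ X → X ≤ K → X = L ∨ X = K) ∧ ⁅K, K⁆ ≤ L := by
  classical
  -- choose L of maximal order
  let S : Finset (Subgroup Γ) := Finset.univ.filter (fun L => L.Normal ∧ M ≤ L ∧ L < K)
  have hSne : S.Nonempty := ⟨M, Finset.mem_filter.mpr ⟨Finset.mem_univ _, inferInstance, le_refl _, hMK⟩⟩
  obtain ⟨L, hLS, hLmax⟩ := Finset.exists_max_image S (fun L => Nat.card L) hSne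
  obtain ⟨-, hLn, hML, hLK⟩ := Finset.mem_filter.mp hLS
  have hchief : ∀ X : Subgroup Γ, X.Normal → L ≤ X → X ≤ K → X = L ∨ X = K := by
    intro X hXn hLX hXK
    by_cases hXK' : X = K
    · exact Or.inr hXK'
    · left
      have hXS : X ∈ S := Finset.mem_filter.mpr
        ⟨Finset.mem_univ _, hXn, hML.trans hLX, lt_of_le_of_ne hXK hXK'⟩
      have hcard := hLmax X hXS
      exact (Subgroup.eq_of_le_of_card_ge hLX hcard).symm
  refine ⟨L, hLn, hML, hLK, hchief, ?_⟩
  -- abelian
  have hXn : (⁅K, K⁆ ⊔ L).Normal := inferInstance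
  have hXK : ⁅K, K⁆ ⊔ L ≤ K := sup_le (Subgroup.commutator_le_left K K) hLK.le
  rcases hchief _ hXn le_sup_right hXK with h | h
  · rw [← h]; exact le_sup_left
  · exfalso
    -- Γ/L is solvable
    have hsolvL : Group.IsSolvable (Γ ⧸ L) := by
      haveI := hsolv
      have hsurj : Function.Surjective (QuotientGroup.map M L (MonoidHom.id Γ) hML) := by
        intro x
        obtain ⟨g, rfl⟩ := QuotientGroup.mk_surjective x
        exact ⟨QuotientGroup.mk g, rfl⟩
      exact Group.isSolvable_of_surjective hsurj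
    set π := QuotientGroup.mk' L with hπ
    set Kb := K.map π with hKb
    have hperf : Kb = ⁅Kb, Kb⁆ := by
      have h1 : (⁅K, K⁆ ⊔ L).map π = Kb := by rw [h]
      rw [Subgroup.map_sup, Subgroup.map_commutator] at h1
      have h2 : L.map π = ⊥ := QuotientGroup.map_mk'_self L
      rw [h2, sup_bot_eq] at h1
      exact h1.symm
    have hle : ∀ n : ℕ, Kb ≤ derivedSeries (Γ ⧸ L) n := by
      intro n
      induction n with
      | zero => exact le_top
      | succ n ih =>
        rw [derivedSeries_succ, hperf]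
        exact Subgroup.commutator_mono ih ih
    obtain ⟨n, hn⟩ := (Group.isSolvable_def (Γ ⧸ L)).mp hsolvL
    have hKbot : Kb = ⊥ := by
      rw [eq_bot_iff, ← hn]; exact hle n
    have hKL : K ≤ L := by
      intro k hk
      have : π k ∈ Kb := Subgroup.mem_map_of_mem π hk
      rw [hKbot, Subgroup.mem_bot] at this
      exact (QuotientGroup.eq_one_iff k).mp this
    exact absurd hLK (not_lt_of_ge hKL)

/-- Restriction of an irreducible character to the top subgroup is irreducible. -/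
theorem isIrrCharacter_restrict_top {ψ : Γ → ℂ} (hψ : IsIrrCharacter Γ ψ) :
    IsIrrCharacter (⊤ : Subgroup Γ) (fun k : (⊤ : Subgroup Γ) => ψ k) :=
  isIrrCharacter_comp_mulEquiv (Subgroup.topEquiv : (⊤ : Subgroup Γ) ≃* Γ) hψ

/-- A relatively primitive irreducible character (with respect to `M`) restricts irreducibly to
`M`, when `Γ/M` is solvable and no chief factor above `M` has square order. -/
theorem irr_restrict_of_rel_primitive (M : Subgroup Γ) [hM : M.Normal] [Fintype M]
    (hsolv : Group.IsSolvable (Γ ⧸ M))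
    (hchief : ∀ K L : Subgroup Γ, K.Normal → L.Normal → M ≤ L → L < K →
      (∀ X : Subgroup Γ, X.Normal → L ≤ X → X ≤ K → X = L ∨ X = K) → ¬ IsSquare (L.relIndex K))
    (ψ : Γ → ℂ) (hψ : IsIrrCharacter Γ ψ)
    (hprim : ∀ (I : Subgroup Γ) (ψ' : I → ℂ), M ≤ I → IsIrrCharacter I ψ' →
      indFun I ψ' = ψ → I = ⊤) :
    IsIrrCharacter M (fun n : M => ψ n) := by
  classical
  have hψc := Cfsg.Agent.Lib.Helper83.isCharacter_of_irr hψ
  have hψcl := Cfsg.Agent.Lib.Helper83.char_isClassFunction hψc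
  -- choose K minimal with ψ|_K irreducible
  let S : Finset (Subgroup Γ) := Finset.univ.filter
    (fun K => K.Normal ∧ M ≤ K ∧ IsIrrCharacter K (fun k : K => ψ k))
  have hSne : S.Nonempty := ⟨⊤, Finset.mem_filter.mpr
    ⟨Finset.mem_univ _, inferInstance, le_top, isIrrCharacter_restrict_top hψ⟩⟩
  obtain ⟨K, hKS, hKmin⟩ := Finset.exists_min_image S (fun K => Nat.card K) hSne
  obtain ⟨-, hKn, hMK, hKirr⟩ := Finset.mem_filter.mp hKS
  by_cases hKM : K = M
  · subst hKM; exact hKirr
  exfalso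
  have hMK' : M < K := lt_of_le_of_ne hMK (Ne.symm hKM)
  obtain ⟨L, hLn, hML, hLK, hch, hab⟩ := exists_abelian_chief_below M K hsolv hMK'
  have : Fintype K := Fintype.ofFinite _
  have : Fintype L := Fintype.ofFinite _
  have hinv : ∀ (g : Γ) (n : K), (fun k : K => ψ k) ⟨g * n * g⁻¹, hKn.conj_mem (n : Γ) n.2 g⟩ =
      (fun k : K => ψ k) n := fun g n => hψcl n g
  have hgd := Cfsg.Agent.S0857.result K L hLK hch hab (fun k : K => ψ k) hKirr hinv
  have hcardlt : Nat.card L < Nat.card K := by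
    refine lt_of_le_of_ne (Subgroup.card_le_of_le hLK.le) ?_
    intro heq
    have := Subgroup.eq_of_le_of_card_ge hLK.le heq.ge
    exact absurd this hLK.ne
  rcases hgd with h1 | ⟨φ, e, -, -, he⟩ | ⟨F, hF, hFcard, hFsum⟩
  · -- irreducible on L: contradicts minimality
    have hLS : L ∈ S := Finset.mem_filter.mpr ⟨Finset.mem_univ _, hLn, hML, h1⟩
    have := hKmin L hLS
    omega
  · -- square index
    exact hchief K L hKn hLn hML hLK hch ⟨e, by rw [← he]; ring⟩
  · -- several constituents: contradicts relative primitivity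
    have hrel : 1 < L.relIndex K := by
      have h0 : L.relIndex K ≠ 0 := Subgroup.index_ne_zero_of_finite (H := L.subgroupOf K)
      have h1 : L.relIndex K ≠ 1 := by
        intro h
        rw [Subgroup.relIndex_eq_one] at h
        exact absurd hLK (not_lt_of_ge h)
      omega
    rw [← hFcard] at hrel
    obtain ⟨φ₁, hφ₁, φ₂, hφ₂, hne⟩ := Finset.one_lt_card.mp hrel
    have hconst : ∀ φ ∈ F, classInner (fun x : L => ψ x) φ ≠ 0 := by
      intro φ hφ
      have hsum : (fun x : L => ψ x) = ∑ φ' ∈ F, φ' := hFsum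
      rw [hsum, Cfsg.Agent.Lib.Helper83.classInner_sum_left, Finset.sum_eq_single_of_mem φ hφ]
      · rw [Cfsg.Agent.Lib.Helper83.irr_inner_self ⟨φ, hF φ hφ⟩]
        exact one_ne_zero
      · intro φ' hφ' hne'
        exact Cfsg.Agent.Lib.Helper83.irr_inner_ne (χ := ⟨φ', hF φ' hφ'⟩) (ψ := ⟨φ, hF φ hφ⟩)
          (fun h => hne' (congrArg Subtype.val h))
    obtain ⟨ψ', hψ', -, hind⟩ := Cfsg.Agent.Lib.Helper85.exists_irr_conjStab hLn hψ (hF φ₁ hφ₁)
      (hconst φ₁ hφ₁)
    have hLI : L ≤ Cfsg.Agent.Lib.Helper85.conjStab hLn φ₁ :=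
      Cfsg.Agent.Lib.Helper85.le_conjStab hLn (Cfsg.Agent.Lib.Helper83.char_isClassFunction
        (Cfsg.Agent.Lib.Helper83.isCharacter_of_irr (hF φ₁ hφ₁)))
    have htop := hprim _ ψ' (hML.trans hLI) hψ' hind.symm
    obtain ⟨g, hg⟩ := clifford_exists_conj L hψ (hF φ₁ hφ₁) (hF φ₂ hφ₂) (hconst φ₁ hφ₁)
      (hconst φ₂ hφ₂)
    have hgmem : g ∈ Cfsg.Agent.Lib.Helper85.conjStab hLn φ₁ := by rw [htop]; exact Subgroup.mem_top g
    rw [Cfsg.Agent.Lib.Helper85.mem_conjStab] at hgmem
    apply hne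
    rw [← hg]
    exact hgmem.symm

end RelPrim

end Cfsg.Agent.Lib.Helper84
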