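import Mathlib
import Cfsg.Agent.Lib.Helper85.CliffordCorr
import Cfsg.Agent.Lib.Helper83.Quotient
import Cfsg.Agent.Lib.Helper34.Induction
import Cfsg.Agent.Lib.Helper01.Basic

set_option autoImplicit false

namespace Cfsg.Agent.Lib.Helper84

open Cfsg
open scoped ComplexConjugate
open Cfsg.Agent.Lib.Helper83

section RestrictInf

universe u

variable {G : Type u} [Group G] [Fintype G]

open Classical in
/-- If `ψ = ξ^G` (with `ξ ∈ Irr(T)`) restricts irreducibly to the normal subgroup `N`, then `ξ`
restricts irreducibly to `N ∩ T`. -/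
theorem isIrr_restrict_inf_of_ind (N : Subgroup G) [hN : N.Normal] (T : Subgroup G) [Fintype T]
    {ξ : T → ℂ} (hξ : IsIrrCharacter T ξ) (hψ : IsIrrCharacter G (indFun T ξ))
    (hψN : IsIrrCharacter N (fun n : N => indFun T ξ n)) :
    IsIrrCharacter (N.subgroupOf T) (fun x : N.subgroupOf T => ξ x.1) := by
  set ψ : G → ℂ := indFun T ξ with hψdef
  have hψc : IsCharacter G ψ := isCharacter_of_irr hψ
  have hξc : IsCharacter T ξ := isCharacter_of_irr hξ
  have hcf : IsClassFunction G ψ := char_isClassFunction hψc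
  have : Fintype N := Fintype.ofFinite _
  have : Fintype (N.subgroupOf T) := Fintype.ofFinite _
  have hGc : (Nat.card G : ℂ) ≠ 0 := card_ne_zero_complex
  have hTc : (Nat.card T : ℂ) ≠ 0 := card_ne_zero_complex
  have hNc : (Nat.card N : ℂ) ≠ 0 := card_ne_zero_complex
  have hDc : (Nat.card (N.subgroupOf T) : ℂ) ≠ 0 := card_ne_zero_complex
  set f : G → ℂ := fun g => if g ∈ N then ψ g else 0 with hf
  have hfc : IsClassFunction G f := by
    intro g h
    simp only [hf]
    by_cases hg : g ∈ N
    · rw [if_pos hg, if_pos (hN.conj_mem g hg h), hcf g h]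
    · have : h * g * h⁻¹ ∉ N := by
        intro hc
        apply hg
        have := hN.conj_mem _ hc h⁻¹
        simpa [mul_assoc] using this
      rw [if_neg hg, if_neg this]
  have h1 : classInner ψ f = classInner ξ (fun t : T => f t) :=
    Cfsg.Agent.Lib.Helper34.classInner_indFun_left T ξ f hfc
  -- left side
  have h2 : classInner ψ f = (Nat.card N : ℂ) / (Nat.card G : ℂ) := by
    have hn1 : classInner (fun n : N => ψ n) (fun n : N => ψ n) = 1 :=
      irr_inner_self ⟨_, hψN⟩
    rw [classInner_def] at hn1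
    have hn2 : ∑ n : N, ψ n * conj (ψ n) = (Nat.card N : ℂ) := by
      field_simp at hn1
      exact hn1
    rw [classInner_def]
    have h3 : ∑ g : G, ψ g * conj (f g) = ∑ g : G, if g ∈ N then ψ g * conj (ψ g) else 0 := by
      apply Finset.sum_congr rfl
      intro g _
      simp only [hf]
      split_ifs <;> simp
    rw [h3, ← sum_subgroup_eq_sum_ite N (fun g => ψ g * conj (ψ g)), hn2]
    field_simp
  -- right side
  have h3 : classInner ξ (fun t : T => f t) =
      (Nat.card (N.subgroupOf T) : ℂ) / (Nat.card T : ℂ) *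
        classInner (fun x : N.subgroupOf T => ξ x.1) (fun x : N.subgroupOf T => ψ (x.1 : G)) := by
    rw [classInner_def, classInner_def]
    have h4 : ∑ t : T, ξ t * conj (f t) =
        ∑ t : T, if t ∈ N.subgroupOf T then ξ t * conj (ψ (t : G)) else 0 := by
      apply Finset.sum_congr rfl
      intro t _
      simp only [hf, Subgroup.mem_subgroupOf]
      split_ifs <;> simp
    rw [h4, ← sum_subgroup_eq_sum_ite (N.subgroupOf T) (fun t : T => ξ t * conj (ψ (t : G)))]
    field_simp
  -- the complement character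
  have h5 : classInner (fun t : T => ψ t) ξ ≠ 0 := by
    rw [← Cfsg.Agent.Lib.Helper34.classInner_indFun_right T ξ ψ hcf]
    have : classInner ψ (indFun T ξ) = 1 := irr_inner_self ⟨ψ, hψ⟩
    rw [this]
    exact one_ne_zero
  have hΔ : IsCharacter T ((fun t : T => ψ t) - ξ) :=
    Cfsg.Agent.Lib.Helper85.isCharacter_sub_irr (isCharacter_restrict T hψc) hξ h5
  have hξD : IsCharacter (N.subgroupOf T) (fun x : N.subgroupOf T => ξ x.1) :=
    isCharacter_restrict (N.subgroupOf T) hξc
  have hΔD : IsCharacter (N.subgroupOf T)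
      (fun x : N.subgroupOf T => ((fun t : T => ψ t) - ξ) x.1) :=
    isCharacter_restrict (N.subgroupOf T) hΔ
  obtain ⟨a, ha⟩ := classInner_char_nat hξD hξD
  obtain ⟨b, hb⟩ := classInner_char_nat hξD hΔD
  have h6 : classInner (fun x : N.subgroupOf T => ξ x.1)
      (fun x : N.subgroupOf T => ψ (x.1 : G)) = (a : ℂ) + (b : ℂ) := by
    have : (fun x : N.subgroupOf T => ψ (x.1 : G)) =
        (fun x : N.subgroupOf T => ξ x.1) +
          (fun x : N.subgroupOf T => ((fun t : T => ψ t) - ξ) x.1) := by
      funext x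
      simp
    rw [this, classInner_add_right, ha, hb]
  -- cardinalities
  have hcard : Nat.card N * Nat.card T ≤ Nat.card G * Nat.card (N.subgroupOf T) := by
    have h7 := Cfsg.Agent.Lib.Helper01.card_sup_mul_card_inf N T
    have h8 : Nat.card (N.subgroupOf T) = Nat.card (N ⊓ T : Subgroup G) := by
      rw [← Subgroup.inf_subgroupOf_right]
      exact Nat.card_congr (Subgroup.subgroupOfEquivOfLe inf_le_right).toEquiv
    rw [h8, ← h7]
    exact Nat.mul_le_mul_right _ (Subgroup.card_le_card_group _)
  -- a + b ≤ 1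
  have hab : (a + b) * (Nat.card G * Nat.card (N.subgroupOf T)) = Nat.card N * Nat.card T := by
    have h9 : (Nat.card N : ℂ) / (Nat.card G : ℂ) =
        (Nat.card (N.subgroupOf T) : ℂ) / (Nat.card T : ℂ) * ((a : ℂ) + (b : ℂ)) := by
      rw [← h2, h1, h3, h6]
    have h10 : ((a : ℂ) + (b : ℂ)) * ((Nat.card G : ℂ) * (Nat.card (N.subgroupOf T) : ℂ)) =
        (Nat.card N : ℂ) * (Nat.card T : ℂ) := by
      field_simp at h9
      rw [h9]; ring
    exact_mod_cast h10
  have hpos : 0 < Nat.card G * Nat.card (N.subgroupOf T) :=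
    Nat.mul_pos Nat.card_pos Nat.card_pos
  have hab1 : a + b ≤ 1 := by
    by_contra hcon
    have : 2 ≤ a + b := by omega
    have := Nat.mul_le_mul_right (Nat.card G * Nat.card (N.subgroupOf T)) this
    omega
  have ha0 : a ≠ 0 := by
    rintro rfl
    rw [Nat.cast_zero, classInner_def] at ha
    have h11 : ∑ x : N.subgroupOf T, ξ x.1 * conj (ξ x.1) = 0 := by
      rcases mul_eq_zero.1 ha with h | h
      · exact absurd (inv_eq_zero.1 h) hDc
      · exact h
    simp only [Complex.mul_conj] at h11
    rw [← Complex.ofReal_sum] at h11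
    have h12 : ∑ x : N.subgroupOf T, Complex.normSq (ξ x.1) = 0 := by exact_mod_cast h11
    have h13 := (Finset.sum_eq_zero_iff_of_nonneg
      (fun x _ => Complex.normSq_nonneg (ξ (x : N.subgroupOf T).1))).1 h12 1 (Finset.mem_univ _)
    have h14 : ξ 1 = 0 := Complex.normSq_eq_zero.1 h13
    exact irr_degree_ne_zero ⟨ξ, hξ⟩ h14
  have ha1 : a = 1 := by omega
  apply isIrrCharacter_of_norm_one hξD
  rw [ha, ha1, Nat.cast_one]

end RestrictInf

end Cfsg.Agent.Lib.Helper84
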