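import Mathlib
import Cfsg.Agent.Lib.Helper84.RestrictInf
import Cfsg.Agent.Lib.Helper84.AbSylow
import Cfsg.Agent.Lib.Helper84.Ramified
import Cfsg.Agent.Lib.Helper84.NormalAction
import Cfsg.Agent.Lib.Helper80.Monomial
import Cfsg.Agent.Lib.Helper02.Fitting
import Cfsg.Agent.Lib.Helper83.Abelian
import Cfsg.Agent.Lib.Helper83.Constituent

set_option autoImplicit false

namespace Cfsg.Agent.Lib.Helper84

open Cfsg
open scoped ComplexConjugate
open Cfsg.Agent.Lib.Helper83 Cfsg.Agent.Lib.Helper80

section MonomialRestrict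

universe u

/-- If `θ ∘ f` is irreducible for a surjective `f` and a character `θ`, then `θ` is irreducible. -/
theorem isIrrCharacter_of_comp_surjective {G K : Type u} [Group G] [Group K] [Fintype G]
    (f : G →* K) (hf : Function.Surjective f) {θ : K → ℂ} (hθ : IsCharacter K θ)
    (h : IsIrrCharacter G (fun g => θ (f g))) : IsIrrCharacter K θ := by
  classical
  have : Finite K := Finite.of_surjective f hf
  have : Fintype K := Fintype.ofFinite K
  have : Fintype (G ⧸ f.ker) := Fintype.ofFinite _
  set e := QuotientGroup.quotientKerEquivOfSurjective f hf with he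
  have hθ' : IsCharacter (G ⧸ f.ker) (fun q => θ (e q)) :=
    isCharacter_comp_hom e.toMonoidHom hθ
  have hcomp : (fun g : G => (fun q => θ (e q)) (QuotientGroup.mk g)) = fun g => θ (f g) := by
    funext g
    rfl
  have hirr : IsIrrCharacter (G ⧸ f.ker) (fun q => θ (e q)) := by
    apply isIrrCharacter_of_norm_one hθ'
    rw [← classInner_comp_mk f.ker, hcomp]
    exact irr_inner_self ⟨_, h⟩
  have := isIrrCharacter_comp_mulEquiv e.symm hirr
  simpa using this

/-- an abelian normal subgroup on which a faithful irreducible character is homogeneous is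
central. -/
theorem le_center_of_invariant_constituent {H : Type u} [Group H] [Fintype H] (A : Subgroup H)
    [hA : A.Normal] [Fintype A] (hAab : ∀ a b : A, a * b = b * a) {ψ : H → ℂ}
    (hψ : IsIrrCharacter H ψ) (hfaith : ∀ g : H, ψ g = ψ 1 → g = 1) (lam : IrrCharacter A)
    (hconst : classInner (fun a : A => ψ a) (lam : A → ℂ) ≠ 0)
    (hinv : ∀ g : H, conjFun A g (lam : A → ℂ) = (lam : A → ℂ)) : A ≤ Subgroup.center H := by
  obtain ⟨e, -, he⟩ := restrict_eq_smul_of_invariant A hψ lam.2 hinv hconst
  have hlamc : IsCharacter A (lam : A → ℂ) := IrrCharacter_isCharacter lam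
  have hlam1 : (lam : A → ℂ) 1 = 1 := irr_degree_one_of_comm hAab lam
  have hval : ∀ a : A, ψ a = (e : ℂ) * (lam : A → ℂ) a := by
    intro a
    have := congrFun he a
    simpa using this
  intro a ha
  rw [Subgroup.mem_center_iff]
  intro g
  -- c = a * (g * a⁻¹ * g⁻¹)
  have hc_mem : g * a⁻¹ * g⁻¹ ∈ A := hA.conj_mem a⁻¹ (A.inv_mem ha) g
  have h1 : (lam : A → ℂ) ⟨g * a⁻¹ * g⁻¹, hc_mem⟩ = (lam : A → ℂ) ⟨a⁻¹, A.inv_mem ha⟩ := by
    have := congrFun (hinv g) ⟨a⁻¹, A.inv_mem ha⟩
    rw [conjFun_apply] at this
    exact this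
  have h2 : ψ (a * (g * a⁻¹ * g⁻¹)) = ψ 1 := by
    have e1 := hval (⟨a, ha⟩ * ⟨g * a⁻¹ * g⁻¹, hc_mem⟩)
    have e2 := hval 1
    simp only [Subgroup.coe_mul, Subgroup.coe_one] at e1 e2
    have e3 : (⟨a, ha⟩ * ⟨a⁻¹, A.inv_mem ha⟩ : A) = 1 := Subtype.ext (by simp)
    rw [e1, e2, char_deg_one_mul hlamc hlam1, h1, ← char_deg_one_mul hlamc hlam1, e3]
  have h3 := hfaith _ h2
  calc g * a = (a * (g * a⁻¹ * g⁻¹))⁻¹ * a * g := by group
    _ = a * g := by rw [h3]; group

/-- **Key lemma for Isaacs 6.23**: in a solvable group, an irreducible character restricting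
irreducibly to a normal subgroup with abelian Sylow subgroups is monomial. -/
theorem monomial_of_restrict_irr_aux : ∀ (n : ℕ) (H : Type u) [Group H] [Fintype H]
    [Group.IsSolvable H] (N : Subgroup H) [N.Normal], Nat.card H = n → AbSyl N →
    ∀ ψ : H → ℂ, IsIrrCharacter H ψ → IsIrrCharacter N (fun x : N => ψ x) →
    IsMonomialChar H ψ := by
  intro n
  induction n using Nat.strong_induction_on with
  | _ n ih =>
  intro H _ _ _ N hNn hcard hab ψ hψ hψN
  classical
  have hψc := isCharacter_of_irr hψ
  by_cases hlin : ψ 1 = 1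
  · exact isMonomialChar_of_linear hψc hlin
  by_cases hfaith : ∀ g : H, ψ g = ψ 1 → g = 1
  · -- faithful case
    have hNc : ¬ N ≤ Subgroup.center H := by
      intro hle
      apply hlin
      have hcomm : ∀ a b : N, a * b = b * a := by
        intro a b
        apply Subtype.ext
        have := Subgroup.mem_center_iff.1 (hle a.2) b
        simpa using this.symm
      exact irr_degree_one_of_comm hcomm ⟨_, hψN⟩
    -- minimal A
    set S : Set (Subgroup H) := {A | A.Normal ∧ A ≤ N ∧ ¬ A ≤ Subgroup.center H} with hS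
    obtain ⟨A, hAS, hAmin⟩ := Set.exists_min_image S (fun A : Subgroup H => Nat.card A)
      (Set.toFinite S) ⟨N, hNn, le_refl _, hNc⟩
    obtain ⟨hAn, hAN, hAc⟩ := hAS
    have := hAn
    have hAbot : A ≠ ⊥ := by
      rintro rfl
      exact hAc bot_le
    have hB : ⁅A, A⁆ ≤ Subgroup.center H := by
      by_contra hcon
      have hBS : ⁅A, A⁆ ∈ S :=
        ⟨Subgroup.commutator_normal A A, le_trans (Subgroup.commutator_le_right A A) hAN, hcon⟩
      have h1 := hAmin _ hBS
      have h2 : ⁅A, A⁆ = A :=
        Subgroup.eq_of_le_of_card_ge (Subgroup.commutator_le_right A A) h1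
      exact (ne_of_lt (Group.IsSolvable.commutator_lt_of_ne_bot hAbot)) h2
    have hnil : Group.IsNilpotent A := by
      apply Cfsg.Agent.Lib.Helper02.isNilpotent_of_commutator_commutator_eq_bot
      rw [Subgroup.commutator_eq_bot_iff_le_centralizer]
      exact le_trans hB (Subgroup.center_le_centralizer _)
    have habA : AbSyl A :=
      hab.of_injective (Subgroup.inclusion hAN) (Subgroup.inclusion_injective hAN)
    have hAab : ∀ a b : A, a * b = b * a := habA.comm_of_isNilpotent hnil
    have : Fintype A := Fintype.ofFinite _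
    -- constituent
    have hψ1 : ψ 1 ≠ 0 := irr_degree_ne_zero ⟨ψ, hψ⟩
    obtain ⟨lam, hconst⟩ := exists_constituent (isCharacter_restrict A hψc)
      (by simpa using hψ1)
    set T := Cfsg.Agent.Lib.Helper85.conjStab hAn (lam : A → ℂ) with hT
    have hTtop : T ≠ ⊤ := by
      intro htop
      apply hAc
      apply le_center_of_invariant_constituent A hAab hψ hfaith lam hconst
      intro g
      have : g ∈ T := by rw [htop]; exact Subgroup.mem_top g
      exact (Cfsg.Agent.Lib.Helper85.mem_conjStab hAn _ g).1 this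
    obtain ⟨ξ, hξ, -, hψind⟩ := Cfsg.Agent.Lib.Helper85.exists_irr_conjStab hAn hψ lam.2 hconst
    have : Fintype T := Fintype.ofFinite _
    have hψ' : IsIrrCharacter H (indFun T ξ) := by rw [← hψind]; exact hψ
    have hψN' : IsIrrCharacter N (fun x : N => indFun T ξ x) := by rw [← hψind]; exact hψN
    have hξD := isIrr_restrict_inf_of_ind N T hξ hψ' hψN'
    -- induction hypothesis for T
    have hTcard : Nat.card T < n := by
      rw [← hcard]
      have h1 := T.card_mul_index
      have h2 : T.index ≠ 1 := fun h => hTtop (Subgroup.index_eq_one.1 h)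
      have h3 : T.index ≠ 0 := Subgroup.index_ne_zero_of_finite
      have h4 : 2 ≤ T.index := by omega
      have h5 : 0 < Nat.card T := Nat.card_pos
      nlinarith
    have : Group.IsSolvable T :=
      Group.isSolvable_of_isSolvable_injective T.subtype_injective
    have : (N.subgroupOf T).Normal := hNn.subgroupOf T
    have habD : AbSyl (N.subgroupOf T) := by
      refine hab.of_injective
        ((T.subtype.comp (N.subgroupOf T).subtype).codRestrict N (fun x => x.2)) ?_
      intro x y hxy
      have h1 : ((x : T) : H) = ((y : T) : H) :=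
        congrArg (fun z : N => (z : H)) hxy
      exact Subtype.ext (Subtype.ext h1)
    have hmon := ih (Nat.card T) hTcard T (N.subgroupOf T) rfl habD ξ hξ hξD
    rw [hψind]
    exact isMonomialChar_induce T hmon
  · -- non-faithful case
    push Not at hfaith
    obtain ⟨g₀, hg₀, hg₀1⟩ := hfaith
    set K := charKer hψc with hK
    have hKbot : K ≠ ⊥ := by
      intro h
      apply hg₀1
      have : g₀ ∈ K := (mem_charKer hψc g₀).2 hg₀
      rw [h, Subgroup.mem_bot] at this
      exact this
    obtain ⟨ψb, hψb, hψbeq⟩ := exists_isIrrCharacter_quotient K hψ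
      (fun x hx => (mem_charKer hψc x).1 hx)
    have : Fintype (H ⧸ K) := Fintype.ofFinite _
    have : Group.IsSolvable (H ⧸ K) :=
      Group.isSolvable_of_surjective (QuotientGroup.mk'_surjective K)
    set Nb : Subgroup (H ⧸ K) := N.map (QuotientGroup.mk' K) with hNb
    have : Nb.Normal := Subgroup.Normal.map hNn _ (QuotientGroup.mk'_surjective K)
    have habNb : AbSyl Nb :=
      hab.of_surjective ((QuotientGroup.mk' K).subgroupMap N)
        (MonoidHom.subgroupMap_surjective _ _)
    have hcardq : Nat.card (H ⧸ K) < n := by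
      rw [← hcard, Subgroup.card_eq_card_quotient_mul_card_subgroup K]
      have h1 : 1 < Nat.card K := (Subgroup.one_lt_card_iff_ne_bot K).2 hKbot
      have h2 : 0 < Nat.card (H ⧸ K) := Nat.card_pos
      nlinarith
    have : Fintype N := Fintype.ofFinite _
    have hψbN : IsIrrCharacter Nb (fun y : Nb => ψb y) := by
      apply isIrrCharacter_of_comp_surjective ((QuotientGroup.mk' K).subgroupMap N)
        (MonoidHom.subgroupMap_surjective _ _) (isCharacter_restrict Nb (isCharacter_of_irr hψb))
      have : (fun x : N => (fun y : Nb => ψb y) (((QuotientGroup.mk' K).subgroupMap N) x)) =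
          fun x : N => ψ x := by
        funext x
        exact hψbeq x
      rw [this]
      exact hψN
    have hmon := ih (Nat.card (H ⧸ K)) hcardq (H ⧸ K) Nb rfl habNb ψb hψb hψbN
    have := isMonomialChar_inflate K hmon
    have hfun : (fun g : H => ψb (QuotientGroup.mk g)) = ψ := funext hψbeq
    rw [hfun] at this
    exact this

/-- **Key lemma for Isaacs 6.23**. -/
theorem monomial_of_restrict_irr {H : Type u} [Group H] [Fintype H] [Group.IsSolvable H]
    (N : Subgroup H) [N.Normal] (hab : AbSyl N) {ψ : H → ℂ} (hψ : IsIrrCharacter H ψ)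
    (hψN : IsIrrCharacter N (fun x : N => ψ x)) : IsMonomialChar H ψ :=
  monomial_of_restrict_irr_aux (Nat.card H) H N rfl hab ψ hψ hψN

end MonomialRestrict

end Cfsg.Agent.Lib.Helper84
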