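import Mathlib
import Cfsg.Prelude.Def_GeometricClasses
import Cfsg.Agent.Lib.Helper61.AschDefs
import Cfsg.Agent.Lib.Helper61.AschUDefs
import Cfsg.Agent.Lib.Helper38.AschA2
import Cfsg.Agent.Lib.Helper42.AschA1
import Cfsg.Agent.Lib.Helper46.HermForm
import Cfsg.Agent.Lib.Helper19.Unitary

/-!
# K-S5663-A2a (keystone 262, architect helper61)

If `V` is not isotypic for the adjoint-closed subalgebra `A` normalized by the irreducible group `K`, the isotypic
components of `V` form a decomposition permuted by `K`, and there is an involution `τ` of the index set such that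
`D i` is orthogonal to `D j` unless `j = τ i`.
-/

set_option autoImplicit false

namespace Cfsg.Agent.Lib.Helper84.AschU

open Cfsg Cfsg.Geo Cfsg.Agent.Lib.Helper61.Asch Cfsg.Agent.Lib.Helper61.AschU
open Cfsg.Agent.Lib.Helper19 Cfsg.Agent.Lib.Helper46 Cfsg.Agent.Lib.Helper38.Asch
open scoped Matrix Kronecker MatrixGroups

variable {F : Type*} [Field F] [Fintype F] {n q : ℕ}

local notation "V" => (Fin n → F)
local notation "Mat" => Matrix (Fin n) (Fin n) F
local notation "𝔥" => hermForm n F q

/-! ## Part 1: the adjoint for the hermitian form -/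

/-- the adjoint matrix -/
noncomputable def adj (hF : Fintype.card F = q ^ 2) (M : Mat) : Mat := hconj (frobQ hF) M

theorem adj_apply (hF : Fintype.card F = q ^ 2) (M : Mat) (i j : Fin n) :
    adj hF M i j = (M j i) ^ q := by
  unfold adj; rw [hconj_apply, frobQ_apply]

theorem adj_adj (hF : Fintype.card F = q ^ 2) (M : Mat) : adj hF (adj hF M) = M := by
  ext i j
  rw [adj_apply, adj_apply, pow_q_pow_q hF]

theorem adj_mul (hF : Fintype.card F = q ^ 2) (M N : Mat) :
    adj hF (M * N) = adj hF N * adj hF M := hconj_mul _ M N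

/-- `𝔥 (M x) y = 𝔥 x (M* y)` -/
theorem herm_mulVec_left (hF : Fintype.card F = q ^ 2) (M : Mat) (x y : V) :
    𝔥 (M *ᵥ x) y = 𝔥 x (adj hF M *ᵥ y) := by
  unfold hermForm
  simp only [Matrix.mulVec, dotProduct, adj_apply]
  have h1 : ∀ i : Fin n, (∑ j, M j i ^ q * y j) ^ q = ∑ j, M j i * (y j) ^ q := by
    intro i
    rw [sum_pow_q hF]
    refine Finset.sum_congr rfl (fun j _ => ?_)
    rw [mul_pow, pow_q_pow_q hF]
  simp only [h1]
  simp only [Finset.sum_mul, Finset.mul_sum]
  rw [Finset.sum_comm]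
  refine Finset.sum_congr rfl (fun j _ => Finset.sum_congr rfl (fun i _ => ?_))
  ring

/-- `𝔥 (M* x) y = 𝔥 x (M y)` -/
theorem herm_mulVec_right (hF : Fintype.card F = q ^ 2) (M : Mat) (x y : V) :
    𝔥 (adj hF M *ᵥ x) y = 𝔥 x (M *ᵥ y) := by
  rw [herm_mulVec_left hF, adj_adj]

theorem herm_zero_left (y : V) : 𝔥 (0 : V) y = 0 := by
  unfold hermForm; simp

theorem herm_sub_left (x x' y : V) : 𝔥 (x - x') y = 𝔥 x y - 𝔥 x' y := by
  unfold hermForm
  simp only [Pi.sub_apply, sub_mul, Finset.sum_sub_distrib]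

theorem herm_sub_right (hF : Fintype.card F = q ^ 2) (x y y' : V) :
    𝔥 x (y - y') = 𝔥 x y - 𝔥 x y' := by
  have h := hermForm_add_right hF x (y - y') y'
  rw [sub_add_cancel] at h
  rw [h]; ring

/-- `𝔥 w eᵢ = wᵢ` -/
theorem herm_single_right (hF : Fintype.card F = q ^ 2) (w : V) (i : Fin n) :
    𝔥 w (Pi.single i 1) = w i := by
  have hq : q ≠ 0 := (q_pos hF).ne'
  unfold hermForm
  rw [Finset.sum_eq_single i]
  · rw [Pi.single_eq_same, one_pow, mul_one]
  · intro j _ hji
    rw [Pi.single_eq_of_ne hji, zero_pow hq, mul_zero]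
  · intro hi; exact absurd (Finset.mem_univ i) hi

/-- left non-degeneracy -/
theorem eq_zero_of_herm_left (hF : Fintype.card F = q ^ 2) (w : V) (h : ∀ v, 𝔥 w v = 0) : w = 0 := by
  funext i
  have := h (Pi.single i 1)
  rw [herm_single_right hF] at this
  exact this

/-- right non-degeneracy -/
theorem eq_zero_of_herm_right (hF : Fintype.card F = q ^ 2) (w : V) (h : ∀ v, 𝔥 v w = 0) : w = 0 := by
  apply eq_zero_of_herm_left hF
  intro v
  rw [← hermForm_conj hF, h v, zero_pow (q_pos hF).ne']

/-- symmetry of orthogonality -/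
theorem herm_eq_zero_symm (hF : Fintype.card F = q ^ 2) (x y : V) (h : 𝔥 x y = 0) : 𝔥 y x = 0 := by
  rw [← hermForm_conj hF, h, zero_pow (q_pos hF).ne']

/-! ## Part 2: adjoint-closed subalgebras -/

/-- an adjoint-closed subalgebra is closed under `adj` -/
theorem adj_mem_of_isAdjointClosedFor (hF : Fintype.card F = q ^ 2) (A : Subalgebra F Mat)
    (hadj : IsAdjointClosedFor 𝔥 A) (a : Mat) (ha : a ∈ A) : adj hF a ∈ A := by
  obtain ⟨a', ha', h⟩ := hadj a ha
  have : a' = adj hF a := by
    rw [Matrix.ext_iff_mulVec]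
    intro v
    have h0 : a' *ᵥ v - adj hF a *ᵥ v = 0 := by
      apply eq_zero_of_herm_right hF
      intro u
      rw [herm_sub_right hF, ← h u v, herm_mulVec_left hF, sub_self]
    exact sub_eq_zero.1 h0
  rw [← this]; exact ha'

/-- the adjoint of a matrix commuting with `A` commutes with `A` -/
theorem adj_comm_of_comm (hF : Fintype.card F = q ^ 2) (A : Subalgebra F Mat)
    (hadj : IsAdjointClosedFor 𝔥 A) (M : Mat) (hM : ∀ a ∈ A, M * a = a * M) :
    ∀ a ∈ A, adj hF M * a = a * adj hF M := by
  intro a ha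
  have h1 := hM (adj hF a) (adj_mem_of_isAdjointClosedFor hF A hadj a ha)
  have h2 := congrArg (adj hF) h1
  rw [adj_mul, adj_mul, adj_adj] at h2
  exact h2.symm

/-! ## Part 3: the left perp of an `A`-submodule -/

/-- the left perp `{u | 𝔥 u v = 0 for all v ∈ c}` of an `A`-submodule, as an `A`-submodule -/
def lperp (A : Subalgebra F Mat) (hadj : IsAdjointClosedFor 𝔥 A) (c : Submodule A V) : Submodule A V where
  carrier := {u | ∀ v ∈ c, 𝔥 u v = 0}
  zero_mem' := fun v _ => herm_zero_left v
  add_mem' := by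
    intro a b ha hb v hv
    rw [hermForm_add_left, ha v hv, hb v hv, add_zero]
  smul_mem' := by
    intro a u hu v hv
    obtain ⟨a', ha', h⟩ := hadj a a.2
    change 𝔥 ((a : Mat) *ᵥ u) v = 0
    rw [h u v]
    exact hu _ (c.smul_mem ⟨a', ha'⟩ hv)

theorem mem_lperp (A : Subalgebra F Mat) (hadj : IsAdjointClosedFor 𝔥 A) (c : Submodule A V) (u : V) :
    u ∈ lperp A hadj c ↔ ∀ v ∈ c, 𝔥 u v = 0 := Iff.rfl

/-- `d ≤ lperp c ↔ c ≤ lperp d` -/
theorem le_lperp_symm (hF : Fintype.card F = q ^ 2) (A : Subalgebra F Mat) (hadj : IsAdjointClosedFor 𝔥 A)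
    (c d : Submodule A V) (h : d ≤ lperp A hadj c) : c ≤ lperp A hadj d := by
  intro v hv u hu
  exact herm_eq_zero_symm hF u v (h hu v hv)

/-- the left perp of a fully invariant submodule is fully invariant -/
theorem lperp_isFullyInvariant (hF : Fintype.card F = q ^ 2) (A : Subalgebra F Mat)
    (hadj : IsAdjointClosedFor 𝔥 A) (c : Submodule A V) (hc : c.IsFullyInvariant) :
    (lperp A hadj c).IsFullyInvariant := by
  intro f u hu
  rw [Submodule.mem_comap]
  intro v hv
  set M : Mat := LinearMap.toMatrix' (f.restrictScalars F) with hM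
  have hfM : ∀ w, f w = M *ᵥ w := by
    intro w
    rw [hM, LinearMap.toMatrix'_mulVec]
    rfl
  have hcomm : ∀ a ∈ A, M * a = a * M := by
    intro a ha
    rw [Matrix.ext_iff_mulVec]
    intro w
    rw [← Matrix.mulVec_mulVec, ← Matrix.mulVec_mulVec, ← hfM, ← hfM]
    exact f.map_smul (⟨a, ha⟩ : A) w
  have hcomm' := adj_comm_of_comm hF A hadj M hcomm
  let g : Module.End A V :=
    { toFun := fun w => adj hF M *ᵥ w
      map_add' := Matrix.mulVec_add _
      map_smul' := by
        intro a w
        change adj hF M *ᵥ ((a : Mat) *ᵥ w) = (a : Mat) *ᵥ (adj hF M *ᵥ w)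
        rw [Matrix.mulVec_mulVec, Matrix.mulVec_mulVec, hcomm' a a.2] }
  have hgv : g v ∈ c := hc g hv
  rw [hfM, herm_mulVec_left hF]
  exact hu _ hgv

/-- an isotypic component is inside or disjoint from a fully invariant submodule -/
theorem le_or_disjoint_of_isFullyInvariant (A : Subalgebra F Mat) [IsSemisimpleModule A V]
    (P : Submodule A V) (hP : P.IsFullyInvariant) (d : Submodule A V)
    (hd : d ∈ isotypicComponents A V) : d ≤ P ∨ Disjoint d P := by
  obtain ⟨s, hs, rfl⟩ := isFullyInvariant_iff_sSup_isotypicComponents.mp hP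
  by_cases hds : d ∈ s
  · left; exact le_sSup hds
  · right
    have h := sSupIndep_isotypicComponents A V hd
    refine h.mono_right (sSup_le_sSup ?_)
    intro x hx
    refine ⟨hs hx, fun h => hds ?_⟩
    rw [Set.mem_singleton_iff] at h
    subst h
    exact hx

/-- a fully invariant submodule lies in the sum of the isotypic components other than `d` if it is disjoint
from `d` -/
theorem le_sSup_diff_of_disjoint (A : Subalgebra F Mat) [IsSemisimpleModule A V]
    (P : Submodule A V) (hP : P.IsFullyInvariant) (d : Submodule A V)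
    (hd : d ∈ isotypicComponents A V) (hdP : ¬ d ≤ P) :
    P ≤ sSup (isotypicComponents A V \ {d}) := by
  obtain ⟨s, hs, rfl⟩ := isFullyInvariant_iff_sSup_isotypicComponents.mp hP
  apply sSup_le_sSup
  intro x hx
  refine ⟨hs hx, fun h => hdP ?_⟩
  rw [Set.mem_singleton_iff] at h
  subst h
  exact le_sSup hx

/-! ## Part 4: dimension count -/

theorem herm_zero_right (hF : Fintype.card F = q ^ 2) (u : V) : 𝔥 u (0 : V) = 0 := by
  unfold hermForm
  simp [zero_pow (q_pos hF).ne']

theorem herm_sum_right (hF : Fintype.card F = q ^ 2) {ι : Type*} (s : Finset ι) (u : V) (f : ι → V) :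
    𝔥 u (∑ i ∈ s, f i) = ∑ i ∈ s, 𝔥 u (f i) := by
  classical
  induction s using Finset.induction_on with
  | empty => simp [herm_zero_right hF]
  | insert a s ha ih => rw [Finset.sum_insert ha, Finset.sum_insert ha, hermForm_add_right hF, ih]

/-- rank-nullity bound for the left perp of an `F`-subspace -/
theorem finrank_lperp_ge (hF : Fintype.card F = q ^ 2) (W P : Submodule F V)
    (hP : ∀ u, (∀ v ∈ W, 𝔥 u v = 0) → u ∈ P) :
    n ≤ Module.finrank F P + Module.finrank F W := by
  classical
  let b := Module.finBasis F W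
  let L : V →ₗ[F] (Fin (Module.finrank F W) → F) :=
    { toFun := fun u k => 𝔥 u (b k : V)
      map_add' := by
        intro x y; funext k; exact hermForm_add_left x y _
      map_smul' := by
        intro c x; funext k
        simp only [RingHom.id_apply, Pi.smul_apply, smul_eq_mul]
        exact hermForm_smul_left c x _ }
  have hker : LinearMap.ker L ≤ P := by
    intro u hu
    apply hP
    intro v hv
    have hrep := b.sum_repr ⟨v, hv⟩
    have hv' : v = ∑ k, (b.repr ⟨v, hv⟩ k) • (b k : V) := by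
      have := congrArg Subtype.val hrep
      rw [Submodule.coe_sum] at this
      simpa using this.symm
    rw [hv', herm_sum_right hF]
    apply Finset.sum_eq_zero
    intro k _
    rw [hermForm_smul_right]
    have h0 : 𝔥 u (b k : V) = 0 := congrFun (LinearMap.mem_ker.1 hu) k
    rw [h0, mul_zero]
  have h1 := LinearMap.finrank_range_add_finrank_ker L
  have h2 : Module.finrank F (LinearMap.range L) ≤ Module.finrank F W := by
    have := Submodule.finrank_le (LinearMap.range L)
    rwa [Module.finrank_fin_fun] at this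
  have h3 : Module.finrank F (LinearMap.ker L) ≤ Module.finrank F P := Submodule.finrank_mono hker
  have h4 : Module.finrank F V = n := Module.finrank_fin_fun F
  omega

/-- at most one isotypic component is not left-orthogonal to a given one -/
theorem unique_nonorth (hF : Fintype.card F = q ^ 2) (A : Subalgebra F Mat) [IsSemisimpleModule A V]
    (hadj : IsAdjointClosedFor 𝔥 A) (m : ℕ) (hm : 0 < m)
    (hdim : ∀ d ∈ isotypicComponents A V, Module.finrank F (d.restrictScalars F) = m)
    (c d₁ d₂ : Submodule A V) (hc : c ∈ isotypicComponents A V) (h1 : d₁ ∈ isotypicComponents A V)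
    (h2 : d₂ ∈ isotypicComponents A V)
    (hn1 : ¬ d₁ ≤ lperp A hadj c) (hn2 : ¬ d₂ ≤ lperp A hadj c) : d₁ = d₂ := by
  by_contra hne
  have hPinv : (lperp A hadj c).IsFullyInvariant :=
    lperp_isFullyInvariant hF A hadj c (.of_mem_isotypicComponents hc)
  have hdis1 : Disjoint d₁ (lperp A hadj c) :=
    (le_or_disjoint_of_isFullyInvariant A _ hPinv d₁ h1).resolve_left hn1
  have hle : lperp A hadj c ⊔ d₁ ≤ sSup (isotypicComponents A V \ {d₂}) :=
    sup_le (le_sSup_diff_of_disjoint A _ hPinv d₂ h2 hn2) (le_sSup ⟨h1, hne⟩)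
  have hdis2 : Disjoint d₂ (lperp A hadj c ⊔ d₁) :=
    (sSupIndep_isotypicComponents A V h2).mono_right hle
  set PF := (lperp A hadj c).restrictScalars F with hPF
  set D1 := d₁.restrictScalars F with hD1
  set D2 := d₂.restrictScalars F with hD2
  have e1 := Submodule.finrank_sup_add_finrank_inf_eq PF D1
  have z1 : PF ⊓ D1 = ⊥ := by
    rw [eq_bot_iff]
    rintro x ⟨hx1, hx2⟩
    have h : x ∈ d₁ ⊓ lperp A hadj c := ⟨hx2, hx1⟩
    rw [hdis1.eq_bot] at h
    exact h
  have e2 := Submodule.finrank_sup_add_finrank_inf_eq (PF ⊔ D1) D2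
  have z2 : (PF ⊔ D1) ⊓ D2 = ⊥ := by
    rw [eq_bot_iff]
    rintro x ⟨hx1, hx2⟩
    obtain ⟨y, hy, z, hz, rfl⟩ := Submodule.mem_sup.1 hx1
    have hmem : y + z ∈ lperp A hadj c ⊔ d₁ := Submodule.add_mem_sup hy hz
    have h : y + z ∈ d₂ ⊓ (lperp A hadj c ⊔ d₁) := ⟨hx2, hmem⟩
    rw [hdis2.eq_bot] at h
    exact h
  have hle_n : Module.finrank F ((PF ⊔ D1) ⊔ D2 : Submodule F V) ≤ n :=
    (Submodule.finrank_le _).trans_eq (Module.finrank_fin_fun F)
  have hge := finrank_lperp_ge hF (c.restrictScalars F) PF (fun u hu => hu)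
  rw [z1, finrank_bot, add_zero] at e1
  rw [z2, finrank_bot, add_zero] at e2
  have hd1 := hdim d₁ h1
  have hd2 := hdim d₂ h2
  have hdc := hdim c hc
  rw [← hD1] at hd1
  rw [← hD2] at hd2
  omega

/-! ## Part 5: the decomposition into isotypic components, with its enumeration exposed -/

/-- the core of `Cfsg.Agent.Lib.Helper38.Asch.c2_core` with the enumeration of the isotypic components exposed -/
theorem c2_core_enum (K : Subgroup (GL (Fin n) F)) (A : Subalgebra F Mat)
    (hK : ActsIrreducibly (matrixSet K)) (hKA : NormAlg K A)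
    (S₀ S₁ : Submodule A V) [IsSimpleModule A S₀] [IsSimpleModule A S₁]
    (hne : ¬ Nonempty (S₁ ≃ₗ[A] S₀)) :
    ∃ (e : isotypicComponents A V ≃ Fin (Nat.card (isotypicComponents A V))) (m : ℕ),
      0 < m ∧ (∀ c ∈ isotypicComponents A V, Module.finrank F (c.restrictScalars F) = m) ∧
      sSup (isotypicComponents A V) = ⊤ ∧
      IsMDecomposition m
        (fun i => ((e.symm i : isotypicComponents A V) : Submodule A V).restrictScalars F) ∧
      K ≤ decompositionStabilizer
        (fun i => ((e.symm i : isotypicComponents A V) : Submodule A V).restrictScalars F) := by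
  classical
  have : IsNoetherian A V := isNoetherian_of_tower F inferInstance
  set C := isotypicComponents A V with hC
  set c₀ := isotypicComponent A V S₀ with hc₀
  set c₁ := isotypicComponent A V S₁ with hc₁
  have hc₀C : c₀ ∈ C := ⟨S₀, inferInstance, rfl⟩
  have hc₁C : c₁ ∈ C := ⟨S₁, inferInstance, rfl⟩
  have hc01 : c₀ ≠ c₁ := by
    intro h
    apply hne
    have hle : S₁ ≤ c₀ := h ▸ S₁.le_isotypicComponent
    exact isIsotypicOfType_submodule_iff.mp (IsIsotypicOfType.isotypicComponent A V S₀) S₁ hle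
  -- the orbit of `c₀`
  set O : Set (Submodule A V) := {c | ∃ k, ∃ hk : k ∈ K, c = (Nrm.ofMem K hKA k hk).tr c₀} with hO
  have hOC : O ⊆ C := by
    rintro c ⟨k, hk, rfl⟩
    exact Nrm.tr_mem_isotypicComponents _ hc₀C
  have hc₀O : c₀ ∈ O := ⟨1, K.one_mem, (Nrm.ofMem_one_tr K hKA c₀).symm⟩
  have hOtr : ∀ k (hk : k ∈ K), ∀ c ∈ O, (Nrm.ofMem K hKA k hk).tr c ∈ O := by
    rintro k hk c ⟨k', hk', rfl⟩
    exact ⟨k * k', K.mul_mem hk hk', Nrm.ofMem_tr_tr K hKA k' k hk' hk c₀⟩
  have hWinv : ∀ k (hk : k ∈ K), (Nrm.ofMem K hKA k hk).tr (sSup O) ≤ sSup O := by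
    intro k hk
    have h := (Nrm.ofMem K hKA k hk).trIso.map_sSup O
    rw [Nrm.trIso_apply] at h
    rw [h]
    exact iSup₂_le fun c hc => le_sSup (hOtr k hk c hc)
  have hWtop : sSup O = ⊤ := by
    have h := hK ((sSup O).restrictScalars F) (by
      rintro s ⟨g, hg, rfl⟩
      have h1 := Nrm.restrictScalars_tr (Nrm.ofMem K hKA g hg) (sSup O)
      change _ = Submodule.map (Matrix.toLin' (g : Mat)) _ at h1
      rw [← h1]
      exact fun w hw => hWinv g hg hw)
    rcases h with h | h
    · exfalso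
      rw [Submodule.restrictScalars_eq_bot_iff] at h
      have h2 : c₀ ≤ sSup O := le_sSup hc₀O
      rw [h, le_bot_iff] at h2
      exact (bot_lt_isotypicComponents hc₀C).ne' h2
    · exact (Submodule.restrictScalars_eq_top_iff F A V).mp h
  have hOeq : ∀ c ∈ C, c ∈ O := by
    intro c hc
    by_contra hcO
    have hdis := sSupIndep_isotypicComponents A V hc
    have hle : sSup O ≤ sSup (C \ {c}) := by
      apply sSup_le_sSup
      intro c' hc'
      exact ⟨hOC hc', fun h => hcO (h ▸ hc')⟩
    rw [hWtop, top_le_iff] at hle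
    rw [hle, disjoint_top] at hdis
    exact (bot_lt_isotypicComponents hc).ne' hdis
  have hCtop : sSup C = ⊤ := by
    apply top_le_iff.mp
    rw [← hWtop]
    exact sSup_le_sSup hOC
  -- common dimension
  have hinj : ∀ g : GL (Fin n) F, Function.Injective (Matrix.toLin' (g : Mat)) := by
    intro g
    apply Function.LeftInverse.injective (g := Matrix.toLin' ((g⁻¹ : GL (Fin n) F) : Mat))
    intro v
    rw [← LinearMap.comp_apply, ← Matrix.toLin'_mul, ← Units.val_mul, inv_mul_cancel, Units.val_one,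
      Matrix.toLin'_one]
    rfl
  have hdim : ∀ c ∈ C, Module.finrank F (c.restrictScalars F) =
      Module.finrank F (c₀.restrictScalars F) := by
    intro c hc
    obtain ⟨k, hk, rfl⟩ := hOeq c hc
    rw [Nrm.restrictScalars_tr]
    exact (Submodule.equivMapOfInjective _ (hinj k) _).finrank_eq.symm
  have hpos : 0 < Module.finrank F (c₀.restrictScalars F) := by
    have : c₀.restrictScalars F ≠ ⊥ := by
      rw [Ne, Submodule.restrictScalars_eq_bot_iff]
      exact (bot_lt_isotypicComponents hc₀C).ne'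
    exact Submodule.one_le_finrank_iff.mpr this
  -- enumeration
  have : Finite C := by rw [hC]; infer_instance
  have : Nontrivial C := ⟨⟨⟨c₀, hc₀C⟩, ⟨c₁, hc₁C⟩, fun h => hc01 (congrArg Subtype.val h)⟩⟩
  let e : C ≃ Fin (Nat.card C) := Finite.equivFin C
  have hind : iSupIndep (fun i : Fin (Nat.card C) => ((e.symm i : C) : Submodule A V)) :=
    ((sSupIndep_iff _).mp (sSupIndep_isotypicComponents A V)).comp e.symm.injective
  refine ⟨e, Module.finrank F (c₀.restrictScalars F), hpos, hdim, hCtop, ⟨?_, hpos, ?_, ?_, ?_⟩, ?_⟩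
  · exact Finite.one_lt_card
  · intro i
    exact hdim _ (e.symm i).2
  · intro i
    have h := hind i
    rw [disjoint_iff] at h ⊢
    have h2 : (⨆ j, ⨆ (_ : j ≠ i), ((e.symm j : C) : Submodule A V).restrictScalars F) =
        (⨆ j, ⨆ (_ : j ≠ i), ((e.symm j : C) : Submodule A V)).restrictScalars F := by
      simp only [Submodule.restrictScalars_iSup]
    rw [h2, ← Submodule.restrictScalars_inf, h, Submodule.restrictScalars_bot]
  · rw [← Submodule.restrictScalars_iSup, Submodule.restrictScalars_eq_top_iff]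
    apply top_le_iff.mp
    rw [← hCtop]
    apply sSup_le
    intro c hc
    have : c = ((e.symm (e ⟨c, hc⟩) : C) : Submodule A V) := by rw [Equiv.symm_apply_apply]
    rw [this]
    exact le_iSup (fun i : Fin (Nat.card C) => ((e.symm i : C) : Submodule A V)) (e ⟨c, hc⟩)
  · intro k hk
    let π : C ≃ C :=
      { toFun := fun c => ⟨(Nrm.ofMem K hKA k hk).tr c.1, Nrm.tr_mem_isotypicComponents _ c.2⟩
        invFun := fun c => ⟨(Nrm.ofMem K hKA k hk).symm.tr c.1,
          Nrm.tr_mem_isotypicComponents _ c.2⟩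
        left_inv := fun c => Subtype.ext (Nrm.symm_tr_tr _ c.1)
        right_inv := fun c => Subtype.ext (Nrm.tr_symm_tr _ c.1) }
    refine ⟨e.symm.trans (π.trans e), fun i => ?_⟩
    have h1 := Nrm.restrictScalars_tr (Nrm.ofMem K hKA k hk) ((e.symm i : C) : Submodule A V)
    change _ = Submodule.map (Matrix.toLin' (k : Mat)) _ at h1
    rw [← h1]
    simp only [Equiv.trans_apply, Equiv.symm_apply_apply]
    rfl

/-- every isotypic component has a non-orthogonal partner -/
theorem exists_nonorth (hF : Fintype.card F = q ^ 2) (A : Subalgebra F Mat)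
    (hadj : IsAdjointClosedFor 𝔥 A) (htop : sSup (isotypicComponents A V) = ⊤)
    (c : Submodule A V) (hc : c ∈ isotypicComponents A V) :
    ∃ d ∈ isotypicComponents A V, ¬ d ≤ lperp A hadj c := by
  by_contra hcon
  have hcon' : ∀ d ∈ isotypicComponents A V, d ≤ lperp A hadj c := by
    intro d hd
    by_contra hnd
    exact hcon ⟨d, hd, hnd⟩
  have hle : (⊤ : Submodule A V) ≤ lperp A hadj c := by
    rw [← htop]
    exact sSup_le hcon'
  have hcbot : c = ⊥ := by
    rw [eq_bot_iff]
    intro w hw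
    rw [Submodule.mem_bot]
    apply eq_zero_of_herm_right hF
    intro v
    exact hle (Submodule.mem_top : v ∈ (⊤ : Submodule A V)) w hw
  exact (bot_lt_isotypicComponents hc).ne' hcbot

/-- **K-S5663-A2a** -/
theorem exists_dual_decomposition (hF : Fintype.card F = q ^ 2) (K : Subgroup (GL (Fin n) F)) (A : Subalgebra F Mat)
    (hK : ActsIrreducibly (matrixSet K)) (hKA : NormAlg K A) (hadj : IsAdjointClosedFor 𝔥 A)
    (hiso : ¬ IsIsotypic A V) :
    ∃ (t m : ℕ) (D : Fin t → Submodule F V) (τ : Fin t → Fin t), IsMDecomposition m D ∧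
      K ≤ decompositionStabilizer D ∧ (∀ i, τ (τ i) = i) ∧
      ∀ i j, j ≠ τ i → AreOrthogonalFor 𝔥 (D i) (D j) := by
  classical
  have : IsSemisimpleModule A V := Cfsg.Agent.Lib.Helper42.Asch.isSemisimpleModule_of_normAlg K A hK hKA
  -- two non-isomorphic simple submodules
  have hex : ∃ (S₀ S₁ : Submodule A V), IsSimpleModule A S₀ ∧ IsSimpleModule A S₁ ∧
      ¬ Nonempty (S₁ ≃ₗ[A] S₀) := by
    by_contra hcon
    apply hiso
    intro m hm m' hm'
    by_contra hne
    exact hcon ⟨m, m', hm, hm', hne⟩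
  obtain ⟨S₀, S₁, hS₀, hS₁, hne⟩ := hex
  obtain ⟨e, m, hm, hdim, htop, hD, hKD⟩ := c2_core_enum K A hK hKA S₀ S₁ hne
  -- the partner of a component
  have hpart : ∀ c : isotypicComponents A V, ∃ d : isotypicComponents A V,
      ¬ (d : Submodule A V) ≤ lperp A hadj (c : Submodule A V) := by
    intro c
    obtain ⟨d, hd, hnd⟩ := exists_nonorth hF A hadj htop c.1 c.2
    exact ⟨⟨d, hd⟩, hnd⟩
  choose τC hτC using hpart
  have huniq : ∀ c d : isotypicComponents A V,
      ¬ (d : Submodule A V) ≤ lperp A hadj (c : Submodule A V) → d = τC c := by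
    intro c d hd
    exact Subtype.ext (unique_nonorth hF A hadj m hm hdim c.1 d.1 (τC c).1 c.2 d.2 (τC c).2 hd (hτC c))
  have hinv : ∀ c, τC (τC c) = c := by
    intro c
    symm
    apply huniq
    intro hle
    exact hτC c (le_lperp_symm hF A hadj _ _ hle)
  refine ⟨_, m, _, fun i => e (τC (e.symm i)), hD, hKD, ?_, ?_⟩
  · intro i
    simp only [Equiv.symm_apply_apply]
    rw [hinv, Equiv.apply_symm_apply]
  · intro i j hj u hu v hv
    have hle : ((e.symm i : isotypicComponents A V) : Submodule A V) ≤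
        lperp A hadj ((e.symm j : isotypicComponents A V) : Submodule A V) := by
      by_contra hnle
      -- `e.symm i` is then the partner of `e.symm j`, so `e.symm j` is the partner of `e.symm i`
      have h1 : e.symm i = τC (e.symm j) := huniq _ _ hnle
      apply hj
      show j = e (τC (e.symm i))
      rw [h1, hinv, Equiv.apply_symm_apply]
    exact hle hu v hv

end Cfsg.Agent.Lib.Helper84.AschU
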