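/-
K-OEl-K1 (keystone 598813, architect helper49, pack S5988 + S5990), part a (helper84): singular hyperbolic
frames of a nondegenerate even-dimensional subspace of EITHER type, any characteristic: the complement of
a frame has the type of the space; number of nonzero singular vectors, of singular hyperbolic pairs and of
frames (type-tagged twins of Helper16.OhPK1a-c).
-/
import Cfsg.Agent.Lib.Helper16.OhPK1d
import Cfsg.Agent.Lib.Helper28.OhPA
import Cfsg.Agent.Lib.Helper98.OhPA1

set_option autoImplicit false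
set_option linter.unusedSimpArgs false
set_option linter.unusedSectionVars false
set_option linter.unusedVariables false
set_option linter.style.haveILetI false
set_option maxHeartbeats 800000

namespace Cfsg.Agent.Lib.Helper84.OEl

open Module Cfsg.Agent.Lib.Helper98.Elus Cfsg.Agent.Lib.Helper98.Sy Cfsg.Agent.Lib.Helper38.OhP
  Cfsg.Agent.Lib.Helper72.Nd Cfsg.Agent.Lib.Helper98.Ti Cfsg.Agent.Lib.Helper16.OhP
open Cfsg.Agent.Lib.Helper80.Oh (IsSF finrank_spanSF nonDeg_spanSF isHF_cons_iff_symm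
  polar_comp_subtype half_frame)

universe u
variable {F : Type u} [Field F] {V : Type u} [AddCommGroup V] [Module F V]

/-- the number of nonzero singular vectors of a nondegenerate `2D`-space of type `ε` -/
noncomputable def nsv (ε : Prop) (q D : ℕ) : ℕ := by
  classical
  exact if ε then (q ^ D - 1) * (q ^ (D - 1) + 1) else (q ^ D + 1) * (q ^ (D - 1) - 1)

theorem nsv_pos {ε : Prop} (h : ε) (q D : ℕ) : nsv ε q D = (q ^ D - 1) * (q ^ (D - 1) + 1) := by
  unfold nsv; rw [if_pos h]

theorem nsv_neg {ε : Prop} (h : ¬ ε) (q D : ℕ) :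
    nsv ε q D = (q ^ D + 1) * (q ^ (D - 1) - 1) := by
  unfold nsv; rw [if_neg h]

theorem nsv_congr {ε ε' : Prop} (h : ε ↔ ε') (q D : ℕ) : nsv ε q D = nsv ε' q D := by
  rw [propext h]

/-- the complement of a frame inside `U` -/
noncomputable def complF (Q : QuadraticForm F V) (U : Submodule F V) {k : ℕ}
    (s : Fin k → V × V) : Submodule F V :=
  LinearMap.BilinForm.orthogonal (pB Q) (spanHF F s) ⊓ U

theorem complF_pairF (Q : QuadraticForm F V) (U : Submodule F V) (x y : V) :
    complF Q U (pairF x y) = complP Q U x y := rfl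

section Count

variable [Fintype F] [FiniteDimensional F V]

/-- the span of a singular hyperbolic frame is of plus type -/
theorem plusQ_spanHF (Q : QuadraticForm F V) {k : ℕ} (s : Fin k → V × V) (hs : IsQF Q s) :
    PlusQ Q (spanHF F s) := by
  have hS : ∀ a b, pB Q a b = pB Q b a := Cfsg.Agent.Lib.Helper38.OhP.pB_symm Q
  obtain ⟨h1, -, h3⟩ := half_frame hS s hs.isSF
  refine ⟨Submodule.span F (Set.range fun a => (s a).1), h1, ?_, by
    rw [h3, finrank_spanSF hS s hs.isSF]⟩
  apply q_zero_on_span Q (fun a => (s a).1) (fun a => (hs.2 a).1)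
  intro a b
  by_cases hab : a = b
  · subst hab
    rw [Cfsg.Agent.Lib.Helper38.OhP.pB_self, (hs.2 a).1, mul_zero]
  · exact (hs.1.2 a b hab).1

/-- the complement of a singular hyperbolic frame: nondegenerate, of the right dimension, of the type of
the space -/
theorem complF_props (Q : QuadraticForm F V) (U : Submodule F V) (hU : NonDeg (pB Q) U) (D : ℕ)
    (hD : finrank F U = 2 * D) {k : ℕ} (s : Fin k → V × V) (hs : IsQF Q s) (hsU : InU U s) :
    k ≤ D ∧ NonDeg (pB Q) (complF Q U s) ∧ finrank F (complF Q U s) = 2 * (D - k) ∧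
      (PlusQ Q (complF Q U s) ↔ PlusQ Q U) := by
  have hS : ∀ a b, pB Q a b = pB Q b a := Cfsg.Agent.Lib.Helper38.OhP.pB_symm Q
  have hR := Cfsg.Agent.Lib.Helper98.Os.isRefl_of_symm hS
  have hHn := nonDeg_spanSF hS s hs.isSF
  have hHd := finrank_spanSF hS s hs.isSF
  have hHU : spanHF F s ≤ U := spanHF_le s U hsU
  obtain ⟨h1, h2, h3, h4⟩ :=
    Cfsg.Agent.Lib.Helper98.Os.compl_props hR (spanHF F s) U hHn hHU hU
  change spanHF F s ⊔ complF Q U s = U at h1
  change NonDeg (pB Q) (complF Q U s) at h3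
  change finrank F (spanHF F s) + finrank F (complF Q U s) = finrank F U at h4
  have hkD : k ≤ D := by omega
  have hCd : finrank F (complF Q U s) = 2 * (D - k) := by omega
  refine ⟨hkD, h3, hCd, ?_⟩
  have hort : Ort (pB Q) (spanHF F s) (complF Q U s) := by
    intro a ha b hb
    exact LinearMap.BilinForm.mem_orthogonal_iff.mp (Submodule.mem_inf.mp hb).1 a ha
  have hA := Cfsg.Agent.Lib.Helper28.OhP.plusQ_sup_iff Q (spanHF F s) (complF Q U s) hHn h3 hort
    (by rw [hHd]; exact even_two_mul k) (by rw [hCd]; exact even_two_mul _)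
  rw [h1] at hA
  have hH := plusQ_spanHF Q s hs
  rw [hA]
  constructor
  · intro hC
    exact ⟨fun _ => hC, fun _ => hH⟩
  · intro h
    exact h.mp hH

/-- the number of nonzero singular vectors of a nondegenerate even-dimensional subspace -/
theorem card_sing_nz (Q : QuadraticForm F V) (U : Submodule F V) (hU : NonDeg (pB Q) U) (D : ℕ)
    (hD : finrank F U = 2 * D) :
    Nat.card {x : V // x ∈ U ∧ x ≠ 0 ∧ Q x = 0} = nsv (PlusQ Q U) (Fintype.card F) D := by
  classical
  haveI : Finite V := Module.finite_of_finite F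
  have hmz := Cfsg.Agent.Lib.Helper98.OhP.card_mul_zeros Q U hU D hD
  have h1 : Nat.card {x : V // x ∈ U ∧ x ≠ 0 ∧ Q x = 0} =
      Nat.card ↥(({x : V | x ∈ U ∧ Q x = 0} : Set V) \ {0}) := by
    apply Nat.card_congr
    apply Equiv.subtypeEquivRight
    intro x
    simp only [Set.mem_sdiff, Set.mem_ofPred_eq, Set.mem_singleton_iff]
    tauto
  have h2' : Nat.card ↥({x : V | x ∈ U ∧ Q x = 0} : Set V) =
      Nat.card {w : U // Q (w : V) = 0} := by
    apply Nat.card_congr
    exact
      { toFun := fun x => ⟨⟨x.1, x.2.1⟩, x.2.2⟩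
        invFun := fun v => ⟨v.1.1, v.1.2, v.2⟩
        left_inv := fun x => rfl
        right_inv := fun v => rfl }
  rw [h1, Nat.card_coe_set_eq, Set.ncard_sdiff_singleton_of_mem (by simp), ← Nat.card_coe_set_eq,
    h2']
  set Z : ℕ := Nat.card {w : U // Q (w : V) = 0} with hZ
  have hZ1 : 1 ≤ Z := by
    rw [hZ]
    haveI : Nonempty {w : U // Q (w : V) = 0} := ⟨⟨0, by simp⟩⟩
    exact Nat.card_pos
  set q : ℕ := Fintype.card F with hq
  have hq2 : 2 ≤ q := Fintype.one_lt_card
  have hq0 : (q : ℤ) ≠ 0 := by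
    have : (0 : ℤ) < q := by exact_mod_cast (by omega : 0 < q)
    exact this.ne'
  by_cases hε : PlusQ Q U
  · rw [nsv_pos hε, Cfsg.Agent.Lib.Helper98.OhP.sgn_plus Q U hε] at *
    cases D with
    | zero =>
      simp only [Nat.mul_zero, pow_zero, one_mul, Nat.sub_self, zero_mul] at hmz ⊢
      have : (q : ℤ) * (Z : ℤ) = q * 1 := by linear_combination hmz
      have h3 := mul_left_cancel₀ hq0 this
      have : Z = 1 := by exact_mod_cast h3
      omega
    | succ n =>
      rw [Nat.add_sub_cancel]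
      have hZe : (Z : ℤ) = (q : ℤ) ^ (2 * n + 1) + ((q : ℤ) - 1) * (q : ℤ) ^ n := by
        apply mul_left_cancel₀ hq0
        rw [hmz]
        ring
      have hp1 : 1 ≤ q ^ (n + 1) := Nat.one_le_pow _ _ (by omega)
      zify [hZ1, hp1]
      rw [hZe]
      ring
  · rw [nsv_neg hε, Cfsg.Agent.Lib.Helper98.OhP.sgn_minus Q U hε] at *
    cases D with
    | zero =>
      exfalso
      simp only [Nat.mul_zero, pow_zero] at hmz
      have h3 : (q : ℤ) * (Z : ℤ) = 2 - q := by linear_combination hmz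
      have h4 : (q : ℤ) * 1 ≤ (q : ℤ) * (Z : ℤ) := by
        apply mul_le_mul_of_nonneg_left
        · exact_mod_cast hZ1
        · positivity
      have h5 : (2 : ℤ) ≤ q := by exact_mod_cast hq2
      linarith
    | succ n =>
      rw [Nat.add_sub_cancel]
      have hZe : (Z : ℤ) = (q : ℤ) ^ (2 * n + 1) - ((q : ℤ) - 1) * (q : ℤ) ^ n := by
        apply mul_left_cancel₀ hq0
        rw [hmz]
        ring
      have hp1 : 1 ≤ q ^ n := Nat.one_le_pow _ _ (by omega)
      zify [hZ1, hp1]
      rw [hZe]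
      ring

/-- the number of singular hyperbolic pairs of a nondegenerate even-dimensional subspace -/
theorem card_hypPairsT (Q : QuadraticForm F V) (U : Submodule F V) (hU : NonDeg (pB Q) U) (D : ℕ)
    (hD : finrank F U = 2 * D) :
    Nat.card {p : V × V // pB Q p.1 p.2 = 1 ∧ Q p.1 = 0 ∧ Q p.2 = 0 ∧ p.1 ∈ U ∧ p.2 ∈ U} =
      nsv (PlusQ Q U) (Fintype.card F) D * Fintype.card F ^ (2 * D - 2) := by
  classical
  haveI : Finite V := Module.finite_of_finite F
  let e : {p : V × V // pB Q p.1 p.2 = 1 ∧ Q p.1 = 0 ∧ Q p.2 = 0 ∧ p.1 ∈ U ∧ p.2 ∈ U} ≃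
      Σ x : {x : V // x ∈ U ∧ x ≠ 0 ∧ Q x = 0},
        {y : V // pB Q x.1 y = 1 ∧ y ∈ U ∧ Q y = 0} :=
    { toFun := fun p => ⟨⟨p.1.1, p.2.2.2.2.1, fun h => by
          have := p.2.1
          rw [h] at this
          simp at this, p.2.2.1⟩, ⟨p.1.2, p.2.1, p.2.2.2.2.2, p.2.2.2.1⟩⟩
      invFun := fun s => ⟨(s.1.1, s.2.1), s.2.2.1, s.1.2.2.2, s.2.2.2.2, s.1.2.1, s.2.2.2.1⟩
      left_inv := fun p => rfl
      right_inv := fun s => rfl }
  rw [Nat.card_congr e]
  haveI : Fintype {x : V // x ∈ U ∧ x ≠ 0 ∧ Q x = 0} := Fintype.ofFinite _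
  have hq : 1 < Fintype.card F := Fintype.one_lt_card
  have hfib : ∀ x : {x : V // x ∈ U ∧ x ≠ 0 ∧ Q x = 0},
      Nat.card {y : V // pB Q x.1 y = 1 ∧ y ∈ U ∧ Q y = 0} = Fintype.card F ^ (2 * D - 2) := by
    intro x
    have h1 := card_singQ_fiber Q U hU x.1 x.2.1 x.2.2.1 x.2.2.2
    rw [hD] at h1
    have hD1 : 1 ≤ D := by
      rcases Nat.eq_zero_or_pos D with h0 | h0
      · exfalso
        rw [h0] at h1
        simp only [Nat.mul_zero, Nat.zero_sub, pow_zero] at h1
        have := Nat.eq_one_of_mul_eq_one_left h1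
        omega
      · exact h0
    have h3 : Fintype.card F ^ (2 * D - 1) = Fintype.card F ^ (2 * D - 2) * Fintype.card F := by
      rw [← pow_succ]
      congr 1
      omega
    rw [h3] at h1
    exact Nat.eq_of_mul_eq_mul_right (by omega) h1
  rw [Nat.card_sigma, Finset.sum_congr rfl (fun x _ => hfib x), Finset.sum_const,
    Finset.card_univ, ← Nat.card_eq_fintype_card, smul_eq_mul, card_sing_nz Q U hU D hD]

/-- the number of singular hyperbolic frames of a nondegenerate even-dimensional subspace -/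
theorem card_framesT (Q : QuadraticForm F V) : ∀ (k : ℕ) (U : Submodule F V) (D : ℕ),
    NonDeg (pB Q) U → finrank F U = 2 * D →
    Nat.card {s : Fin k → V × V // IsQF Q s ∧ InU U s} =
      ∏ j ∈ Finset.range k, (nsv (PlusQ Q U) (Fintype.card F) (D - j) *
        Fintype.card F ^ (2 * (D - j) - 2)) := by
  classical
  haveI : Finite V := Module.finite_of_finite F
  intro k
  induction k with
  | zero =>
    intro U D _ _
    rw [Finset.prod_range_zero]
    haveI : Unique {s : Fin 0 → V × V // IsQF Q s ∧ InU U s} :=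
      { default := ⟨fun a => a.elim0, ⟨⟨fun a => a.elim0, fun a => a.elim0⟩, fun a => a.elim0⟩,
          fun a => a.elim0⟩
        uniq := fun s => Subtype.ext (funext fun a => a.elim0) }
    exact Nat.card_unique
  | succ k ih =>
    intro U D hU hD
    let e : {s : Fin (k + 1) → V × V // IsQF Q s ∧ InU U s} ≃
        Σ p : {p : V × V // pB Q p.1 p.2 = 1 ∧ Q p.1 = 0 ∧ Q p.2 = 0 ∧ p.1 ∈ U ∧ p.2 ∈ U},
          {t : Fin k → V × V // IsQF Q t ∧ InU (complP Q U p.1.1 p.1.2) t} :=
      { toFun := fun s => ⟨⟨s.1 0, ((frame_head_iff Q U (Fin.tail s.1) (s.1 0)).mp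
              (by rw [Fin.cons_self_tail]; exact s.2)).1⟩,
          ⟨Fin.tail s.1, ((frame_head_iff Q U (Fin.tail s.1) (s.1 0)).mp
              (by rw [Fin.cons_self_tail]; exact s.2)).2⟩⟩
        invFun := fun x => ⟨Fin.cons x.1.1 x.2.1,
          (frame_head_iff Q U x.2.1 x.1.1).mpr ⟨x.1.2, x.2.2⟩⟩
        left_inv := fun s => by simp only [Fin.cons_self_tail, Subtype.coe_eta]
        right_inv := fun ⟨⟨p, hp⟩, ⟨t, ht⟩⟩ =>
          sigma_subtype_ext
            (P := fun (p : V × V) => pB Q p.1 p.2 = 1 ∧ Q p.1 = 0 ∧ Q p.2 = 0 ∧ p.1 ∈ U ∧ p.2 ∈ U)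
            (Q := fun (p : V × V) (t : Fin k → V × V) =>
              IsQF Q t ∧ InU (complP Q U p.1 p.2) t) _ _ _ _ _ _ _ _
            (show (Fin.cons p t : Fin (k + 1) → V × V) 0 = p from Fin.cons_zero _ _)
            (show Fin.tail (Fin.cons p t : Fin (k + 1) → V × V) = t from Fin.tail_cons _ _) }
    rw [Nat.card_congr e]
    haveI : Fintype {p : V × V // pB Q p.1 p.2 = 1 ∧ Q p.1 = 0 ∧ Q p.2 = 0 ∧ p.1 ∈ U ∧ p.2 ∈ U} :=
      Fintype.ofFinite _
    rw [Nat.card_sigma]
    have hfib : ∀ p : {p : V × V // pB Q p.1 p.2 = 1 ∧ Q p.1 = 0 ∧ Q p.2 = 0 ∧ p.1 ∈ U ∧ p.2 ∈ U},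
        Nat.card {t : Fin k → V × V // IsQF Q t ∧ InU (complP Q U p.1.1 p.1.2) t} =
          ∏ j ∈ Finset.range k, (nsv (PlusQ Q U) (Fintype.card F) (D - 1 - j) *
            Fintype.card F ^ (2 * (D - 1 - j) - 2)) := by
      intro p
      have hs : IsQF Q (pairF p.1.1 p.1.2) := isQF_pairF Q p.2.2.1 p.2.2.2.1 p.2.1
      have hsU : InU U (pairF p.1.1 p.1.2) := fun a => ⟨p.2.2.2.2.1, p.2.2.2.2.2⟩
      obtain ⟨-, h2, h3, h4⟩ := complF_props Q U hU D hD (pairF p.1.1 p.1.2) hs hsU
      rw [complF_pairF] at h2 h3 h4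
      rw [ih _ (D - 1) h2 (by rw [h3])]
      apply Finset.prod_congr rfl
      intro j _
      rw [nsv_congr h4]
    rw [Finset.sum_congr rfl (fun p _ => hfib p), Finset.sum_const, Finset.card_univ,
      ← Nat.card_eq_fintype_card, card_hypPairsT Q U hU D hD, smul_eq_mul,
      Finset.prod_range_succ', mul_comm]
    congr 1
    apply Finset.prod_congr rfl
    intro j _
    have h1 : D - (j + 1) = D - 1 - j := by omega
    rw [h1]

end Count

end Cfsg.Agent.Lib.Helper84.OEl
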