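/-
K-OEl-K1 (keystone 598813), part b (helper84): anisotropic planes, elliptic frames (`k` singular
hyperbolic pairs and an anisotropic pair orthogonal to them), their spans and their number; the theorem,
with LEAF K0 (`card_aniso_pairs`, keystone 598812) as a hypothesis.
-/
import Cfsg.Agent.Lib.Helper84.OElK1a

set_option autoImplicit false
set_option linter.unusedSimpArgs false
set_option linter.unusedSectionVars false
set_option linter.unusedVariables false
set_option linter.style.haveILetI false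
set_option maxHeartbeats 800000

namespace Cfsg.Agent.Lib.Helper84.OEl

open Module Cfsg.Agent.Lib.Helper98.Elus Cfsg.Agent.Lib.Helper98.Sy Cfsg.Agent.Lib.Helper38.OhP
  Cfsg.Agent.Lib.Helper72.Nd Cfsg.Agent.Lib.Helper98.Ti Cfsg.Agent.Lib.Helper16.OhP
open Cfsg.Agent.Lib.Helper80.Oh (IsSF finrank_spanSF nonDeg_spanSF isHF_cons_iff_symm
  polar_comp_subtype half_frame)

universe u
variable {F : Type u} [Field F] {V : Type u} [AddCommGroup V] [Module F V]

/-- an anisotropic pair (the `AP` of the spec `notes/S5988_keystones.lean.txt`, verbatim) -/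
def APr (Q : QuadraticForm F V) (u w : V) : Prop :=
  ∀ s t : F, Q (s • u + t • w) = 0 → s = 0 ∧ t = 0

/-- the right hand side of LEAF K0 -/
noncomputable def apf (ε : Prop) (q D : ℕ) : ℕ := by
  classical
  exact if ε then q ^ (2 * D - 1) * ((q ^ D - 1) * (q ^ (D - 1) - 1)) * ((q - 1) * (q - 1))
    else q ^ (2 * D - 1) * ((q ^ D + 1) * (q ^ (D - 1) + 1)) * ((q - 1) * (q - 1))

theorem apf_pos {ε : Prop} (h : ε) (q D : ℕ) :
    apf ε q D = q ^ (2 * D - 1) * ((q ^ D - 1) * (q ^ (D - 1) - 1)) * ((q - 1) * (q - 1)) := by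
  unfold apf; rw [if_pos h]

theorem apf_neg {ε : Prop} (h : ¬ ε) (q D : ℕ) :
    apf ε q D = q ^ (2 * D - 1) * ((q ^ D + 1) * (q ^ (D - 1) + 1)) * ((q - 1) * (q - 1)) := by
  unfold apf; rw [if_neg h]

theorem apf_congr {ε ε' : Prop} (h : ε ↔ ε') (q D : ℕ) : apf ε q D = apf ε' q D := by
  rw [propext h]

/-- the statement of LEAF K0 (`card_aniso_pairs`) for the form `Q` -/
def K0Stmt [Fintype F] (Q : QuadraticForm F V) : Prop :=
  ∀ (O : Submodule F V), NonDeg (pB Q) O → ∀ D : ℕ, 1 ≤ D → finrank F O = 2 * D →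
    (PlusQ Q O → 2 * Nat.card {p : V × V // p.1 ∈ O ∧ p.2 ∈ O ∧ APr Q p.1 p.2} =
      Fintype.card F ^ (2 * D - 1) * ((Fintype.card F ^ D - 1) * (Fintype.card F ^ (D - 1) - 1)) *
        ((Fintype.card F - 1) * (Fintype.card F - 1))) ∧
    (¬ PlusQ Q O → 2 * Nat.card {p : V × V // p.1 ∈ O ∧ p.2 ∈ O ∧ APr Q p.1 p.2} =
      Fintype.card F ^ (2 * D - 1) * ((Fintype.card F ^ D + 1) * (Fintype.card F ^ (D - 1) + 1)) *
        ((Fintype.card F - 1) * (Fintype.card F - 1)))

theorem K0Stmt.apply [Fintype F] {Q : QuadraticForm F V} (h : K0Stmt Q) (O : Submodule F V)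
    (hO : NonDeg (pB Q) O) (D : ℕ) (hD1 : 1 ≤ D) (hD : finrank F O = 2 * D) :
    2 * Nat.card {p : V × V // p.1 ∈ O ∧ p.2 ∈ O ∧ APr Q p.1 p.2} =
      apf (PlusQ Q O) (Fintype.card F) D := by
  by_cases hε : PlusQ Q O
  · rw [apf_pos hε]
    exact (h O hO D hD1 hD).1 hε
  · rw [apf_neg hε]
    exact (h O hO D hD1 hD).2 hε

theorem q_comb (Q : QuadraticForm F V) (u w : V) (s t : F) :
    Q (s • u + t • w) = s * s * Q u + t * t * Q w + s * t * pB Q u w := by
  have h1 : Q (s • u + t • w) = Q (s • u) + Q (t • w) + pB Q (s • u) (t • w) := by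
    rw [pB_apply]; ring
  rw [h1, QuadraticMap.map_smul, QuadraticMap.map_smul, map_smul, map_smul, LinearMap.smul_apply,
    smul_eq_mul, smul_eq_mul, smul_eq_mul, smul_eq_mul]
  ring

/-- an anisotropic plane over a finite field: dimension two, nondegenerate, not of plus type -/
theorem ap_plane [Fintype F] [FiniteDimensional F V] (Q : QuadraticForm F V) (u w : V)
    (h : APr Q u w) :
    finrank F (Submodule.span F ({u, w} : Set V)) = 2 ∧
      NonDeg (pB Q) (Submodule.span F ({u, w} : Set V)) ∧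
      ¬ PlusQ Q (Submodule.span F ({u, w} : Set V)) := by
  classical
  have hli : LinearIndependent F ![u, w] := by
    rw [LinearIndependent.pair_iff]
    intro s t hst
    apply h s t
    rw [hst, map_zero]
  have hfr : finrank F (Submodule.span F ({u, w} : Set V)) = 2 := by
    have := finrank_span_eq_card hli
    rw [Matrix.range_cons_cons_empty] at this
    rw [this]
    simp
  have hzero : ∀ x ∈ Submodule.span F ({u, w} : Set V), Q x = 0 → x = 0 := by
    intro x hx hQx
    obtain ⟨a, b, rfl⟩ := Submodule.mem_span_pair.mp hx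
    obtain ⟨ha, hb⟩ := h a b hQx
    rw [ha, hb, zero_smul, zero_smul, add_zero]
  refine ⟨hfr, ?_, ?_⟩
  · intro x hx hxP
    by_contra hx0
    have hQx : Q x ≠ 0 := fun h0 => hx0 (hzero x hx h0)
    have h2 : (2 : F) = 0 := by
      have h3 := hxP x hx
      rw [Cfsg.Agent.Lib.Helper38.OhP.pB_self] at h3
      exact (mul_eq_zero.mp h3).resolve_right hQx
    obtain ⟨a, b, rfl⟩ := Submodule.mem_span_pair.mp hx
    have hu : u ∈ Submodule.span F ({u, w} : Set V) := Submodule.subset_span (by simp)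
    have hw : w ∈ Submodule.span F ({u, w} : Set V) := Submodule.subset_span (by simp)
    have e1 := hxP u hu
    have e2 := hxP w hw
    rw [map_add, map_smul, map_smul, LinearMap.add_apply, LinearMap.smul_apply,
      LinearMap.smul_apply, Cfsg.Agent.Lib.Helper38.OhP.pB_self, smul_eq_mul, smul_eq_mul,
      h2, zero_mul, mul_zero, zero_add, Cfsg.Agent.Lib.Helper38.OhP.pB_symm Q w u] at e1
    rw [map_add, map_smul, map_smul, LinearMap.add_apply, LinearMap.smul_apply,
      LinearMap.smul_apply, Cfsg.Agent.Lib.Helper38.OhP.pB_self, smul_eq_mul, smul_eq_mul,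
      h2, zero_mul, mul_zero, add_zero] at e2
    have hB : pB Q u w = 0 := by
      rcases mul_eq_zero.mp e1 with hb0 | hB
      · rcases mul_eq_zero.mp e2 with ha0 | hB
        · exfalso
          apply hx0
          rw [ha0, hb0, zero_smul, zero_smul, add_zero]
        · exact hB
      · exact hB
    have hQu : Q u ≠ 0 := by
      intro h0
      have := h 1 0 (by rw [one_smul, zero_smul, add_zero]; exact h0)
      exact one_ne_zero this.1
    have hchar : ringChar F = 2 :=
      CharP.ringChar_of_prime_eq_zero Nat.prime_two (by exact_mod_cast h2)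
    obtain ⟨c, hc⟩ := FiniteField.isSquare_of_char_two hchar (Q w / Q u)
    have h4 := h c 1 (by
      rw [q_comb, hB, mul_zero, add_zero, ← hc, one_mul, one_mul, div_mul_cancel₀ _ hQu, ← two_mul,
        h2, zero_mul])
    exact one_ne_zero h4.2
  · rintro ⟨X, hXP, hX0, hXd⟩
    have hX1 : finrank F X = 1 := by omega
    have hXne : X ≠ ⊥ := by
      intro hb
      rw [hb, finrank_bot] at hX1
      omega
    obtain ⟨x, hxX, hx0⟩ := Submodule.exists_mem_ne_zero_of_ne_bot hXne
    exact hx0 (hzero x (hXP hxX) (hX0 x hxX))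

/-- the span of an elliptic frame -/
noncomputable def spanE (F : Type u) [Field F] {V : Type u} [AddCommGroup V] [Module F V] {k : ℕ}
    (x : (Fin k → V × V) × (V × V)) : Submodule F V :=
  spanHF F x.1 ⊔ Submodule.span F ({x.2.1, x.2.2} : Set V)

/-- elliptic frames inside `U`: `k` singular hyperbolic pairs and an anisotropic pair in their complement -/
def EFr (Q : QuadraticForm F V) (U : Submodule F V) {k : ℕ} (x : (Fin k → V × V) × (V × V)) : Prop :=
  IsQF Q x.1 ∧ InU U x.1 ∧ x.2.1 ∈ complF Q U x.1 ∧ x.2.2 ∈ complF Q U x.1 ∧ APr Q x.2.1 x.2.2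

section Count

variable [Fintype F] [FiniteDimensional F V]

/-- the span of an elliptic frame is an elliptic subspace -/
theorem spanE_props (Q : QuadraticForm F V) (U : Submodule F V) {k : ℕ}
    (x : (Fin k → V × V) × (V × V)) (hx : EFr Q U x) :
    spanE F x ≤ U ∧ finrank F (spanE F x) = 2 * (k + 1) ∧ NonDeg (pB Q) (spanE F x) ∧
      ¬ PlusQ Q (spanE F x) := by
  obtain ⟨hs, hsU, hu, hw, hap⟩ := hx
  have hS : ∀ a b, pB Q a b = pB Q b a := Cfsg.Agent.Lib.Helper38.OhP.pB_symm Q
  have hR := Cfsg.Agent.Lib.Helper98.Os.isRefl_of_symm hS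
  have hHn := nonDeg_spanSF hS x.1 hs.isSF
  have hHd := finrank_spanSF hS x.1 hs.isSF
  obtain ⟨hPd, hPn, hPm⟩ := ap_plane Q x.2.1 x.2.2 hap
  have hort : Ort (pB Q) (spanHF F x.1) (Submodule.span F ({x.2.1, x.2.2} : Set V)) := by
    intro a ha b hb
    obtain ⟨c, e, rfl⟩ := Submodule.mem_span_pair.mp hb
    have h1 := LinearMap.BilinForm.mem_orthogonal_iff.mp (Submodule.mem_inf.mp hu).1 a ha
    have h2 := LinearMap.BilinForm.mem_orthogonal_iff.mp (Submodule.mem_inf.mp hw).1 a ha
    have h1' : pB Q a x.2.1 = 0 := h1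
    have h2' : pB Q a x.2.2 = 0 := h2
    rw [map_add, map_smul, map_smul, h1', h2', smul_zero, smul_zero, add_zero]
  obtain ⟨hn, -⟩ := Cfsg.Agent.Lib.Helper98.Os.nonDeg_sup hR _ _ hHn hPn hort
  have hd := Cfsg.Agent.Lib.Helper98.Os.finrank_sup_of_ort hR _ _ hHn hPn hort
  have hA := Cfsg.Agent.Lib.Helper28.OhP.plusQ_sup_iff Q _ _ hHn hPn hort
    (by rw [hHd]; exact even_two_mul k) (by rw [hPd]; exact even_two)
  refine ⟨?_, ?_, hn, ?_⟩
  · apply sup_le (spanHF_le x.1 U hsU)
    apply Submodule.span_le.mpr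
    intro z hz
    rcases hz with rfl | hz
    · exact (Submodule.mem_inf.mp hu).2
    · rw [Set.mem_singleton_iff] at hz
      rw [hz]
      exact (Submodule.mem_inf.mp hw).2
  · unfold spanE
    rw [hd, hHd, hPd]
    ring
  · unfold spanE
    rw [hA]
    intro h
    exact hPm (h.mp (plusQ_spanHF Q x.1 hs))

theorem efr_top_of (Q : QuadraticForm F V) (W : Submodule F V) {k : ℕ}
    (x : (Fin k → V × V) × (V × V)) (hx : EFr Q W x) : EFr Q ⊤ x := by
  obtain ⟨hs, hsU, hu, hw, hap⟩ := hx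
  exact ⟨hs, fun a => ⟨Submodule.mem_top, Submodule.mem_top⟩,
    Submodule.mem_inf.mpr ⟨(Submodule.mem_inf.mp hu).1, Submodule.mem_top⟩,
    Submodule.mem_inf.mpr ⟨(Submodule.mem_inf.mp hw).1, Submodule.mem_top⟩, hap⟩

theorem efr_of_span (Q : QuadraticForm F V) (W : Submodule F V) {k : ℕ}
    (x : (Fin k → V × V) × (V × V)) (hx : EFr Q ⊤ x) (hW : spanE F x = W) : EFr Q W x := by
  obtain ⟨hs, hsU, hu, hw, hap⟩ := hx
  have h1 : spanHF F x.1 ≤ W := by rw [← hW]; exact le_sup_left
  have h2 : Submodule.span F ({x.2.1, x.2.2} : Set V) ≤ W := by rw [← hW]; exact le_sup_right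
  refine ⟨hs, fun a => ⟨h1 (mem_spanHF x.1 a).1, h1 (mem_spanHF x.1 a).2⟩,
    Submodule.mem_inf.mpr ⟨(Submodule.mem_inf.mp hu).1, h2 (Submodule.subset_span (by simp))⟩,
    Submodule.mem_inf.mpr ⟨(Submodule.mem_inf.mp hw).1, h2 (Submodule.subset_span (by simp))⟩, hap⟩

theorem spanE_eq (Q : QuadraticForm F V) (W : Submodule F V) {k : ℕ}
    (x : (Fin k → V × V) × (V × V)) (hx : EFr Q W x) (hW : finrank F W = 2 * (k + 1)) :
    spanE F x = W := by
  obtain ⟨h1, h2, -, -⟩ := spanE_props Q W x hx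
  exact Submodule.eq_of_le_of_finrank_eq h1 (by rw [h2, hW])

/-- the number of elliptic frames of a nondegenerate even-dimensional subspace -/
theorem two_mul_card_efr (Q : QuadraticForm F V) (hK0 : K0Stmt Q) (U : Submodule F V)
    (hU : NonDeg (pB Q) U) (D : ℕ) (hD : finrank F U = 2 * D) (k : ℕ) (hk : k < D) :
    2 * Nat.card {x : (Fin k → V × V) × (V × V) // EFr Q U x} =
      (∏ j ∈ Finset.range k, (nsv (PlusQ Q U) (Fintype.card F) (D - j) *
        Fintype.card F ^ (2 * (D - j) - 2))) * apf (PlusQ Q U) (Fintype.card F) (D - k) := by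
  classical
  haveI : Finite V := Module.finite_of_finite F
  let eqv : {x : (Fin k → V × V) × (V × V) // EFr Q U x} ≃
      Σ s : {s : Fin k → V × V // IsQF Q s ∧ InU U s},
        {p : V × V // p.1 ∈ complF Q U s.1 ∧ p.2 ∈ complF Q U s.1 ∧ APr Q p.1 p.2} :=
    { toFun := fun x => ⟨⟨x.1.1, x.2.1, x.2.2.1⟩, ⟨x.1.2, x.2.2.2.1, x.2.2.2.2.1, x.2.2.2.2.2⟩⟩
      invFun := fun y => ⟨(y.1.1, y.2.1), y.1.2.1, y.1.2.2, y.2.2.1, y.2.2.2.1, y.2.2.2.2⟩
      left_inv := fun x => rfl
      right_inv := fun y => rfl }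
  rw [Nat.card_congr eqv]
  haveI : Fintype {s : Fin k → V × V // IsQF Q s ∧ InU U s} := Fintype.ofFinite _
  rw [Nat.card_sigma, Finset.mul_sum]
  have hfib : ∀ s : {s : Fin k → V × V // IsQF Q s ∧ InU U s},
      2 * Nat.card {p : V × V // p.1 ∈ complF Q U s.1 ∧ p.2 ∈ complF Q U s.1 ∧ APr Q p.1 p.2} =
        apf (PlusQ Q U) (Fintype.card F) (D - k) := by
    intro s
    obtain ⟨-, h2, h3, h4⟩ := complF_props Q U hU D hD s.1 s.2.1 s.2.2
    rw [hK0.apply (complF Q U s.1) h2 (D - k) (by omega) h3, apf_congr h4]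
  rw [Finset.sum_congr rfl (fun s _ => hfib s), Finset.sum_const, Finset.card_univ,
    ← Nat.card_eq_fintype_card, smul_eq_mul, card_framesT Q k U D hU hD]

/-- frames versus elliptic subspaces -/
theorem card_efr_top_eq_mul (Q : QuadraticForm F V) (k c : ℕ)
    (hc : ∀ W : Submodule F V, finrank F W = 2 * (k + 1) → NonDeg (pB Q) W → ¬ PlusQ Q W →
      Nat.card {x : (Fin k → V × V) × (V × V) // EFr Q W x} = c) :
    Nat.card {x : (Fin k → V × V) × (V × V) // EFr Q (⊤ : Submodule F V) x} =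
      Nat.card {W : Submodule F V // finrank F W = 2 * (k + 1) ∧ NonDeg (pB Q) W ∧
        ¬ PlusQ Q W} * c := by
  classical
  haveI : Finite V := Module.finite_of_finite F
  let fmap : {x : (Fin k → V × V) × (V × V) // EFr Q (⊤ : Submodule F V) x} →
      {W : Submodule F V // finrank F W = 2 * (k + 1) ∧ NonDeg (pB Q) W ∧ ¬ PlusQ Q W} :=
    fun x => ⟨spanE F x.1, (spanE_props Q ⊤ x.1 x.2).2⟩
  rw [← Nat.card_congr (Equiv.sigmaFiberEquiv fmap)]
  haveI : Fintype {W : Submodule F V // finrank F W = 2 * (k + 1) ∧ NonDeg (pB Q) W ∧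
      ¬ PlusQ Q W} := Fintype.ofFinite _
  rw [Nat.card_sigma]
  have hfib : ∀ W : {W : Submodule F V // finrank F W = 2 * (k + 1) ∧ NonDeg (pB Q) W ∧
      ¬ PlusQ Q W},
      Nat.card {x : {x : (Fin k → V × V) × (V × V) // EFr Q (⊤ : Submodule F V) x} //
        fmap x = W} = c := by
    intro W
    let eq : {x : {x : (Fin k → V × V) × (V × V) // EFr Q (⊤ : Submodule F V) x} //
        fmap x = W} ≃ {x : (Fin k → V × V) × (V × V) // EFr Q W.1 x} :=
      { toFun := fun x => ⟨x.1.1, efr_of_span Q W.1 x.1.1 x.1.2 (congrArg Subtype.val x.2)⟩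
        invFun := fun y => ⟨⟨y.1, efr_top_of Q W.1 y.1 y.2⟩, by
          apply Subtype.ext
          show spanE F y.1 = W.1
          exact spanE_eq Q W.1 y.1 y.2 W.2.1⟩
        left_inv := fun x => by
          apply Subtype.ext
          apply Subtype.ext
          rfl
        right_inv := fun y => by
          apply Subtype.ext
          rfl }
    rw [Nat.card_congr eq, hc W.1 W.2.1 W.2.2.1 W.2.2.2]
  rw [Finset.sum_congr rfl (fun W _ => hfib W), Finset.sum_const, Finset.card_univ,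
    ← Nat.card_eq_fintype_card, smul_eq_mul]

end Count

end Cfsg.Agent.Lib.Helper84.OEl
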