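/-
K-OEl-K1 (keystone 598813, architect helper49, pack S5988 + S5990), part c (helper84): THE COUNT.
`r ∣ #{elliptic 2e-spaces}` implies that `r` divides a factor of the elliptic-frame product, for a nondegenerate
space of dimension `2d` of either type, in any characteristic; LEAF K0 (`card_aniso_pairs`, keystone 598812)
enters as the hypothesis `hK0 : K0Stmt Q` (its statement, verbatim, for the form `Q`).
-/
import Cfsg.Agent.Lib.Helper84.OElK1b

set_option autoImplicit false
set_option linter.unusedSimpArgs false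
set_option linter.unusedSectionVars false
set_option linter.unusedVariables false
set_option linter.style.haveILetI false
set_option maxHeartbeats 800000

namespace Cfsg.Agent.Lib.Helper84.OEl

open Module Cfsg.Agent.Lib.Helper98.Elus Cfsg.Agent.Lib.Helper98.Sy Cfsg.Agent.Lib.Helper38.OhP
  Cfsg.Agent.Lib.Helper72.Nd Cfsg.Agent.Lib.Helper98.Ti Cfsg.Agent.Lib.Helper16.OhP

universe u
variable {F : Type u} [Field F] {V : Type u} [AddCommGroup V] [Module F V]

/-- **K-OEl-K1**, with LEAF K0 as a hypothesis. -/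
theorem exists_of_dvd_card_ell_q_of [Fintype F] [FiniteDimensional F V] (Q : QuadraticForm F V)
    (hK0 : K0Stmt Q)
    (hV : NonDeg (pB Q) ⊤) (d e : ℕ) (hdim : finrank F V = 2 * d) (he : 1 ≤ e) (hed : e < d)
    (r : ℕ) [Fact r.Prime] (hrF : (r : F) ≠ 0)
    (hr : r ∣ Nat.card {W : Submodule F V // finrank F W = 2 * e ∧ NonDeg (pB Q) W ∧ ¬ PlusQ Q W}) :
    (PlusQ Q ⊤ →
      (∃ j : ℕ, j + 1 < e ∧ r ∣ (Fintype.card F ^ (d - j) - 1) * (Fintype.card F ^ (d - j - 1) + 1)) ∨
        r ∣ (Fintype.card F ^ (d - e + 1) - 1) * (Fintype.card F ^ (d - e) - 1) ∨ r ∣ Fintype.card F - 1) ∧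
    (¬ PlusQ Q ⊤ →
      (∃ j : ℕ, j + 1 < e ∧ r ∣ (Fintype.card F ^ (d - j) + 1) * (Fintype.card F ^ (d - j - 1) - 1)) ∨
        r ∣ (Fintype.card F ^ (d - e + 1) + 1) * (Fintype.card F ^ (d - e) + 1) ∨ r ∣ Fintype.card F - 1) := by
  classical
  have hrp : r.Prime := Fact.out
  obtain ⟨k, rfl⟩ : ∃ k, e = k + 1 := ⟨e - 1, by omega⟩
  have hrq : ¬ r ∣ Fintype.card F := not_dvd_card_of_ne_zero r hrF
  have hrqp : ∀ n : ℕ, ¬ r ∣ Fintype.card F ^ n := fun n h => hrq (hrp.dvd_of_dvd_pow h)
  -- the number of frames inside an elliptic `2(k+1)`-space is constant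
  set K₀ : ℕ := (∏ j ∈ Finset.range k, (nsv False (Fintype.card F) (k + 1 - j) *
      Fintype.card F ^ (2 * (k + 1 - j) - 2))) * apf False (Fintype.card F) (k + 1 - k) with hK₀
  have hfibW : ∀ W : Submodule F V, finrank F W = 2 * (k + 1) → NonDeg (pB Q) W → ¬ PlusQ Q W →
      Nat.card {x : (Fin k → V × V) × (V × V) // EFr Q W x} = K₀ / 2 := by
    intro W hWd hWn hWm
    have h1 := two_mul_card_efr Q hK0 W hWn (k + 1) hWd k (by omega)
    have hiff : PlusQ Q W ↔ False := ⟨fun h => hWm h, fun h => h.elim⟩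
    rw [apf_congr hiff, Finset.prod_congr rfl (fun j _ => by rw [nsv_congr hiff]), ← hK₀] at h1
    omega
  have htop := card_efr_top_eq_mul Q k (K₀ / 2) hfibW
  have h2 := two_mul_card_efr Q hK0 ⊤ hV d (by rw [finrank_top]; exact hdim) k (by omega)
  rw [htop] at h2
  have hdvd : r ∣ (∏ j ∈ Finset.range k, (nsv (PlusQ Q (⊤ : Submodule F V)) (Fintype.card F) (d - j) *
      Fintype.card F ^ (2 * (d - j) - 2))) *
        apf (PlusQ Q (⊤ : Submodule F V)) (Fintype.card F) (d - k) := by
    rw [← h2]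
    exact Dvd.dvd.mul_left (Dvd.dvd.mul_right hr _) _
  have e1 : d - (k + 1) + 1 = d - k := by omega
  have e2 : d - k - 1 = d - (k + 1) := by omega
  have hcases : (∃ j, j < k ∧ r ∣ nsv (PlusQ Q (⊤ : Submodule F V)) (Fintype.card F) (d - j)) ∨
      r ∣ apf (PlusQ Q (⊤ : Submodule F V)) (Fintype.card F) (d - k) := by
    rcases (Nat.Prime.dvd_mul hrp).1 hdvd with h | h
    · left
      obtain ⟨j, hj, hjr⟩ := (Prime.dvd_finsetProd_iff (Nat.Prime.prime hrp) _).1 h
      rw [Finset.mem_range] at hj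
      rcases (Nat.Prime.dvd_mul hrp).1 hjr with h' | h'
      · exact ⟨j, hj, h'⟩
      · exact absurd h' (hrqp _)
    · right
      exact h
  constructor
  · intro hε
    rcases hcases with ⟨j, hj, hjr⟩ | h
    · left
      rw [nsv_pos hε] at hjr
      exact ⟨j, by omega, hjr⟩
    · right
      rw [apf_pos hε] at h
      rcases (Nat.Prime.dvd_mul hrp).1 h with h' | h'
      · rcases (Nat.Prime.dvd_mul hrp).1 h' with h'' | h''
        · exact absurd h'' (hrqp _)
        · left
          rw [e1, ← e2]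
          exact h''
      · right
        rcases (Nat.Prime.dvd_mul hrp).1 h' with h'' | h'' <;> exact h''
  · intro hε
    rcases hcases with ⟨j, hj, hjr⟩ | h
    · left
      rw [nsv_neg hε] at hjr
      exact ⟨j, by omega, hjr⟩
    · right
      rw [apf_neg hε] at h
      rcases (Nat.Prime.dvd_mul hrp).1 h with h' | h'
      · rcases (Nat.Prime.dvd_mul hrp).1 h' with h'' | h''
        · exact absurd h'' (hrqp _)
        · left
          rw [e1, ← e2]
          exact h''
      · right
        rcases (Nat.Prime.dvd_mul hrp).1 h' with h'' | h'' <;> exact h''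

end Cfsg.Agent.Lib.Helper84.OEl
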