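/-
K-OEl-K1 (keystone 598813, architect helper49, pack S5988 + S5990): THE COUNT with the EXACT spec signature
(helper84): `Cfsg.Agent.Lib.Helper84.OEl.exists_of_dvd_card_ell_q_of` (Lib/Helper84/OElK1.lean) fed with LEAF K0
`Cfsg.Agent.Lib.Helper54.OEl.card_aniso_pairs` (Lib/Helper54/OElK0.lean, helper54).
-/
import Cfsg.Agent.Lib.Helper84.OElK1
import Cfsg.Agent.Lib.Helper54.OElK0

set_option autoImplicit false
set_option linter.unusedVariables false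

namespace Cfsg.Agent.Lib.Helper84.OEl

open Module Cfsg.Agent.Lib.Helper98.Elus Cfsg.Agent.Lib.Helper98.Sy Cfsg.Agent.Lib.Helper38.OhP
  Cfsg.Agent.Lib.Helper49.OEl

universe u
variable {F : Type u} [Field F] {V : Type u} [AddCommGroup V] [Module F V]

/-- **LEAF K1 (598813)**, exact spec signature. -/
theorem exists_of_dvd_card_ell_q [Fintype F] [FiniteDimensional F V] (Q : QuadraticForm F V)
    (hV : NonDeg (pB Q) ⊤) (d e : ℕ) (hdim : finrank F V = 2 * d) (he : 1 ≤ e) (hed : e < d)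
    (r : ℕ) [Fact r.Prime] (hr2 : r ≠ 2) (hrF : (r : F) ≠ 0)
    (hr : r ∣ Nat.card {W : Submodule F V // finrank F W = 2 * e ∧ NonDeg (pB Q) W ∧ ¬ PlusQ Q W}) :
    (PlusQ Q ⊤ →
      (∃ j : ℕ, j + 1 < e ∧ r ∣ (Fintype.card F ^ (d - j) - 1) * (Fintype.card F ^ (d - j - 1) + 1)) ∨
        r ∣ (Fintype.card F ^ (d - e + 1) - 1) * (Fintype.card F ^ (d - e) - 1) ∨ r ∣ Fintype.card F - 1) ∧
    (¬ PlusQ Q ⊤ →
      (∃ j : ℕ, j + 1 < e ∧ r ∣ (Fintype.card F ^ (d - j) + 1) * (Fintype.card F ^ (d - j - 1) - 1)) ∨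
        r ∣ (Fintype.card F ^ (d - e + 1) + 1) * (Fintype.card F ^ (d - e) + 1) ∨ r ∣ Fintype.card F - 1) :=
  exists_of_dvd_card_ell_q_of Q
    (fun O hO D hD1 hD => Cfsg.Agent.Lib.Helper54.OEl.card_aniso_pairs Q O hO D hD1 hD)
    hV d e hdim he hed r hrF hr

end Cfsg.Agent.Lib.Helper84.OEl
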