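import Cfsg.Agent.Lib.Helper48.StODefs

/-!
# K-StO pack (S2547), leaf R0b: the root elements `x_{ε_i - ε_j}(t)` are isometries
-/

set_option autoImplicit false
set_option linter.unusedSectionVars false

namespace Cfsg.Agent.Lib.Helper84.StO

open Matrix Cfsg Cfsg.Agent.Lib.Helper48.StO

variable {m : ℕ} {F : Type*} [Field F]

theorem xPermMat_mul_neg (i j : Fin m) (hij : i ≠ j) (t : F) :
    xPermMat m F i j t * xPermMat m F i j (-t) = 1 := by
  unfold xPermMat
  have h1 : (eI j : OI m) ≠ eI i := fun h => hij (Sum.inl.inj (Sum.inr.inj h)).symm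
  have h2 : (eI j : OI m) ≠ fI j := fun h => by cases h
  have h3 : (fI i : OI m) ≠ eI i := fun h => by cases h
  have h4 : (fI i : OI m) ≠ fI j := fun h => hij (Sum.inr.inj (Sum.inr.inj h))
  simp only [Matrix.add_mul, Matrix.mul_add, Matrix.sub_mul, Matrix.mul_sub, Matrix.one_mul,
    Matrix.mul_one, Matrix.single_mul_single_of_ne _ _ _ _ h1, Matrix.single_mul_single_of_ne _ _ _ _ h2,
    Matrix.single_mul_single_of_ne _ _ _ _ h3, Matrix.single_mul_single_of_ne _ _ _ _ h4]
  rw [← Matrix.single_neg, ← Matrix.single_neg]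
  abel

theorem xPermMat_mulVec_zI (i j : Fin m) (t : F) (u : OI m → F) :
    (xPermMat m F i j t *ᵥ u) zI = u zI := by
  unfold xPermMat
  rw [Matrix.sub_mulVec, Matrix.add_mulVec, Matrix.one_mulVec, Matrix.single_mulVec,
    Matrix.single_mulVec]
  simp [Function.update_apply]

theorem xPermMat_mulVec_eI (i j : Fin m) (t : F) (u : OI m → F) (a : Fin m) :
    (xPermMat m F i j t *ᵥ u) (eI a) = u (eI a) + if a = i then t * u (eI j) else 0 := by
  unfold xPermMat
  rw [Matrix.sub_mulVec, Matrix.add_mulVec, Matrix.one_mulVec, Matrix.single_mulVec,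
    Matrix.single_mulVec]
  simp [Function.update_apply]

theorem xPermMat_mulVec_fI (i j : Fin m) (t : F) (u : OI m → F) (a : Fin m) :
    (xPermMat m F i j t *ᵥ u) (fI a) = u (fI a) - if a = j then t * u (fI i) else 0 := by
  unfold xPermMat
  rw [Matrix.sub_mulVec, Matrix.add_mulVec, Matrix.one_mulVec, Matrix.single_mulVec,
    Matrix.single_mulVec]
  simp [Function.update_apply]

theorem quad_xPermMat (i j : Fin m) (hij : i ≠ j) (t : F) (u : OI m → F) :
    Cfsg.quadFormOdd m F (xPermMat m F i j t *ᵥ u) = Cfsg.quadFormOdd m F u := by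
  unfold Cfsg.quadFormOdd
  have hz := xPermMat_mulVec_zI i j t u
  have he := xPermMat_mulVec_eI i j t u
  have hf := xPermMat_mulVec_fI i j t u
  change (xPermMat m F i j t *ᵥ u) zI ^ 2 +
      ∑ a : Fin m, (xPermMat m F i j t *ᵥ u) (eI a) * (xPermMat m F i j t *ᵥ u) (fI a) =
    u zI ^ 2 + ∑ a : Fin m, u (eI a) * u (fI a)
  rw [hz]
  congr 1
  simp only [he, hf]
  have key : ∀ a : Fin m,
      (u (eI a) + if a = i then t * u (eI j) else 0) *
        (u (fI a) - if a = j then t * u (fI i) else 0) =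
      u (eI a) * u (fI a) + (if a = i then t * u (eI j) * u (fI i) else 0) -
        (if a = j then t * u (eI j) * u (fI i) else 0) := by
    intro a
    by_cases h1 : a = i
    · have h2 : a ≠ j := fun h => hij (h1.symm.trans h)
      rw [if_pos h1, if_neg h2, if_pos h1, if_neg h2, h1]
      ring
    · by_cases h2 : a = j
      · rw [if_neg h1, if_pos h2, if_neg h1, if_pos h2, h2]
        ring
      · rw [if_neg h1, if_neg h2, if_neg h1, if_neg h2]
        ring
  simp only [key]
  rw [Finset.sum_sub_distrib, Finset.sum_add_distrib, Finset.sum_ite_eq' Finset.univ i,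
    Finset.sum_ite_eq' Finset.univ j]
  simp

/-- **K-StO leaf R0b** -/
theorem mat_xPerm (i j : Fin m) (hij : i ≠ j) (t : F) :
    mat (xPerm m F i j t) = xPermMat m F i j t := by
  unfold xPerm
  refine mat_ofMat _ (exists_of_isometry (xPermMat m F i j t) (xPermMat m F i j (-t))
    (xPermMat_mul_neg i j hij t) ?_ (quad_xPermMat i j hij t))
  have := xPermMat_mul_neg i j hij (-t)
  rwa [neg_neg] at this

end Cfsg.Agent.Lib.Helper84.StO
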