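import Mathlib
import Cfsg.Agent.Lib.Helper72.G42Defs
import Cfsg.Agent.Lib.Helper62.Small120

/-!
# K-G42 pack (S2553), leaf 255305 L4: `K` preserves `Δ` and acts faithfully on it
-/

set_option autoImplicit false

namespace Cfsg.Agent.Lib.Helper84.G42

open Cfsg.Agent.Lib.Helper72.G42 Equiv

/-- 255305 L4: `K` preserves `Δ` and acts faithfully on it. -/
theorem faithful_on {K N : Subgroup (Equiv.Perm (Fin 8))} {Δ : Finset (Fin 8)} (h : Cfg K N Δ) :
    (∀ k ∈ K, ∀ x ∈ Δ, k x ∈ Δ) ∧ (∀ k ∈ K, (∀ x ∈ Δ, k x = x) → k = 1) := by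
  classical
  -- every point of `Δ` is moved by some element of `N`
  have hmoved : ∀ x ∈ Δ, ∃ n ∈ N, n x ≠ x := by
    intro x hx
    have h2 : 1 < Δ.card := by have := h.hcard; omega
    obtain ⟨y, hy, hyx⟩ := Finset.exists_mem_ne h2 x
    obtain ⟨n, hn, hnx⟩ := h.htrans x hx y hy
    exact ⟨n, hn, by rw [hnx]; exact hyx⟩
  have h1 : ∀ k ∈ K, ∀ x ∈ Δ, k x ∈ Δ := by
    intro k hk x hx
    obtain ⟨n, hn, hnx⟩ := hmoved x hx
    by_contra hkx
    have hc := h.hfix (k * n * k⁻¹) (h.hnorm k hk n hn) (k x) hkx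
    apply hnx
    have : (k * n * k⁻¹) (k x) = k (n x) := by
      simp [Perm.mul_apply]
    rw [this] at hc
    exact k.injective hc
  refine ⟨h1, ?_⟩
  -- the kernel
  let M : Subgroup (Equiv.Perm (Fin 8)) :=
    { carrier := {k | k ∈ K ∧ ∀ x ∈ Δ, k x = x}
      one_mem' := ⟨K.one_mem, fun _ _ => rfl⟩
      mul_mem' := by
        rintro a b ⟨ha, ha'⟩ ⟨hb, hb'⟩
        refine ⟨K.mul_mem ha hb, fun x hx => ?_⟩
        rw [Perm.mul_apply, hb' x hx, ha' x hx]
      inv_mem' := by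
        rintro a ⟨ha, ha'⟩
        refine ⟨K.inv_mem ha, fun x hx => ?_⟩
        rw [Perm.inv_eq_iff_eq, ha' x hx] }
  have hMmem : ∀ k, k ∈ M ↔ (k ∈ K ∧ ∀ x ∈ Δ, k x = x) := fun k => Iff.rfl
  have hMK : M ≤ K := fun k hk => hk.1
  have hMnorm : NormalizedBy K M := by
    intro k hk m hm
    refine ⟨K.mul_mem (K.mul_mem hk hm.1) (K.inv_mem hk), fun x hx => ?_⟩
    have hx' : k⁻¹ x ∈ Δ := h1 k⁻¹ (K.inv_mem hk) x hx
    rw [Perm.mul_apply, Perm.mul_apply, hm.2 _ hx']
    simp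
  -- `M` preserves the complement of `Δ`
  have hpres : ∀ m : ↥M, ∀ x, (m : Perm (Fin 8)) x ∈ Δᶜ ↔ x ∈ Δᶜ := by
    intro m x
    rw [Finset.mem_compl, Finset.mem_compl, not_iff_not]
    constructor
    · intro hmx
      by_contra hx
      have h3 := m.2.2 _ hmx
      have h4 := (m : Perm (Fin 8)).injective h3
      rw [h4] at hmx
      exact hx hmx
    · intro hx
      rw [m.2.2 x hx]
      exact hx
  let g : ↥M → Perm ↥(Δᶜ : Finset (Fin 8)) := fun m =>
    Perm.subtypePerm (m : Perm (Fin 8)) (fun x => hpres m x)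
  have hginj : Function.Injective g := by
    intro a b hab
    apply Subtype.ext
    refine Perm.ext fun x => ?_
    by_cases hx : x ∈ Δ
    · rw [a.2.2 x hx, b.2.2 x hx]
    · have hx' : x ∈ Δᶜ := Finset.mem_compl.mpr hx
      have := congrArg (fun σ : Perm ↥(Δᶜ : Finset (Fin 8)) => ((σ ⟨x, hx'⟩ : ↥(Δᶜ : Finset (Fin 8))) : Fin 8)) hab
      simpa [g, Perm.subtypePerm_apply] using this
  have hcardM : Nat.card ↥M < 60 := by
    have h5 := Nat.card_le_card_of_injective g hginj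
    have h6 : Nat.card (Perm ↥(Δᶜ : Finset (Fin 8))) = (8 - Δ.card).factorial := by
      rw [Nat.card_eq_fintype_card, Fintype.card_perm, Fintype.card_coe, Finset.card_compl,
        Fintype.card_fin]
    have hc := h.hcard
    have hc8 : Δ.card ≤ 8 := by
      have := Finset.card_le_univ Δ
      simpa using this
    have h7 : (8 - Δ.card).factorial ≤ 6 := by
      generalize Δ.card = c at hc hc8
      interval_cases c <;> decide
    omega
  have hsolvM : Group.IsSolvable ↥M :=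
    Cfsg.Agent.Lib.Helper62.Small120.solvable_of_card_lt_sixty _ hcardM ↥M rfl
  have hMbot : M = ⊥ := h.hsolv M hMK hMnorm hsolvM
  intro k hk hkfix
  have : k ∈ M := ⟨hk, hkfix⟩
  rw [hMbot, Subgroup.mem_bot] at this
  exact this

end Cfsg.Agent.Lib.Helper84.G42
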