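import Cfsg.Agent.Lib.Helper63.OhA
import Cfsg.Agent.Lib.Helper26.OhC1
import Cfsg.Agent.Lib.Helper68.OhC2
import Cfsg.Agent.Lib.Helper96.OhC0

/-!
# K-OPb-9 (helper84, for helper69's pack K-OPb, rows S5989 / S5991): the pieces of `V1`

A nondegenerate `y`-invariant subspace `U` of `V1 r y` (symmetric form, `y` an isometry of odd prime
order `r ≠ p`) is an orthogonal sum of `T` invariant nondegenerate pieces of dimension
`c = cOf (order of q mod r)`; its type is `Plus` iff `i` is odd or `T` is even; and it contains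
invariant nondegenerate subspaces of every dimension `s c`, `s ≤ T`.
-/

set_option autoImplicit false

namespace Cfsg.Agent.Lib.Helper84.OPb

open Module Cfsg.Agent.Lib.Helper98.Elus Cfsg.Agent.Lib.Helper98.Sy Cfsg.Agent.Lib.Helper98.Oh

universe u
variable {F : Type u} [Field F] {V : Type u} [AddCommGroup V] [Module F V]

/-- the propositional bookkeeping of the type of an orthogonal sum -/
theorem parity_aux (a : Prop) (T : ℕ) :
    ((a ↔ (a ∨ Even T)) ↔ (a ∨ Even (T + 1))) := by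
  rw [Nat.even_add_one]
  by_cases h1 : a <;> by_cases h2 : Even T <;> simp [h1, h2]

/-- LEAF 9 of pack K-OPb. -/
theorem piece_chain [Fintype F] (h2 : (2 : F) ≠ 0) [FiniteDimensional F V]
    (B : LinearMap.BilinForm F V) (hS : ∀ a b, B a b = B b a) (hV : NonDeg B ⊤)
    (p f : ℕ) [Fact p.Prime] (hF : Fintype.card F = p ^ f)
    (r : ℕ) [Fact r.Prime] (hpr : p ≠ r) (hr2 : r ≠ 2) (hrF : (r : F) ≠ 0) (y : V →ₗ[F] V)
    (hy : y ^ r = 1) (hiso : Iso B y)
    (U : Submodule F V) (hUV1 : U ≤ V1 r y) (hU : Inv y U) (hUnd : NonDeg B U) :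
    ∃ T : ℕ, finrank F U = T * cOf (orderOf ((Fintype.card F : ℕ) : ZMod r)) ∧
      (Plus B U ↔ (Odd (orderOf ((Fintype.card F : ℕ) : ZMod r)) ∨ Even T)) ∧
      ∀ s : ℕ, s ≤ T → ∃ W : Submodule F V, W ≤ U ∧ Inv y W ∧ NonDeg B W ∧
        finrank F W = s * cOf (orderOf ((Fintype.card F : ℕ) : ZMod r)) := by
  classical
  have hR : B.IsRefl := Cfsg.Agent.Lib.Helper98.Os.isRefl_of_symm hS
  have hodd : ∀ M : Submodule F V, M ≤ V1 r y → Inv y M → NonDeg B M → Even (finrank F M) :=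
    fun M h1 h2' h3 =>
      Cfsg.Agent.Lib.Helper96.Oh.even_finrank_of_le_V1 h2 B hS r hr2 hrF y hy hiso M h1 h2' h3
  have hipos : 1 ≤ orderOf ((Fintype.card F : ℕ) : ZMod r) := orderOf_card_pos p f hF r hpr
  have hcpos : 1 ≤ cOf (orderOf ((Fintype.card F : ℕ) : ZMod r)) := cOf_pos _ hipos
  have hceven : Even (cOf (orderOf ((Fintype.card F : ℕ) : ZMod r))) := cOf_even _
  have hrpos : 0 < r := (Fact.out : r.Prime).pos
  induction' hn : finrank F U using Nat.strong_induction_on with n ih generalizing U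
  by_cases hUne : U = ⊥
  · subst hUne
    refine ⟨0, by rw [← hn]; simp, ?_, ?_⟩
    · constructor
      · intro _
        right
        exact Even.zero
      · intro _
        exact plus_bot B
    · intro s hs
      have hs0 : s = 0 := by omega
      subst hs0
      exact ⟨⊥, le_rfl, inv_bot y, Cfsg.Agent.Lib.Helper98.Os.nonDeg_bot, by simp⟩
  · obtain ⟨P, hPU, hPinv, hPnd, hPd⟩ :=
      Cfsg.Agent.Lib.Helper26.Oh.exists_min_nonDeg_symm h2 B hS hV p f hF r hpr hr2 hrF y hy hiso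
        hodd U hUV1 hU hUnd hUne
    obtain ⟨hsup, hinf, hU'nd, hdim⟩ :=
      Cfsg.Agent.Lib.Helper98.Os.compl_props hR P U hPnd hPU hUnd
    have hU'inv : Inv y (B.orthogonal P ⊓ U) := by
      intro v hv
      obtain ⟨hv1, hv2⟩ := Submodule.mem_inf.mp hv
      exact Submodule.mem_inf.mpr ⟨inv_orth r hrpos y hy hiso P hPinv v hv1, hU v hv2⟩
    have hU'V1 : B.orthogonal P ⊓ U ≤ V1 r y := inf_le_right.trans hUV1
    have hlt : finrank F ↥(B.orthogonal P ⊓ U) < n := by omega
    obtain ⟨T', hT'd, hT'plus, hT'chain⟩ :=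
      ih (finrank F ↥(B.orthogonal P ⊓ U)) hlt (B.orthogonal P ⊓ U) hU'V1 hU'inv hU'nd rfl
    have hort : Ort B P (B.orthogonal P ⊓ U) := by
      intro a ha b hb
      exact LinearMap.BilinForm.mem_orthogonal_iff.mp (Submodule.mem_inf.mp hb).1 a ha
    refine ⟨T' + 1, ?_, ?_, ?_⟩
    · rw [← hn, ← hdim, hPd, hT'd]
      ring
    · have hPplus :=
        Cfsg.Agent.Lib.Helper68.Oh.plus_iff_of_min h2 B hS hV p f hF r hpr hr2 hrF y hy hiso hodd
          P (hPU.trans hUV1) hPinv hPnd hPd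
      have hsupplus :=
        Cfsg.Agent.Lib.Helper63.Oh.plus_sup_iff h2 B hS P (B.orthogonal P ⊓ U) hPnd hU'nd hort
          (by rw [hPd]; exact hceven) (by rw [hT'd]; exact hceven.mul_left _)
      rw [hsup] at hsupplus
      rw [hsupplus, hPplus, hT'plus]
      exact parity_aux _ T'
    · intro s hs
      rcases Nat.eq_zero_or_pos s with rfl | hspos
      · exact ⟨⊥, bot_le, inv_bot y, Cfsg.Agent.Lib.Helper98.Os.nonDeg_bot, by simp⟩
      · obtain ⟨W', hW'U', hW'inv, hW'nd, hW'd⟩ := hT'chain (s - 1) (by omega)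
        have hortW : Ort B P W' := fun a ha b hb => hort a ha b (hW'U' hb)
        refine ⟨P ⊔ W', sup_le hPU (hW'U'.trans inf_le_right), hPinv.sup hW'inv,
          (Cfsg.Agent.Lib.Helper98.Os.nonDeg_sup hR P W' hPnd hW'nd hortW).1, ?_⟩
        rw [Cfsg.Agent.Lib.Helper98.Os.finrank_sup_of_ort hR P W' hPnd hW'nd hortW, hPd, hW'd]
        obtain ⟨s', rfl⟩ : ∃ s', s = s' + 1 := ⟨s - 1, by omega⟩
        rw [Nat.add_sub_cancel]
        ring

end Cfsg.Agent.Lib.Helper84.OPb
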