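import Mathlib
import Cfsg.Agent.Lib.Helper84.CosetAvg
import Cfsg.Agent.Lib.Helper83.Decompose

set_option autoImplicit false

namespace Cfsg.Agent.Lib.Helper84

open Cfsg
open scoped ComplexConjugate

section FTBoundA

universe u

variable {N : Type u} [Group N] [Fintype N] (K : Subgroup N) [hK : K.Normal] [Fintype K]

/-- the coset average of an irreducible character is a scalar multiple of it, the scalar
being `0` or `1`. -/
theorem cosetAvg_irr_scalar (φ : IrrCharacter N) :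
    ∃ r : ℂ, (r = 0 ∨ r = 1) ∧
      ∀ n : N, (Nat.card K : ℂ)⁻¹ * ∑ k : K, (φ : N → ℂ) ((k : N) * n) = r * (φ : N → ℂ) n := by
  have hKc : (Nat.card K : ℂ) ≠ 0 := Cfsg.Agent.Lib.Helper83.card_ne_zero_complex
  have hd : (φ : N → ℂ) 1 ≠ 0 := Cfsg.Agent.Lib.Helper83.irr_degree_ne_zero φ
  set r : ℂ := (∑ k : K, (φ : N → ℂ) k) / ((Nat.card K : ℂ) * (φ : N → ℂ) 1) with hr
  have hform : ∀ n : N, (Nat.card K : ℂ)⁻¹ * ∑ k : K, (φ : N → ℂ) ((k : N) * n)
      = r * (φ : N → ℂ) n := by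
    intro n
    rw [sum_coset_irr K φ n, hr]
    field_simp
  refine ⟨r, ?_, hform⟩
  by_cases h0 : r = 0
  · exact Or.inl h0
  right
  -- φ is constant on K
  have hconst : ∀ k₀ : K, (φ : N → ℂ) (k₀ : N) = (φ : N → ℂ) 1 := by
    intro k₀
    have h1 := hform (k₀ : N)
    have h2 := hform 1
    have h3 : ∑ k : K, (φ : N → ℂ) ((k : N) * (k₀ : N)) = ∑ k : K, (φ : N → ℂ) ((k : N) * 1) := by
      rw [← Equiv.sum_comp (Equiv.mulRight k₀) (fun k : K => (φ : N → ℂ) ((k : N) * 1))]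
      apply Finset.sum_congr rfl
      intro k _
      simp
    rw [h3, h2] at h1
    exact (mul_left_cancel₀ h0 h1).symm
  rw [hr]
  rw [Finset.sum_congr rfl (fun (k : K) _ => hconst k), Finset.sum_const, Finset.card_univ,
    nsmul_eq_mul, ← Nat.card_eq_fintype_card]
  field_simp

/-- If a character `θ` of `N` is not constant on the normal subgroup `K`, then the part of `θ`
that is "orthogonal to the `K`-fixed points" has norm at least one. -/
theorem card_le_sum_normSq_sub_cosetAvg {θ : N → ℂ} (hθ : IsCharacter N θ)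
    (hk : ∃ k ∈ K, θ k ≠ θ 1) :
    (Nat.card N : ℝ) ≤ ∑ n : N, Complex.normSq
      (θ n - (Nat.card K : ℂ)⁻¹ * ∑ k : K, θ ((k : N) * n)) := by
  classical
  have : Fintype (IrrCharacter N) := Fintype.ofFinite _
  have hKc : (Nat.card K : ℂ) ≠ 0 := Cfsg.Agent.Lib.Helper83.card_ne_zero_complex
  have hNc : (Nat.card N : ℂ) ≠ 0 := Cfsg.Agent.Lib.Helper83.card_ne_zero_complex
  choose r hr01 hr using cosetAvg_irr_scalar K
  set a : IrrCharacter N → ℕ := fun φ => Cfsg.Agent.Lib.Helper83.irrMult θ φ with ha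
  have hdec : θ = ∑ φ : IrrCharacter N, (a φ : ℂ) • (φ : N → ℂ) :=
    Cfsg.Agent.Lib.Helper83.char_eq_sum_irrMult hθ
  set P : N → ℂ := fun n => (Nat.card K : ℂ)⁻¹ * ∑ k : K, θ ((k : N) * n) with hP
  have hPdec : P = ∑ φ : IrrCharacter N, ((a φ : ℂ) * r φ) • (φ : N → ℂ) := by
    funext n
    have h1 : ∀ x : N, θ x = ∑ φ : IrrCharacter N, (a φ : ℂ) * (φ : N → ℂ) x := by
      intro x
      conv_lhs => rw [hdec]
      simp [Finset.sum_apply]
    simp only [hP, Finset.sum_apply, Pi.smul_apply, smul_eq_mul]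
    simp only [h1]
    rw [Finset.sum_comm, Finset.mul_sum]
    apply Finset.sum_congr rfl
    intro φ _
    rw [← Finset.mul_sum, mul_left_comm, hr φ n, mul_assoc]
  set ξ : N → ℂ := fun n => θ n - P n with hξ
  have hξdec : ξ = ∑ φ : IrrCharacter N, ((a φ : ℂ) * (1 - r φ)) • (φ : N → ℂ) := by
    funext n
    have h1 := congrFun hdec n
    have h2 := congrFun hPdec n
    simp only [Finset.sum_apply, Pi.smul_apply, smul_eq_mul] at h1 h2 ⊢
    simp only [hξ]
    rw [h1, h2, ← Finset.sum_sub_distrib]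
    apply Finset.sum_congr rfl
    intro φ _
    ring
  -- P is constant on K-cosets, in particular P k = P 1
  have hPK : ∀ k₀ : K, P (k₀ : N) = P 1 := by
    intro k₀
    simp only [hP]
    congr 1
    rw [← Equiv.sum_comp (Equiv.mulRight k₀) (fun k : K => θ ((k : N) * 1))]
    apply Finset.sum_congr rfl
    intro k _
    simp
  -- some coefficient of ξ is nonzero
  have hex : ∃ φ : IrrCharacter N, (a φ : ℂ) * (1 - r φ) ≠ 0 := by
    by_contra hcon
    push Not at hcon
    have hξ0 : ∀ n : N, ξ n = 0 := by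
      intro n
      rw [hξdec]
      simp [Finset.sum_apply, hcon]
    obtain ⟨k, hkK, hkne⟩ := hk
    apply hkne
    have e1 : θ k = P k := by
      have := hξ0 k
      simp only [hξ] at this
      exact sub_eq_zero.1 this
    have e2 : θ 1 = P 1 := by
      have := hξ0 1
      simp only [hξ] at this
      exact sub_eq_zero.1 this
    rw [e1, e2]
    exact hPK ⟨k, hkK⟩
  obtain ⟨φ₀, hφ₀⟩ := hex
  -- norm of ξ
  have hnorm : classInner ξ ξ = ∑ φ : IrrCharacter N,
      ((a φ : ℂ) * (1 - r φ)) * conj ((a φ : ℂ) * (1 - r φ)) := by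
    rw [hξdec]
    exact Cfsg.Agent.Lib.Helper83.classInner_sum_irr_self _
  have hnorm2 : (∑ n : N, Complex.normSq (ξ n) : ℝ) = (Nat.card N : ℝ) *
      ∑ φ : IrrCharacter N, Complex.normSq ((a φ : ℂ) * (1 - r φ)) := by
    rw [Cfsg.Agent.Lib.Helper83.classInner_def] at hnorm
    simp only [Complex.mul_conj] at hnorm
    rw [← Complex.ofReal_sum, ← Complex.ofReal_sum] at hnorm
    have h2 : ((∑ n : N, Complex.normSq (ξ n) : ℝ) : ℂ) = (Nat.card N : ℂ) *
        ((∑ φ : IrrCharacter N, Complex.normSq ((a φ : ℂ) * (1 - r φ)) : ℝ) : ℂ) := by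
      rw [← hnorm]
      field_simp
    exact_mod_cast h2
  have hterm : (1 : ℝ) ≤ Complex.normSq ((a φ₀ : ℂ) * (1 - r φ₀)) := by
    have hr0 : r φ₀ = 0 := by
      rcases hr01 φ₀ with h | h
      · exact h
      · exfalso; apply hφ₀; rw [h]; ring
    have ha0 : a φ₀ ≠ 0 := by
      intro h
      apply hφ₀
      rw [h]; simp
    rw [hr0, sub_zero, mul_one, Complex.normSq_natCast]
    have : (1 : ℝ) ≤ (a φ₀ : ℝ) := by exact_mod_cast Nat.one_le_iff_ne_zero.2 ha0
    nlinarith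
  have hsum : (1 : ℝ) ≤ ∑ φ : IrrCharacter N, Complex.normSq ((a φ : ℂ) * (1 - r φ)) := by
    calc (1 : ℝ) ≤ Complex.normSq ((a φ₀ : ℂ) * (1 - r φ₀)) := hterm
      _ ≤ ∑ φ : IrrCharacter N, Complex.normSq ((a φ : ℂ) * (1 - r φ)) :=
        Finset.single_le_sum (f := fun φ => Complex.normSq ((a φ : ℂ) * (1 - r φ)))
          (fun φ _ => Complex.normSq_nonneg _) (Finset.mem_univ φ₀)
  change (Nat.card N : ℝ) ≤ ∑ n : N, Complex.normSq (ξ n)
  rw [hnorm2]
  have hNpos : (0 : ℝ) < (Nat.card N : ℝ) := by exact_mod_cast Nat.card_pos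
  nlinarith

end FTBoundA

end Cfsg.Agent.Lib.Helper84
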