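import Mathlib
import Cfsg.Agent.Lib.Helper84.FTBoundA
import Cfsg.Agent.Lib.Helper83.Abelian

set_option autoImplicit false

namespace Cfsg.Agent.Lib.Helper84

open Cfsg
open scoped ComplexConjugate

section FTBoundB

universe u

variable {G : Type u} [Group G] (H : Subgroup G)

/-- average of `χ` over the coset `H g`. -/
noncomputable def ftAvg [Fintype H] (χ : G → ℂ) (g : G) : ℂ :=
  (Nat.card H : ℂ)⁻¹ * ∑ h : H, χ ((h : G) * g)

/-- the elements commuting with a nontrivial element of `H`. -/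
def ftSet : Set G := {g | ∃ k ∈ H, k ≠ 1 ∧ k * g = g * k}

theorem ftAvg_mul_left [Fintype H] (χ : G → ℂ) (h₀ : H) (g : G) :
    ftAvg H χ ((h₀ : G) * g) = ftAvg H χ g := by
  unfold ftAvg
  congr 1
  rw [← Equiv.sum_comp (Equiv.mulRight h₀) (fun h : H => χ ((h : G) * g))]
  apply Finset.sum_congr rfl
  intro h _
  simp [mul_assoc]

theorem ftSet_mul_left (hab : ∀ a ∈ H, ∀ b ∈ H, a * b = b * a) {h₀ : G} (hh : h₀ ∈ H) (g : G) :
    h₀ * g ∈ ftSet H ↔ g ∈ ftSet H := by
  constructor
  · rintro ⟨k, hk, hk1, hc⟩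
    refine ⟨k, hk, hk1, ?_⟩
    have h1 := hab k hk h₀ hh
    have h2 : h₀ * (k * g) = h₀ * (g * k) := by
      calc h₀ * (k * g) = (h₀ * k) * g := (mul_assoc _ _ _).symm
        _ = (k * h₀) * g := by rw [h1]
        _ = k * (h₀ * g) := mul_assoc _ _ _
        _ = h₀ * g * k := hc
        _ = h₀ * (g * k) := mul_assoc _ _ _
    exact mul_left_cancel h2
  · rintro ⟨k, hk, hk1, hc⟩
    refine ⟨k, hk, hk1, ?_⟩
    calc k * (h₀ * g) = (k * h₀) * g := (mul_assoc _ _ _).symm
      _ = (h₀ * k) * g := by rw [hab k hk h₀ hh]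
      _ = h₀ * (k * g) := mul_assoc _ _ _
      _ = h₀ * (g * k) := by rw [hc]
      _ = h₀ * g * k := (mul_assoc _ _ _).symm

/-- the main use of the centralizer hypothesis. -/
theorem ft_key
    (hone : ∀ g : G, g ∉ Subgroup.center G → ∀ a b : G,
      Subgroup.centralizer ({g} : Set G) ⊓ H.map (MulAut.conj a).toMonoidHom ≠ ⊥ →
      Subgroup.centralizer ({g} : Set G) ⊓ H.map (MulAut.conj b).toMonoidHom ≠ ⊥ →
      H.map (MulAut.conj a).toMonoidHom = H.map (MulAut.conj b).toMonoidHom)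
    {y : G} (hy : y ∉ Subgroup.center G) {a b k k' : G} (hk : k ∈ H) (hk1 : k ≠ 1)
    (hc : (a * k * a⁻¹) * y = y * (a * k * a⁻¹)) (hk' : k' ∈ H) (hk1' : k' ≠ 1)
    (hc' : (b * k' * b⁻¹) * y = y * (b * k' * b⁻¹)) : a⁻¹ * b ∈ Subgroup.normalizer (H : Set G) := by
  have aux : ∀ (c l : G), l ∈ H → l ≠ 1 → (c * l * c⁻¹) * y = y * (c * l * c⁻¹) →
      Subgroup.centralizer ({y} : Set G) ⊓ H.map (MulAut.conj c).toMonoidHom ≠ ⊥ := by
    intro c l hl hl1 hcl hbot
    have hm : c * l * c⁻¹ ∈ Subgroup.centralizer ({y} : Set G) ⊓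
        H.map (MulAut.conj c).toMonoidHom := by
      refine ⟨?_, ⟨l, hl, by simp [MulAut.conj_apply]⟩⟩
      exact Subgroup.mem_centralizer_singleton_iff.2 hcl
    rw [hbot, Subgroup.mem_bot] at hm
    apply hl1
    have : l = c⁻¹ * (c * l * c⁻¹) * c := by group
    rw [this, hm]; group
  have heq := hone y hy a b (aux a k hk hk1 hc) (aux b k' hk' hk1' hc')
  rw [Subgroup.mem_normalizer_iff]
  intro h
  constructor
  · intro hh
    have h1 : b * h * b⁻¹ ∈ H.map (MulAut.conj b).toMonoidHom :=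
      ⟨h, hh, by simp [MulAut.conj_apply]⟩
    rw [← heq] at h1
    obtain ⟨h', hh', e⟩ := h1
    have e' : a * h' * a⁻¹ = b * h * b⁻¹ := by simpa [MulAut.conj_apply] using e
    have : a⁻¹ * b * h * (a⁻¹ * b)⁻¹ = h' := by
      calc a⁻¹ * b * h * (a⁻¹ * b)⁻¹ = a⁻¹ * (b * h * b⁻¹) * a := by group
        _ = a⁻¹ * (a * h' * a⁻¹) * a := by rw [e']
        _ = h' := by group
    rw [this]; exact hh'
  · intro hh
    have h1 : a * (a⁻¹ * b * h * (a⁻¹ * b)⁻¹) * a⁻¹ ∈ H.map (MulAut.conj a).toMonoidHom :=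
      ⟨_, hh, by simp [MulAut.conj_apply]⟩
    rw [heq] at h1
    obtain ⟨h'', hh'', e⟩ := h1
    have e' : b * h'' * b⁻¹ = a * (a⁻¹ * b * h * (a⁻¹ * b)⁻¹) * a⁻¹ := by
      simpa [MulAut.conj_apply] using e
    have : h = h'' := by
      have e2 : b * h'' * b⁻¹ = b * h * b⁻¹ := by rw [e']; group
      exact (mul_left_cancel (mul_right_cancel e2)).symm
    rw [this]; exact hh''

theorem ftSet_subset_normalizer
    (hone : ∀ g : G, g ∉ Subgroup.center G → ∀ a b : G,
      Subgroup.centralizer ({g} : Set G) ⊓ H.map (MulAut.conj a).toMonoidHom ≠ ⊥ →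
      Subgroup.centralizer ({g} : Set G) ⊓ H.map (MulAut.conj b).toMonoidHom ≠ ⊥ →
      H.map (MulAut.conj a).toMonoidHom = H.map (MulAut.conj b).toMonoidHom)
    {g : G} (hg : g ∈ ftSet H) : g ∈ Subgroup.normalizer (H : Set G) := by
  by_cases hgc : g ∈ Subgroup.center G
  · rw [Subgroup.mem_normalizer_iff]
    intro h
    have : g * h * g⁻¹ = h := by
      have := Subgroup.mem_center_iff.1 hgc h
      rw [← this]; group
    rw [this]
  · obtain ⟨k, hk, hk1, hc⟩ := hg
    have h1 : (1 * k * 1⁻¹) * g = g * (1 * k * 1⁻¹) := by simpa using hc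
    have h2 : (g * k * g⁻¹) * g = g * (g * k * g⁻¹) := by
      calc (g * k * g⁻¹) * g = g * k := by group
        _ = g * (k * g) * g⁻¹ := by group
        _ = g * (g * k) * g⁻¹ := by rw [hc]
        _ = g * (g * k * g⁻¹) := by group
    have := ft_key H hone hgc hk hk1 h1 hk hk1 h2
    simpa using this

/-- on a coset of an element of the normalizer outside `ftSet`, a class function is constant. -/
theorem ft_const_coset [Finite H] {χ : G → ℂ} (hχ : IsClassFunction G χ) {g : G}
    (hgN : g ∈ Subgroup.normalizer (H : Set G)) (hgA : g ∉ ftSet H) (h : H) : χ ((h : G) * g) = χ g := by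
  let f : H → H := fun k => ⟨(k : G) * (g * (k : G)⁻¹ * g⁻¹),
    H.mul_mem k.2 ((Subgroup.mem_normalizer_iff.1 hgN _).1 (H.inv_mem k.2))⟩
  have hinj : Function.Injective f := by
    intro k k' hkk
    have e : (k : G) * (g * (k : G)⁻¹ * g⁻¹) = (k' : G) * (g * (k' : G)⁻¹ * g⁻¹) :=
      congrArg Subtype.val hkk
    by_contra hne
    apply hgA
    refine ⟨(k' : G)⁻¹ * k, H.mul_mem (H.inv_mem k'.2) k.2, ?_, ?_⟩
    · intro h1
      apply hne
      apply Subtype.ext
      have : (k : G) = k' * ((k' : G)⁻¹ * k) := by group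
      rw [this, h1, mul_one]
    · have e2 : (k : G) * g * (k : G)⁻¹ = (k' : G) * g * (k' : G)⁻¹ := by
        have := congrArg (fun t => t * g) e
        calc (k : G) * g * (k : G)⁻¹ = (k : G) * (g * (k : G)⁻¹ * g⁻¹) * g := by group
          _ = (k' : G) * (g * (k' : G)⁻¹ * g⁻¹) * g := this
          _ = (k' : G) * g * (k' : G)⁻¹ := by group
      calc (k' : G)⁻¹ * k * g = (k' : G)⁻¹ * ((k : G) * g * (k : G)⁻¹) * k := by group
        _ = (k' : G)⁻¹ * ((k' : G) * g * (k' : G)⁻¹) * k := by rw [e2]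
        _ = g * ((k' : G)⁻¹ * k) := by group
  obtain ⟨k, hk⟩ := (Finite.injective_iff_surjective.1 hinj) h
  have e : (h : G) = (k : G) * (g * (k : G)⁻¹ * g⁻¹) := (congrArg Subtype.val hk).symm
  have : (h : G) * g = (k : G) * g * (k : G)⁻¹ := by rw [e]; group
  rw [this]
  exact hχ g k

/-- an irreducible character is multiplicative up to the degree against central elements. -/
theorem irr_mul_central [Fintype G] (χ : IrrCharacter G) {z : G} (hz : z ∈ Subgroup.center G)
    (g : G) : (χ : G → ℂ) (g * z) = (χ : G → ℂ) g * (χ : G → ℂ) z / (χ : G → ℂ) 1 := by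
  classical
  have hc : IsClassFunction G (fun x : G => if x = z then (1 : ℂ) else 0) := by
    intro x y
    have : y * x * y⁻¹ = z ↔ x = z := by
      constructor
      · intro h
        have h1 : x = y⁻¹ * (y * x * y⁻¹) * y := by group
        rw [h1, h]
        have := Subgroup.mem_center_iff.1 hz y
        calc y⁻¹ * z * y = y⁻¹ * (z * y) := by group
          _ = y⁻¹ * (y * z) := by rw [this]
          _ = z := by group
      · intro h
        rw [h]
        have := Subgroup.mem_center_iff.1 hz y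
        rw [this]; group
    simp only [this]
  have := Cfsg.Agent.Lib.Helper83.irr_sum_classFunction_mul χ hc g
  simpa using this

end FTBoundB

end Cfsg.Agent.Lib.Helper84
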