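import Mathlib
import Cfsg.Agent.Lib.Helper84.FTBoundB

set_option autoImplicit false

namespace Cfsg.Agent.Lib.Helper84

open Cfsg
open scoped ComplexConjugate

section FTBoundC

universe u

open Classical

variable {G : Type u} [Group G] [Fintype G] (H : Subgroup G)

/-- TI-type count: a non-central element has at most `|N_G(H)|` conjugators into `ftSet H`. -/
theorem ft_card_le
    (hone : ∀ g : G, g ∉ Subgroup.center G → ∀ a b : G,
      Subgroup.centralizer ({g} : Set G) ⊓ H.map (MulAut.conj a).toMonoidHom ≠ ⊥ →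
      Subgroup.centralizer ({g} : Set G) ⊓ H.map (MulAut.conj b).toMonoidHom ≠ ⊥ →
      H.map (MulAut.conj a).toMonoidHom = H.map (MulAut.conj b).toMonoidHom)
    {y : G} (hy : y ∉ Subgroup.center G) :
    (Finset.univ.filter (fun x : G => x⁻¹ * y * x ∈ ftSet H)).card ≤
      Nat.card (Subgroup.normalizer (H : Set G)) := by
  by_cases hne : (Finset.univ.filter (fun x : G => x⁻¹ * y * x ∈ ftSet H)).Nonempty
  · obtain ⟨x₀, hx₀⟩ := hne
    rw [Finset.mem_filter] at hx₀
    obtain ⟨k, hk, hk1, hc⟩ := hx₀.2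
    have hcard : Nat.card (Subgroup.normalizer (H : Set G)) =
        (Finset.univ.filter (fun x : G => x ∈ Subgroup.normalizer (H : Set G))).card := by
      rw [Nat.card_eq_fintype_card, Fintype.card_subtype]
    rw [hcard]
    have conv : ∀ (x l : G), l * (x⁻¹ * y * x) = (x⁻¹ * y * x) * l →
        (x * l * x⁻¹) * y = y * (x * l * x⁻¹) := by
      intro x l hl
      calc x * l * x⁻¹ * y = x * (l * (x⁻¹ * y * x)) * x⁻¹ := by group
        _ = x * ((x⁻¹ * y * x) * l) * x⁻¹ := by rw [hl]
        _ = y * (x * l * x⁻¹) := by group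
    apply Finset.card_le_card_of_injOn (fun x => x₀⁻¹ * x)
    · intro x hx
      rw [Finset.mem_coe, Finset.mem_filter] at hx
      obtain ⟨k', hk', hk1', hc'⟩ := hx.2
      rw [Finset.mem_coe, Finset.mem_filter]
      exact ⟨Finset.mem_univ _, ft_key H hone hy hk hk1 (conv x₀ k hc) hk' hk1' (conv x k' hc')⟩
    · intro x _ x' _ h
      exact mul_left_cancel h
  · rw [Finset.not_nonempty_iff_eq_empty] at hne
    rw [hne]; simp

variable [Fintype H]

/-- averaging over left `H`-cosets inside `ftSet H`. -/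
theorem ft_sum_avg (hab : ∀ a ∈ H, ∀ b ∈ H, a * b = b * a) (F : G → ℝ) :
    ∑ g : G, (if g ∈ ftSet H then F g else 0) =
      (Nat.card H : ℝ)⁻¹ *
        ∑ g : G, (if g ∈ ftSet H then ∑ h : H, F ((h : G) * g) else 0) := by
  have h1 : ∀ h : H, ∑ g : G, (if g ∈ ftSet H then F ((h : G) * g) else 0) =
      ∑ g : G, (if g ∈ ftSet H then F g else 0) := by
    intro h
    rw [← Equiv.sum_comp (Equiv.mulLeft (h : G)) (fun g => if g ∈ ftSet H then F g else 0)]
    apply Finset.sum_congr rfl
    intro g _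
    change (if g ∈ ftSet H then F ((h : G) * g) else 0) =
      (if (h : G) * g ∈ ftSet H then F ((h : G) * g) else 0)
    by_cases hg : g ∈ ftSet H
    · rw [if_pos hg, if_pos ((ftSet_mul_left H hab h.2 g).2 hg)]
    · rw [if_neg hg, if_neg (fun hc => hg ((ftSet_mul_left H hab h.2 g).1 hc))]
  have h2 : ∑ g : G, (if g ∈ ftSet H then ∑ h : H, F ((h : G) * g) else 0) =
      ∑ h : H, ∑ g : G, (if g ∈ ftSet H then F ((h : G) * g) else 0) := by
    rw [Finset.sum_comm]
    apply Finset.sum_congr rfl
    intro g _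
    split_ifs <;> simp
  rw [h2, Finset.sum_congr rfl (fun h _ => h1 h), Finset.sum_const, Finset.card_univ,
    nsmul_eq_mul, ← Nat.card_eq_fintype_card]
  have : (Nat.card H : ℝ) ≠ 0 := by
    have : 0 < Nat.card H := Nat.card_pos
    positivity
  field_simp

omit [Fintype G] in
/-- variance identity. -/
theorem sum_normSq_eq_var {ι : Type*} [Fintype ι] (x : ι → ℂ) (m : ℂ)
    (hm : ∑ i, x i = (Fintype.card ι : ℂ) * m) :
    ∑ i, Complex.normSq (x i) =
      (Fintype.card ι : ℝ) * Complex.normSq m + ∑ i, Complex.normSq (x i - m) := by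
  have h1 : ∀ i, Complex.normSq (x i) =
      Complex.normSq m + Complex.normSq (x i - m) + 2 * (m * conj (x i - m)).re := by
    intro i
    have := Complex.normSq_add m (x i - m)
    rw [add_sub_cancel] at this
    exact this
  rw [Finset.sum_congr rfl (fun i _ => h1 i)]
  rw [Finset.sum_add_distrib, Finset.sum_add_distrib, Finset.sum_const, Finset.card_univ,
    nsmul_eq_mul]
  have h2 : ∑ i, 2 * (m * conj (x i - m)).re = 0 := by
    rw [← Finset.mul_sum, ← Complex.re_sum, ← Finset.mul_sum, ← map_sum, Finset.sum_sub_distrib,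
      hm, Finset.sum_const, Finset.card_univ, nsmul_eq_mul, sub_self, map_zero, mul_zero,
      Complex.zero_re, mul_zero]
  rw [h2, add_zero]

end FTBoundC

end Cfsg.Agent.Lib.Helper84
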