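import Mathlib
import Cfsg.Agent.Lib.Helper84.FTBoundC

set_option autoImplicit false

namespace Cfsg.Agent.Lib.Helper84

open Cfsg
open scoped ComplexConjugate

section FTBoundD

universe u

open Classical

variable {G : Type u} [Group G] [Fintype G] (H : Subgroup G) [Fintype H]

omit [Fintype H] in
/-- TI count, summed. -/
theorem ft_TI_sum
    (hone : ∀ g : G, g ∉ Subgroup.center G → ∀ a b : G,
      Subgroup.centralizer ({g} : Set G) ⊓ H.map (MulAut.conj a).toMonoidHom ≠ ⊥ →
      Subgroup.centralizer ({g} : Set G) ⊓ H.map (MulAut.conj b).toMonoidHom ≠ ⊥ →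
      H.map (MulAut.conj a).toMonoidHom = H.map (MulAut.conj b).toMonoidHom)
    (F : G → ℝ) (hF0 : ∀ g, 0 ≤ F g) (hFc : ∀ g x : G, F (x⁻¹ * g * x) = F g) :
    (Nat.card G : ℝ) * ∑ g : G, (if g ∈ ftSet H ∧ g ∉ Subgroup.center G then F g else 0) ≤
      (Nat.card (Subgroup.normalizer (H : Set G)) : ℝ) *
        (∑ g : G, F g - ∑ g : G, (if g ∈ Subgroup.center G then F g else 0)) := by
  have hcen : ∀ x y : G, x⁻¹ * y * x ∈ Subgroup.center G ↔ y ∈ Subgroup.center G := by
    intro x y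
    constructor
    · intro h
      have h1 := Subgroup.mem_center_iff.1 h x
      have : y = x⁻¹ * y * x := by
        calc y = x * (x⁻¹ * y * x) * x⁻¹ := by group
          _ = (x⁻¹ * y * x) * x * x⁻¹ := by rw [h1]
          _ = x⁻¹ * y * x := by group
      rw [this]; exact h
    · intro h
      have h1 := Subgroup.mem_center_iff.1 h x
      have : x⁻¹ * y * x = y := by
        calc x⁻¹ * y * x = x⁻¹ * (y * x) := by group
          _ = x⁻¹ * (x * y) := by rw [← h1]
          _ = y := by group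
      rw [this]; exact h
  have e1 : ∀ x : G, ∑ g : G, (if g ∈ ftSet H ∧ g ∉ Subgroup.center G then F g else 0) =
      ∑ y : G, (if x⁻¹ * y * x ∈ ftSet H ∧ y ∉ Subgroup.center G then F y else 0) := by
    intro x
    rw [← Equiv.sum_comp (MulAut.conj x⁻¹).toEquiv
      (fun g => if g ∈ ftSet H ∧ g ∉ Subgroup.center G then F g else 0)]
    apply Finset.sum_congr rfl
    intro y _
    change (if x⁻¹ * y * x⁻¹⁻¹ ∈ ftSet H ∧ x⁻¹ * y * x⁻¹⁻¹ ∉ Subgroup.center G
      then F (x⁻¹ * y * x⁻¹⁻¹) else 0) = _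
    rw [inv_inv, hFc y x]
    by_cases hy : y ∈ Subgroup.center G
    · rw [if_neg (fun h => h.2 ((hcen x y).2 hy)), if_neg (fun h => h.2 hy)]
    · by_cases hA : x⁻¹ * y * x ∈ ftSet H
      · rw [if_pos ⟨hA, fun h => hy ((hcen x y).1 h)⟩, if_pos ⟨hA, hy⟩]
      · rw [if_neg (fun h => hA h.1), if_neg (fun h => hA h.1)]
  have e2 : (Nat.card G : ℝ) * ∑ g : G, (if g ∈ ftSet H ∧ g ∉ Subgroup.center G then F g else 0)
      = ∑ y : G, ∑ x : G,
          (if x⁻¹ * y * x ∈ ftSet H ∧ y ∉ Subgroup.center G then F y else 0) := by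
    rw [Finset.sum_comm, ← Finset.sum_congr rfl (fun x _ => e1 x), Finset.sum_const,
      Finset.card_univ, nsmul_eq_mul, Nat.card_eq_fintype_card]
  rw [e2, ← Finset.sum_sub_distrib, Finset.mul_sum]
  apply Finset.sum_le_sum
  intro y _
  by_cases hy : y ∈ Subgroup.center G
  · rw [if_pos hy, sub_self, mul_zero]
    apply le_of_eq
    apply Finset.sum_eq_zero
    intro x _
    rw [if_neg (fun h => h.2 hy)]
  · rw [if_neg hy, sub_zero]
    have h1 : ∀ x : G, (if x⁻¹ * y * x ∈ ftSet H ∧ y ∉ Subgroup.center G then F y else 0) =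
        F y * (if x⁻¹ * y * x ∈ ftSet H then 1 else 0) := by
      intro x
      by_cases hA : x⁻¹ * y * x ∈ ftSet H
      · rw [if_pos ⟨hA, hy⟩, if_pos hA, mul_one]
      · rw [if_neg (fun h => hA h.1), if_neg hA, mul_zero]
    rw [Finset.sum_congr rfl (fun x _ => h1 x), ← Finset.mul_sum, Finset.sum_boole, mul_comm]
    apply mul_le_mul_of_nonneg_right _ (hF0 y)
    exact_mod_cast ft_card_le H hone hy

/-- `∑_{ftSet} |χ - Pχ|² ≥ |N_G(H)|`. -/
theorem ft_xi_bound
    (hone : ∀ g : G, g ∉ Subgroup.center G → ∀ a b : G,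
      Subgroup.centralizer ({g} : Set G) ⊓ H.map (MulAut.conj a).toMonoidHom ≠ ⊥ →
      Subgroup.centralizer ({g} : Set G) ⊓ H.map (MulAut.conj b).toMonoidHom ≠ ⊥ →
      H.map (MulAut.conj a).toMonoidHom = H.map (MulAut.conj b).toMonoidHom)
    {ψ : G → ℂ} (hψ : IsCharacter G ψ) (hker : ∃ h ∈ H, ψ h ≠ ψ 1) :
    (Nat.card (Subgroup.normalizer (H : Set G)) : ℝ) ≤
      ∑ g : G, (if g ∈ ftSet H then Complex.normSq (ψ g - ftAvg H ψ g) else 0) := by
  set N := Subgroup.normalizer (H : Set G) with hN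
  have hcf : IsClassFunction G ψ := Cfsg.Agent.Lib.Helper83.char_isClassFunction hψ
  haveI : Fintype N := Fintype.ofFinite _
  haveI : (H.subgroupOf N).Normal := Subgroup.normal_in_normalizer
  haveI : Fintype (H.subgroupOf N) := Fintype.ofFinite _
  have hθ : IsCharacter N (fun n : N => ψ n) := Cfsg.Agent.Lib.Helper83.isCharacter_restrict N hψ
  have hk : ∃ k ∈ H.subgroupOf N, (fun n : N => ψ n) k ≠ (fun n : N => ψ n) 1 := by
    obtain ⟨h, hh, hne⟩ := hker
    exact ⟨⟨h, Subgroup.le_normalizer hh⟩, Subgroup.mem_subgroupOf.2 hh, hne⟩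
  have hA := card_le_sum_normSq_sub_cosetAvg (H.subgroupOf N) hθ hk
  have hconv : ∀ n : N, (Nat.card (H.subgroupOf N) : ℂ)⁻¹ *
      ∑ k : H.subgroupOf N, (fun n : N => ψ n) ((k : N) * n) = ftAvg H ψ (n : G) := by
    intro n
    unfold ftAvg
    have e := Subgroup.subgroupOfEquivOfLe (Subgroup.le_normalizer (H := H))
    rw [Nat.card_congr (Subgroup.subgroupOfEquivOfLe (Subgroup.le_normalizer (H := H))).toEquiv]
    congr 1
    rw [← Equiv.sum_comp (Subgroup.subgroupOfEquivOfLe (Subgroup.le_normalizer (H := H))).toEquiv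
      (fun h : H => ψ ((h : G) * n))]
    apply Finset.sum_congr rfl
    intro k _
    simp only [MulEquiv.toEquiv_eq_coe, EquivLike.coe_coe,
      Subgroup.subgroupOfEquivOfLe_apply_coe, Subgroup.coe_mul]
  simp only [hconv] at hA
  rw [Cfsg.Agent.Lib.Helper83.sum_subgroup_eq_sum_ite' N
    (fun g : G => Complex.normSq (ψ g - ftAvg H ψ g))] at hA
  refine le_trans hA (le_of_eq ?_)
  apply Finset.sum_congr rfl
  intro g _
  by_cases hgA : g ∈ ftSet H
  · rw [if_pos hgA, if_pos (ftSet_subset_normalizer H hone hgA)]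
  · rw [if_neg hgA]
    by_cases hgN : g ∈ N
    · rw [if_pos hgN]
      have : ftAvg H ψ g = ψ g := by
        unfold ftAvg
        rw [Finset.sum_congr rfl (fun (h : H) _ => ft_const_coset H hcf hgN hgA h),
          Finset.sum_const, Finset.card_univ, nsmul_eq_mul, ← Nat.card_eq_fintype_card,
          ← mul_assoc, inv_mul_cancel₀ Cfsg.Agent.Lib.Helper83.card_ne_zero_complex, one_mul]
      rw [this, sub_self, map_zero]
    · rw [if_neg hgN]

end FTBoundD

end Cfsg.Agent.Lib.Helper84
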