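import Mathlib
import Cfsg.Agent.Lib.Helper84.FTBoundD

set_option autoImplicit false

namespace Cfsg.Agent.Lib.Helper84

open Cfsg
open scoped ComplexConjugate

section FTBoundE

universe u

open Classical

variable {G : Type u} [Group G] [Fintype G] (H : Subgroup G) [Fintype H]

/-- splitting `∑_{ftSet} |χ|²` into the coset-average part and the rest. -/
theorem ft_split (hab : ∀ a ∈ H, ∀ b ∈ H, a * b = b * a) (ψ : G → ℂ) :
    ∑ g : G, (if g ∈ ftSet H then Complex.normSq (ψ g) else 0) =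
      ∑ g : G, (if g ∈ ftSet H then Complex.normSq (ftAvg H ψ g) else 0) +
      ∑ g : G, (if g ∈ ftSet H then Complex.normSq (ψ g - ftAvg H ψ g) else 0) := by
  have hHpos : (0 : ℝ) < Nat.card H := by exact_mod_cast Nat.card_pos
  have hHc : (Nat.card H : ℂ) ≠ 0 := Cfsg.Agent.Lib.Helper83.card_ne_zero_complex
  rw [ft_sum_avg H hab (fun g => Complex.normSq (ψ g)),
    ft_sum_avg H hab (fun g => Complex.normSq (ψ g - ftAvg H ψ g))]
  have hvar : ∀ g : G, ∑ h : H, Complex.normSq (ψ ((h : G) * g)) =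
      (Nat.card H : ℝ) * Complex.normSq (ftAvg H ψ g) +
        ∑ h : H, Complex.normSq (ψ ((h : G) * g) - ftAvg H ψ ((h : G) * g)) := by
    intro g
    have hm : ∑ h : H, ψ ((h : G) * g) = (Fintype.card H : ℂ) * ftAvg H ψ g := by
      unfold ftAvg
      rw [← Nat.card_eq_fintype_card, ← mul_assoc, mul_inv_cancel₀ hHc, one_mul]
    have := sum_normSq_eq_var (fun h : H => ψ ((h : G) * g)) (ftAvg H ψ g) hm
    rw [this, ← Nat.card_eq_fintype_card]
    congr 1
    apply Finset.sum_congr rfl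
    intro h _
    rw [ftAvg_mul_left]
  have h3 : ∀ g : G, (if g ∈ ftSet H then ∑ h : H, Complex.normSq (ψ ((h : G) * g)) else 0) =
      (Nat.card H : ℝ) * (if g ∈ ftSet H then Complex.normSq (ftAvg H ψ g) else 0) +
      (if g ∈ ftSet H then
        ∑ h : H, Complex.normSq (ψ ((h : G) * g) - ftAvg H ψ ((h : G) * g)) else 0) := by
    intro g
    by_cases hg : g ∈ ftSet H
    · rw [if_pos hg, if_pos hg, if_pos hg, hvar g]
    · rw [if_neg hg, if_neg hg, if_neg hg]; ring
  rw [Finset.sum_congr rfl (fun g _ => h3 g), Finset.sum_add_distrib, ← Finset.mul_sum, mul_add,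
    ← mul_assoc, inv_mul_cancel₀ hHpos.ne', one_mul]

/-- lower bound of the coset-average part via `H × Z(G)`. -/
theorem ft_avg_bound (hab : ∀ a ∈ H, ∀ b ∈ H, a * b = b * a)
    (hZ : H ⊓ Subgroup.center G = ⊥) (χ : IrrCharacter G)
    (hH : ∃ k ∈ H, k ≠ 1) :
    (Nat.card H : ℝ) *
      (Complex.normSq (classInner (fun h : H => (χ : G → ℂ) h) (fun _ => 1)) /
        Complex.normSq ((χ : G → ℂ) 1)) *
      ∑ g : G, (if g ∈ Subgroup.center G then Complex.normSq ((χ : G → ℂ) g) else 0) ≤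
    ∑ g : G, (if g ∈ ftSet H then Complex.normSq (ftAvg H (χ : G → ℂ) g) else 0) := by
  set ψ : G → ℂ := (χ : G → ℂ) with hψ
  set c : ℂ := classInner (fun h : H => ψ h) (fun _ => 1) with hc
  have hd0 : ψ 1 ≠ 0 := Cfsg.Agent.Lib.Helper83.irr_degree_ne_zero χ
  have hHc : (Nat.card H : ℂ) ≠ 0 := Cfsg.Agent.Lib.Helper83.card_ne_zero_complex
  have : Fintype (Subgroup.center G) := Fintype.ofFinite _
  have hPz : ∀ z ∈ Subgroup.center G, ftAvg H ψ z = ψ z / ψ 1 * c := by
    intro z hz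
    simp only [ftAvg, hc, Cfsg.Agent.Lib.Helper83.classInner_def, map_one, mul_one]
    rw [Finset.sum_congr rfl (fun (h : H) _ => irr_mul_central χ hz (h : G))]
    rw [← Finset.sum_div, ← Finset.sum_mul]
    simp only [hψ]
    field_simp
  have hZA : ∀ z ∈ Subgroup.center G, z ∈ ftSet H := by
    intro z hz
    obtain ⟨k, hk, hk1⟩ := hH
    exact ⟨k, hk, hk1, Subgroup.mem_center_iff.1 hz k⟩
  -- the image of H × Z
  set T : Finset G := (Finset.univ : Finset (H × Subgroup.center G)).image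
    (fun p => (p.1 : G) * (p.2 : G)) with hT
  have hinj : Set.InjOn (fun p : H × Subgroup.center G => (p.1 : G) * (p.2 : G))
      (↑(Finset.univ : Finset (H × Subgroup.center G))) := by
    rintro ⟨h, z⟩ _ ⟨h', z'⟩ _ e
    simp only at e
    have h1 : (h' : G)⁻¹ * h = (z' : G) * (z : G)⁻¹ := by
      calc (h' : G)⁻¹ * h = (h' : G)⁻¹ * ((h : G) * z) * (z : G)⁻¹ := by group
        _ = (h' : G)⁻¹ * ((h' : G) * z') * (z : G)⁻¹ := by rw [e]
        _ = (z' : G) * (z : G)⁻¹ := by group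
    have h2 : (h' : G)⁻¹ * h ∈ H ⊓ Subgroup.center G := by
      refine ⟨H.mul_mem (H.inv_mem h'.2) h.2, ?_⟩
      rw [h1]
      exact (Subgroup.center G).mul_mem z'.2 ((Subgroup.center G).inv_mem z.2)
    rw [hZ, Subgroup.mem_bot] at h2
    have e1 : (h : G) = h' := by
      calc (h : G) = (h' : G) * ((h' : G)⁻¹ * h) := by group
        _ = h' := by rw [h2, mul_one]
    have e2 : (z : G) = z' := by
      rw [e1] at e
      exact mul_left_cancel e
    exact Prod.ext (Subtype.ext e1) (Subtype.ext e2)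
  have hsub : T ⊆ Finset.univ.filter (fun g : G => g ∈ ftSet H) := by
    intro g hg
    rw [hT, Finset.mem_image] at hg
    obtain ⟨⟨h, z⟩, _, rfl⟩ := hg
    rw [Finset.mem_filter]
    exact ⟨Finset.mem_univ _, (ftSet_mul_left H hab h.2 _).2 (hZA _ z.2)⟩
  rw [← Finset.sum_filter (fun g : G => g ∈ ftSet H)]
  refine le_trans (le_of_eq ?_) (Finset.sum_le_sum_of_subset_of_nonneg hsub
    (fun g _ _ => Complex.normSq_nonneg _))
  rw [hT, Finset.sum_image hinj, Fintype.sum_prod_type]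
  have h4 : ∀ (h : H) (z : Subgroup.center G),
      Complex.normSq (ftAvg H ψ ((h : G) * (z : G))) =
        Complex.normSq (ψ (z : G)) * (Complex.normSq c / Complex.normSq (ψ 1)) := by
    intro h z
    rw [ftAvg_mul_left, hPz _ z.2, map_mul, map_div₀]
    ring
  simp only [h4]
  have h5 : ∑ z : Subgroup.center G, Complex.normSq (ψ (z : G)) =
      ∑ g : G, (if g ∈ Subgroup.center G then Complex.normSq (ψ g) else 0) := by
    rw [Cfsg.Agent.Lib.Helper83.sum_subgroup_eq_sum_ite' (Subgroup.center G)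
      (fun g : G => Complex.normSq (ψ g))]
    apply Finset.sum_congr rfl
    intro g _
    split_ifs <;> rfl
  rw [Finset.sum_const, Finset.card_univ, nsmul_eq_mul, ← Finset.sum_mul,
    ← Nat.card_eq_fintype_card, h5]
  ring

/-- **Feit–Thompson**: `|H| ⟨χ_H, 1_H⟩² < χ(1)²`. -/
theorem ft_bound (hab : ∀ a ∈ H, ∀ b ∈ H, a * b = b * a)
    (hZ : H ⊓ Subgroup.center G = ⊥)
    (hone : ∀ g : G, g ∉ Subgroup.center G → ∀ a b : G,
      Subgroup.centralizer ({g} : Set G) ⊓ H.map (MulAut.conj a).toMonoidHom ≠ ⊥ →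
      Subgroup.centralizer ({g} : Set G) ⊓ H.map (MulAut.conj b).toMonoidHom ≠ ⊥ →
      H.map (MulAut.conj a).toMonoidHom = H.map (MulAut.conj b).toMonoidHom)
    (χ : IrrCharacter G) (hker : ∃ h ∈ H, (χ : G → ℂ) h ≠ (χ : G → ℂ) 1) :
    (Nat.card H : ℝ) * Complex.normSq (classInner (fun h : H => (χ : G → ℂ) h) (fun _ => 1))
      < Complex.normSq ((χ : G → ℂ) 1) := by
  have hψc := Cfsg.Agent.Lib.Helper83.IrrCharacter_isCharacter χ
  have hcf := Cfsg.Agent.Lib.Helper83.isClassFunction_irr χ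
  have hH : ∃ k ∈ H, k ≠ 1 := by
    obtain ⟨h, hh, hne⟩ := hker
    exact ⟨h, hh, fun e => hne (by rw [e])⟩
  have hd0 : (χ : G → ℂ) 1 ≠ 0 := Cfsg.Agent.Lib.Helper83.irr_degree_ne_zero χ
  have hdpos : 0 < Complex.normSq ((χ : G → ℂ) 1) := Complex.normSq_pos.2 hd0
  have hNpos : (0 : ℝ) < Nat.card (Subgroup.normalizer (H : Set G)) := by
    exact_mod_cast Nat.card_pos
  have hGpos : (0 : ℝ) < Nat.card G := by exact_mod_cast Nat.card_pos
  have hZA : ∀ z ∈ Subgroup.center G, z ∈ ftSet H := by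
    intro z hz
    obtain ⟨k, hk, hk1⟩ := hH
    exact ⟨k, hk, hk1, Subgroup.mem_center_iff.1 hz k⟩
  have h1 : ∑ g : G, (if g ∈ ftSet H then Complex.normSq ((χ : G → ℂ) g) else 0) =
      ∑ g : G, (if g ∈ Subgroup.center G then Complex.normSq ((χ : G → ℂ) g) else 0) +
      ∑ g : G, (if g ∈ ftSet H ∧ g ∉ Subgroup.center G
        then Complex.normSq ((χ : G → ℂ) g) else 0) := by
    rw [← Finset.sum_add_distrib]
    apply Finset.sum_congr rfl
    intro g _
    by_cases hg : g ∈ Subgroup.center G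
    · rw [if_pos (hZA g hg), if_pos hg, if_neg (fun h => h.2 hg), add_zero]
    · by_cases hA : g ∈ ftSet H
      · rw [if_pos hA, if_neg hg, if_pos ⟨hA, hg⟩, zero_add]
      · rw [if_neg hA, if_neg hg, if_neg (fun h => hA h.1), add_zero]
  have h2 := ft_TI_sum H hone (fun g => Complex.normSq ((χ : G → ℂ) g))
    (fun g => Complex.normSq_nonneg _)
    (fun g x => by
      have := hcf g x⁻¹
      rw [inv_inv] at this
      simp only [this])
  rw [Cfsg.Agent.Lib.Helper83.irr_sum_normSq χ] at h2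
  have h3 := ft_split H hab (χ : G → ℂ)
  have h4 := ft_xi_bound H hone hψc hker
  have h5 := ft_avg_bound H hab hZ χ hH
  have h6 : Complex.normSq ((χ : G → ℂ) 1) ≤
      ∑ g : G, (if g ∈ Subgroup.center G then Complex.normSq ((χ : G → ℂ) g) else 0) := by
    have := Finset.single_le_sum
      (f := fun g : G => if g ∈ Subgroup.center G then Complex.normSq ((χ : G → ℂ) g) else 0)
      (fun g _ => by
        split_ifs
        · exact Complex.normSq_nonneg _
        · exact le_refl _) (Finset.mem_univ (1 : G))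
    rw [if_pos (Subgroup.one_mem _)] at this
    exact this
  set SZ := ∑ g : G, (if g ∈ Subgroup.center G then Complex.normSq ((χ : G → ℂ) g) else 0)
    with hSZ
  set SA := ∑ g : G, (if g ∈ ftSet H then Complex.normSq ((χ : G → ℂ) g) else 0) with hSA
  set SD := ∑ g : G, (if g ∈ ftSet H ∧ g ∉ Subgroup.center G
    then Complex.normSq ((χ : G → ℂ) g) else 0) with hSD
  set SP := ∑ g : G, (if g ∈ ftSet H then Complex.normSq (ftAvg H (χ : G → ℂ) g) else 0)
    with hSP
  set SX := ∑ g : G, (if g ∈ ftSet H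
    then Complex.normSq ((χ : G → ℂ) g - ftAvg H (χ : G → ℂ) g) else 0) with hSX
  set q : ℝ := (Nat.card H : ℝ) *
    (Complex.normSq (classInner (fun h : H => (χ : G → ℂ) h) (fun _ => 1)) /
      Complex.normSq ((χ : G → ℂ) 1)) with hq
  have hSZpos : 0 < SZ := lt_of_lt_of_le hdpos h6
  have hq1 : q < 1 := by
    by_contra hcon
    have hcon' : 1 ≤ q := not_lt.1 hcon
    have e1 : SZ ≤ q * SZ := by nlinarith
    have e2 : (Nat.card (Subgroup.normalizer (H : Set G)) : ℝ) ≤ SD := by linarith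
    have e3 : (Nat.card G : ℝ) * (Nat.card (Subgroup.normalizer (H : Set G)) : ℝ) ≤
        (Nat.card G : ℝ) * SD := mul_le_mul_of_nonneg_left e2 hGpos.le
    nlinarith
  rw [hq, ← mul_div_assoc, div_lt_one hdpos] at hq1
  exact hq1

end FTBoundE

end Cfsg.Agent.Lib.Helper84
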