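/-
K-SQ pack (S4625, architect helper38), shared part of the two PSU leaves 462503 / 462504 (helper84):
the 2-part of `|SU_n(q)|` (`q` even) from S0278, and the passage `Unip2 (SU n F q) (q^(n(n-1)/2)) → SylSq (PSU n F q)`.
-/
import Mathlib
import Cfsg.Agent.Lib.Helper38.SQ.Defs
import Cfsg.Agent.S0278

set_option autoImplicit false
set_option linter.unusedVariables false

namespace Cfsg.Agent.Lib.Helper84.SQ

open Cfsg Cfsg.Agent.Lib.Helper38.SQ

/-- `|F| = q^2`, characteristic two: `q` is a power of two. -/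
theorem exists_two_pow_of_card_sq (F : Type) [Field F] [Fintype F] [CharP F 2] (q : ℕ)
    (hF : Fintype.card F = q ^ 2) : ∃ e : ℕ, q = 2 ^ e := by
  obtain ⟨f, -, hf⟩ := FiniteField.card F 2
  have hq : q ∣ 2 ^ (f : ℕ) := by
    rw [← hf, hF]
    exact dvd_pow_self q (by norm_num)
  obtain ⟨e, -, he⟩ := (Nat.dvd_prime_pow Nat.prime_two).mp hq
  exact ⟨e, he⟩

/-- `q` is even (and `1 ≤ e`). -/
theorem exists_two_pow_pos_of_card_sq (F : Type) [Field F] [Fintype F] [CharP F 2] (q : ℕ)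
    (hF : Fintype.card F = q ^ 2) : ∃ e : ℕ, 1 ≤ e ∧ q = 2 ^ e := by
  obtain ⟨e, he⟩ := exists_two_pow_of_card_sq F q hF
  refine ⟨e, ?_, he⟩
  rcases Nat.eq_zero_or_pos e with h0 | h
  · exfalso
    rw [h0, pow_zero] at he
    rw [he, one_pow] at hF
    have := Fintype.one_lt_card (α := F)
    omega
  · exact h

/-- the odd cofactor of `|GU_n(q)|` -/
theorem odd_prod_unitary (q n : ℕ) (hq : Even q) (hq0 : 0 < q) :
    Odd (∏ i ∈ Finset.range n, (if Even i then q ^ (i + 1) + 1 else q ^ (i + 1) - 1)) := by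
  apply Finset.prod_induction _ (fun x => Odd x)
  · intro a b ha hb
    exact ha.mul hb
  · exact odd_one
  · intro i _
    have hqe : Even (q ^ (i + 1)) := (Nat.even_pow.mpr ⟨hq, by omega⟩)
    have hpos : 1 ≤ q ^ (i + 1) := Nat.one_le_pow _ _ hq0
    split_ifs
    · exact hqe.add_one
    · exact Nat.Even.sub_odd hpos hqe odd_one

/-- **the 2-part of `|SU_n(q)|`, `q` even**: `|SU_n(q)| = q^(n(n-1)/2) * m` with `m` odd. -/
theorem twoPart_SU (F : Type) [Field F] [Fintype F] [CharP F 2] (n q : ℕ)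
    (hF : Fintype.card F = q ^ 2) (hn : 1 ≤ n) :
    TwoPart (Cfsg.SU n F q) (q ^ (n * (n - 1) / 2)) := by
  obtain ⟨e, he1, he⟩ := exists_two_pow_pos_of_card_sq F q hF
  have hq0 : 0 < q := by rw [he]; positivity
  have hqe : Even q := by
    rw [he]
    exact (Nat.even_pow.mpr ⟨even_two, by omega⟩)
  have hodd := odd_prod_unitary q n hqe hq0
  have h78 := Cfsg.Agent.S0278.result (F := F) hF n hn
  set PP := ∏ i ∈ Finset.range n, (if Even i then q ^ (i + 1) + 1 else q ^ (i + 1) - 1) with hPP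
  -- `q + 1 ∣ PP`
  have hcop : Nat.Coprime (q + 1) (q ^ (n * (n - 1) / 2)) := by
    apply Nat.Coprime.pow_right
    rw [Nat.coprime_self_add_left]
    exact Nat.coprime_one_left q
  have hdvd : q + 1 ∣ PP := by
    have : q + 1 ∣ q ^ (n * (n - 1) / 2) * PP := ⟨_, h78.symm⟩
    exact hcop.dvd_of_dvd_mul_left this
  obtain ⟨m, hm⟩ := hdvd
  refine ⟨m, ?_, ?_⟩
  · intro h2
    have : 2 ∣ PP := by rw [hm]; exact dvd_mul_of_dvd_right h2 _
    exact (Nat.not_even_iff_odd.mpr hodd) (even_iff_two_dvd.mpr this)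
  · have h1 : (q + 1) * Nat.card (Cfsg.SU n F q) = (q + 1) * (q ^ (n * (n - 1) / 2) * m) := by
      rw [h78, hm]; ring
    exact Nat.eq_of_mul_eq_mul_left (by omega) h1

/-- **from the heart to the leaf**: a 2-subgroup of `SU_n(q)` of order at least `q^(n(n-1)/2)` with squares in
its derived subgroup gives `SylSq (PSU n F q)`. -/
theorem sylSq_psu_of_unip2 (F : Type) [Field F] [Fintype F] [CharP F 2] (n q : ℕ)
    (hF : Fintype.card F = q ^ 2) (hn : 1 ≤ n)
    (hu : Unip2 (Cfsg.SU n F q) (q ^ (n * (n - 1) / 2))) : SylSq (Cfsg.PSU n F q) := by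
  obtain ⟨e, he⟩ := exists_two_pow_of_card_sq F q hF
  have ht := twoPart_SU F n q hF hn
  have hpow : q ^ (n * (n - 1) / 2) = 2 ^ (e * (n * (n - 1) / 2)) := by rw [he, ← pow_mul]
  rw [hpow] at hu ht
  exact SylSq.quotient _ (SylSq.of_unip_twoPart _ hu ht)

end Cfsg.Agent.Lib.Helper84.SQ
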