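/-
K-SQ pack (S4625, architect helper38), PSU leaves 462503 / 462504, sub-leaf (B) of helper53's split
(notes/SQPSU_subleaves_helper53.lean.txt): TRANSPORT of a 2-subgroup of the isometry group of an invertible
hermitian Gram matrix `J` into `Cfsg.SU n F q` (helper84).
-/
import Mathlib
import Cfsg.Agent.Lib.Helper38.SQ.Defs
import Cfsg.Prelude.Def_Classical
import Cfsg.Agent.Lib.Helper40.GUConj

set_option autoImplicit false
set_option linter.unusedVariables false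

namespace Cfsg.Agent.Lib.Helper84.SQPSU

open Cfsg Matrix Cfsg.Agent.Lib.Helper38.SQ Cfsg.Agent.Lib.Helper40.GUConj

/-- in characteristic two, an element of 2-power order of a field is `1` -/
theorem eq_one_of_pow_two_pow {F : Type} [Field F] [CharP F 2] (x : F) (j : ℕ) (h : x ^ 2 ^ j = 1) :
    x = 1 := by
  have : Fact (Nat.Prime 2) := ⟨Nat.prime_two⟩
  have h1 : (x + 1) ^ 2 ^ j = 0 := by
    rw [add_pow_char_pow, h, one_pow]
    exact CharTwo.add_self_eq_zero 1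
  have h2 : x + 1 = 0 := pow_eq_zero_iff (by positivity) |>.mp h1
  calc x = x + (1 + 1) := by rw [CharTwo.add_self_eq_zero, add_zero]
    _ = (x + 1) + 1 := by ring
    _ = 1 := by rw [h2, zero_add]

/-- **(B) TRANSPORT**, verbatim signature of `Cfsg.Agent.Lib.Helper53.SQSpec.exists_injective_to_SU`. -/
theorem exists_injective_to_SU {F : Type} [Field F] [Fintype F] [CharP F 2] {q n : ℕ}
    (hF : Fintype.card F = q ^ 2)
    {ι : Type} [Fintype ι] [DecidableEq ι] (hι : Fintype.card ι = n)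
    (φ : F →+* F) (hφ : ∀ x, φ x = x ^ q)
    (J : Matrix ι ι F) (hJ : (J.map φ).transpose = J) (hJdet : J.det ≠ 0)
    (P : Subgroup (Matrix ι ι F)ˣ) (hP : IsPGroup 2 P)
    (hPJ : ∀ g ∈ P, ((g : Matrix ι ι F).map φ).transpose * J * (g : Matrix ι ι F) = J) :
    ∃ f : ↥P →* ↥(Cfsg.SU n F q), Function.Injective f := by
  classical
  have : Fact (Nat.Prime 2) := ⟨Nat.prime_two⟩
  let e : ι ≃ Fin n := Fintype.equivFinOfCardEq hι
  let ρ : Matrix ι ι F ≃ₐ[F] Matrix (Fin n) (Fin n) F := Matrix.reindexAlgEquiv F F e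
  have hφφ : ∀ x, φ (φ x) = x := by
    intro x
    rw [hφ, hφ, ← pow_mul, ← sq, ← hF, FiniteField.pow_card]
  obtain ⟨φ', hφ', -, θ₀, hθ₀'⟩ := Cfsg.Agent.Lib.Helper40.GUConj.exists_frob hF
  have hθ₀ : φ θ₀ ≠ θ₀ := by
    rw [hφ, ← hφ']
    exact hθ₀'
  have hadjρ : ∀ M : Matrix ι ι F, adj φ (ρ M) = ρ ((M.map φ)ᵀ) := by
    intro M
    ext i j
    rfl
  have hJ' : adj φ (ρ J) = ρ J := by rw [hadjρ, hJ]
  have hJ'det : (ρ J).det ≠ 0 := by
    rw [Matrix.det_reindexAlgEquiv]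
    exact hJdet
  obtain ⟨C, hC, -⟩ := exists_sqrt φ hφφ θ₀ hθ₀ (ρ J) hJ' hJ'det
  have hCdet : C.det ≠ 0 := by
    intro h0
    apply hJ'det
    rw [← hC, Matrix.det_mul, h0, mul_zero]
  have hCu : IsUnit C.det := isUnit_iff_ne_zero.mpr hCdet
  have hCi : C * C⁻¹ = 1 := Matrix.mul_nonsing_inv C hCu
  have hiC : C⁻¹ * C = 1 := Matrix.nonsing_inv_mul C hCu
  -- the conjugated matrices
  let Ψ : Matrix ι ι F → Matrix (Fin n) (Fin n) F := fun M => C * ρ M * C⁻¹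
  have hΨmul : ∀ M N, Ψ (M * N) = Ψ M * Ψ N := by
    intro M N
    show C * ρ (M * N) * C⁻¹ = C * ρ M * C⁻¹ * (C * ρ N * C⁻¹)
    rw [map_mul]
    calc C * (ρ M * ρ N) * C⁻¹ = C * ρ M * (1 : Matrix (Fin n) (Fin n) F) * ρ N * C⁻¹ := by
          rw [Matrix.mul_one]; simp only [Matrix.mul_assoc]
      _ = C * ρ M * C⁻¹ * (C * ρ N * C⁻¹) := by rw [← hiC]; simp only [Matrix.mul_assoc]
  have hΨone : Ψ 1 = 1 := by
    show C * ρ 1 * C⁻¹ = 1
    rw [map_one, Matrix.mul_one, hCi]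
  have hΨinj : Function.Injective Ψ := by
    intro M N h
    have h1 : C⁻¹ * (C * ρ M * C⁻¹) * C = C⁻¹ * (C * ρ N * C⁻¹) * C := by
      show C⁻¹ * Ψ M * C = C⁻¹ * Ψ N * C
      rw [h]
    have h2 : ∀ X : Matrix (Fin n) (Fin n) F, C⁻¹ * (C * X * C⁻¹) * C = X := by
      intro X
      calc C⁻¹ * (C * X * C⁻¹) * C = (C⁻¹ * C) * X * (C⁻¹ * C) := by simp only [Matrix.mul_assoc]
        _ = X := by rw [hiC, Matrix.one_mul, Matrix.mul_one]
    rw [h2, h2] at h1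
    exact ρ.injective h1
  -- determinant one
  have hdet1 : ∀ g : (Matrix ι ι F)ˣ, g ∈ P → (g : Matrix ι ι F).det = 1 := by
    intro g hg
    obtain ⟨j, hj⟩ := hP ⟨g, hg⟩
    have h1 : g ^ 2 ^ j = 1 := by
      have := congrArg Subtype.val hj
      simpa using this
    have h2 : ((g : Matrix ι ι F)) ^ 2 ^ j = 1 := by
      have := congrArg Units.val h1
      simpa using this
    apply eq_one_of_pow_two_pow _ j
    rw [← Matrix.det_pow, h2, Matrix.det_one]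
  have hΨdet : ∀ g : (Matrix ι ι F)ˣ, g ∈ P → (Ψ (g : Matrix ι ι F)).det = 1 := by
    intro g hg
    show (C * ρ (g : Matrix ι ι F) * C⁻¹).det = 1
    rw [Matrix.det_mul, Matrix.det_mul, Matrix.det_reindexAlgEquiv, hdet1 g hg, mul_one,
      ← Matrix.det_mul, hCi, Matrix.det_one]
  -- unitarity
  have hΨadj : ∀ g : (Matrix ι ι F)ˣ, g ∈ P →
      adj φ (Ψ (g : Matrix ι ι F)) * Ψ (g : Matrix ι ι F) = 1 := by
    intro g hg
    have h1 : adj φ (ρ (g : Matrix ι ι F)) * ρ J * ρ (g : Matrix ι ι F) = ρ J := by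
      rw [hadjρ, ← map_mul, ← map_mul, hPJ g hg]
    have h3 : adj φ (C⁻¹) * adj φ C = 1 := by rw [← adj_mul, hCi, adj_one]
    show adj φ (C * ρ (g : Matrix ι ι F) * C⁻¹) * (C * ρ (g : Matrix ι ι F) * C⁻¹) = 1
    rw [adj_mul, adj_mul]
    calc adj φ C⁻¹ * (adj φ (ρ (g : Matrix ι ι F)) * adj φ C) * (C * ρ (g : Matrix ι ι F) * C⁻¹)
        = adj φ C⁻¹ * (adj φ (ρ (g : Matrix ι ι F)) * (adj φ C * C) * ρ (g : Matrix ι ι F)) * C⁻¹ := by
          simp only [Matrix.mul_assoc]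
      _ = adj φ C⁻¹ * (adj φ C * C) * C⁻¹ := by rw [hC, h1]
      _ = (adj φ C⁻¹ * adj φ C) * (C * C⁻¹) := by simp only [Matrix.mul_assoc]
      _ = 1 := by rw [h3, hCi, Matrix.mul_one]
  -- the map
  let fSL : ↥P → Matrix.SpecialLinearGroup (Fin n) F := fun g =>
    ⟨Ψ ((g : (Matrix ι ι F)ˣ) : Matrix ι ι F), hΨdet g.1 g.2⟩
  have hfmem : ∀ g : ↥P, fSL g ∈ Cfsg.SU n F q := by
    intro g
    show Matrix.SpecialLinearGroup.toGL (fSL g) ∈ Cfsg.GU n F q
    rw [mem_GU_iff_adj φ hφ]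
    exact hΨadj g.1 g.2
  refine ⟨MonoidHom.mk' (fun g => ⟨fSL g, hfmem g⟩) ?_, ?_⟩
  · intro a b
    apply Subtype.ext
    apply Subtype.ext
    show Ψ (((a * b : ↥P) : (Matrix ι ι F)ˣ) : Matrix ι ι F) = _
    rw [Subgroup.coe_mul, Units.val_mul, hΨmul]
    rfl
  · intro a b hab
    have h1 : Ψ ((a : (Matrix ι ι F)ˣ) : Matrix ι ι F) = Ψ ((b : (Matrix ι ι F)ˣ) : Matrix ι ι F) := by
      have := congrArg (fun x : ↥(Cfsg.SU n F q) =>
        ((x : Matrix.SpecialLinearGroup (Fin n) F) : Matrix (Fin n) (Fin n) F)) hab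
      exact this
    exact Subtype.ext (Units.ext (hΨinj h1))

end Cfsg.Agent.Lib.Helper84.SQPSU
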