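import Mathlib
import Cfsg.Agent.Lib.Helper28.ZNDefs

/-!
K-ZN-7 (keystone 68908, architect helper28): `|V| = p²`, `N` a non-abelian subgroup of a fixed-point-free `H ≤ GL(V)`;
then `N` is irreducible on `V`.
-/

set_option autoImplicit false
universe u

namespace Cfsg.Agent.Lib.Helper84.ZN
open Cfsg.Agent.Lib.Helper28.ZN

variable {p : ℕ} [Fact p.Prime] {V : Type u} [AddCommGroup V] [Module (ZMod p) V]

/-- ZN-7 -/
theorem irreducible_of_card_sq [Finite V] (H : Subgroup (V ≃ₗ[ZMod p] V)) (hfpf : Fpf H)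
    (hV : Nat.card V = p ^ 2) (N : Subgroup H) (hNna : NonAb N) : Irr H N := by
  intro W hW
  by_contra hcon
  push Not at hcon
  obtain ⟨hWbot, hWtop⟩ := hcon
  have hp : p.Prime := Fact.out
  have hfr : Module.finrank (ZMod p) V = 2 := by
    have h1 : Nat.card V = Nat.card (ZMod p) ^ Module.finrank (ZMod p) V :=
      Module.natCard_eq_pow_finrank
    rw [Nat.card_zmod, hV] at h1
    exact (Nat.pow_right_injective hp.two_le h1).symm
  have hW1 : Module.finrank (ZMod p) W = 1 := by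
    have h1 : Module.finrank (ZMod p) W < Module.finrank (ZMod p) V := Submodule.finrank_lt hWtop
    have h2 : Module.finrank (ZMod p) W ≠ 0 := by
      intro h
      exact hWbot (Submodule.finrank_eq_zero.1 h)
    omega
  obtain ⟨w, hw0, hw⟩ := finrank_eq_one_iff'.1 hW1
  have hwV : (w : V) ≠ 0 := fun h => hw0 (Subtype.ext h)
  -- every `n ∈ N` acts on `w` by a scalar
  have hsc : ∀ n ∈ N, ∃ c : ZMod p, ((n : H) : V ≃ₗ[ZMod p] V) (w : V) = c • (w : V) := by
    intro n hn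
    obtain ⟨c, hc⟩ := hw ⟨((n : H) : V ≃ₗ[ZMod p] V) (w : V), hW n hn w w.2⟩
    refine ⟨c, ?_⟩
    have := congrArg Subtype.val hc
    simpa using this.symm
  obtain ⟨x, hx, y, hy, hxy⟩ := hNna
  obtain ⟨a, ha⟩ := hsc x hx
  obtain ⟨b, hb⟩ := hsc y hy
  apply hxy
  have h1 : ((x * y : H) : V ≃ₗ[ZMod p] V) (w : V) = ((y * x : H) : V ≃ₗ[ZMod p] V) (w : V) := by
    rw [Subgroup.coe_mul, Subgroup.coe_mul, LinearEquiv.mul_apply, LinearEquiv.mul_apply, hb, ha,
      map_smul, map_smul, ha, hb, smul_smul, smul_smul, mul_comm]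
  have h2 : (((y * x)⁻¹ * (x * y) : H) : V ≃ₗ[ZMod p] V) (w : V) = (w : V) := by
    rw [Subgroup.coe_mul, LinearEquiv.mul_apply, h1, ← LinearEquiv.mul_apply, ← Subgroup.coe_mul,
      inv_mul_cancel]
    rfl
  have h3 := hfpf ((y * x)⁻¹ * (x * y)) (w : V) hwV h2
  have h4 : x * y = (y * x) * ((y * x)⁻¹ * (x * y)) := by group
  rw [h4, h3, mul_one]

end Cfsg.Agent.Lib.Helper84.ZN
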