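import Mathlib
import Cfsg.Prelude.Def_Characters
import Cfsg.Agent.Lib.Helper01.PGroupMax
import Cfsg.Agent.Lib.Helper21.CliffordMid
import Cfsg.Agent.Lib.Helper84.Clifford
import Cfsg.Agent.Lib.Helper84.Ramified
import Cfsg.Agent.Lib.Helper84.SigmaExt
import Cfsg.Agent.Lib.Helper85.CliffordAbelian

/-!
# K-S4472-4: Clifford dichotomy over a normal subgroup of `p`-power index (helper84)

`H ⊴ X` with `X/H` a `p`-group and `Φ ∈ Irr(X)`: either `Φ_H = e θ` with `θ ∈ Irr(H)` invariant in
`X`, or `Φ` is induced from an irreducible character of a normal subgroup `M ≥ H` of index `p`.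
-/

set_option autoImplicit false
set_option linter.unusedSectionVars false

namespace Cfsg.Agent.Lib.Helper84.PSL

open Cfsg Cfsg.Agent.Lib.Helper83 Cfsg.Agent.Lib.Helper84

universe u

/-- a proper subgroup containing a normal subgroup of `p`-power index lies in a normal subgroup of
index `p`. -/
theorem exists_normal_index_p_of_ne_top {X : Type u} [Group X] [Finite X] (p : ℕ) [Fact p.Prime]
    (H T : Subgroup X) [hHn : H.Normal] (hXH : ∃ k : ℕ, H.index = p ^ k) (hHT : H ≤ T)
    (hT : T ≠ ⊤) : ∃ M : Subgroup X, M.Normal ∧ M.index = p ∧ T ≤ M := by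
  obtain ⟨k, hk⟩ := hXH
  have hQ : IsPGroup p (X ⧸ H) := by
    apply IsPGroup.of_card (n := k)
    rw [← Subgroup.index_eq_card, hk]
  have hmap : T.map (QuotientGroup.mk' H) ≠ ⊤ := by
    intro h
    apply hT
    have h1 : (T.map (QuotientGroup.mk' H)).comap (QuotientGroup.mk' H) = T := by
      rw [Subgroup.comap_map_eq, QuotientGroup.ker_mk', sup_eq_left.mpr hHT]
    rw [← h1, h, Subgroup.comap_top]
  obtain ⟨Mb, hMb, hle⟩ := (eq_top_or_exists_le_coatom _).resolve_left hmap
  have hMbn : Mb.Normal := Cfsg.Agent.Lib.Helper01.IsPGroup_coatom_normal hQ hMb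
  have hMbi : Mb.index = p := Cfsg.Agent.Lib.Helper01.IsPGroup_coatom_index hQ hMb
  refine ⟨Mb.comap (QuotientGroup.mk' H), inferInstance, ?_, ?_⟩
  · rw [Subgroup.index_comap_of_surjective _ (QuotientGroup.mk'_surjective H), hMbi]
  · intro t ht
    rw [Subgroup.mem_comap]
    exact hle (Subgroup.mem_map_of_mem _ ht)

/-- **K-S4472-4** (Clifford dichotomy). -/
theorem invariant_or_induced {X : Type u} [Group X] [Fintype X] (p : ℕ) [Fact p.Prime] (H : Subgroup X)
    [hHn : H.Normal] (hXH : ∃ k : ℕ, H.index = p ^ k) {Φ : X → ℂ} (hΦ : IsIrrCharacter X Φ) :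
    (∃ θ : H → ℂ, IsIrrCharacter H θ ∧
        (∀ (g : X) (h : H), θ ⟨g * h * g⁻¹, hHn.conj_mem h h.2 g⟩ = θ h) ∧
        (∀ h : H, θ h = θ 1 → Φ h = Φ 1) ∧ ∃ d n : ℕ, θ 1 = d ∧ Φ 1 = n ∧ d ≤ n) ∨
    (∃ (M : Subgroup X) (_ : M.Normal) (ψ : M → ℂ), H ≤ M ∧ M.index = p ∧ IsIrrCharacter M ψ ∧
        indFun M ψ = Φ) := by
  classical
  have : Fintype H := Fintype.ofFinite H
  have hΦc : IsCharacter X Φ := isCharacter_of_irr hΦ
  have hres : IsCharacter H (fun h : H => Φ h) := isCharacter_restrict H hΦc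
  have hΦ1 : Φ 1 ≠ 0 := by
    have hpos := irr_charDegree_pos (⟨Φ, hΦ⟩ : IrrCharacter X)
    rw [← charDegree_cast hΦc]
    exact_mod_cast hpos.ne'
  obtain ⟨θ, hθ, hθc⟩ := Cfsg.Agent.Lib.Helper85.exists_irr_constituent hres
    (by simpa using hΦ1)
  have hθcl : IsClassFunction H θ := char_isClassFunction (isCharacter_of_irr hθ)
  by_cases hT : inertiaSub H θ = ⊤
  · -- invariant case
    left
    have hinv : ∀ g : X, conjFun H g θ = θ := by
      intro g
      have : g ∈ inertiaSub H θ := by rw [hT]; exact Subgroup.mem_top g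
      exact (mem_inertiaSub H θ g).mp this
    obtain ⟨e, he, hres'⟩ := restrict_eq_smul_of_invariant H hΦ hθ hinv hθc
    have hΦh : ∀ h : H, Φ h = (e : ℂ) * θ h := fun h => congrFun hres' h
    refine ⟨θ, hθ, ?_, ?_, ?_⟩
    · intro g h
      have := congrFun (hinv g) h
      rw [conjFun_apply] at this
      exact this
    · intro h hh
      rw [hΦh h, hh, ← hΦh 1]
      rfl
    · refine ⟨charDegree θ, charDegree Φ, (charDegree_cast (isCharacter_of_irr hθ)).symm,
        (charDegree_cast hΦc).symm, ?_⟩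
      have h1 : ((charDegree Φ : ℕ) : ℂ) = ((e * charDegree θ : ℕ) : ℂ) := by
        rw [charDegree_cast hΦc, Nat.cast_mul, charDegree_cast (isCharacter_of_irr hθ)]
        have := hΦh 1
        rw [Subgroup.coe_one] at this
        exact this
      have h2 : charDegree Φ = e * charDegree θ := by exact_mod_cast h1
      have he0 : e ≠ 0 := by
        rintro rfl
        apply hθc
        rw [← he, Nat.cast_zero]
      rw [h2]
      exact Nat.le_mul_of_pos_left _ (Nat.pos_of_ne_zero he0)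
  · -- induced case
    right
    have hHT : H ≤ inertiaSub H θ := le_inertiaSub H hθcl
    obtain ⟨M, hMn, hMi, hTM⟩ := exists_normal_index_p_of_ne_top p H (inertiaSub H θ) hXH hHT hT
    have hHM : H ≤ M := hHT.trans hTM
    have : Fintype M := Fintype.ofFinite M
    have hI : ∀ g : X, conjFun H g θ = θ → g ∈ M := fun g hg => hTM ((mem_inertiaSub H θ g).mpr hg)
    obtain ⟨ψ, hψ, -, hind⟩ :=
      Cfsg.Agent.Lib.Helper21.exists_indFun_mid_eq H M hHM hθ hI hΦ hθc
    exact ⟨M, hMn, ψ, hHM, hMi, hψ, hind⟩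

end Cfsg.Agent.Lib.Helper84.PSL
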