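/-
K-SpF-T1 (keystone 597501, S5975): dichotomy for an element `y` of the normaliser of a field
subalgebra `K` of prime degree `k` with `y ^ r` scalar, `r` prime: `y` centralises `K`, or `r = k` and
only the scalars of `K` commute with `y`.
-/
import Mathlib
import Cfsg.Prelude.Def_GeometricClasses

set_option autoImplicit false

namespace Cfsg.Agent.Lib.Helper84.SpF

open Cfsg Cfsg.Geo
open scoped Matrix MatrixGroups

variable {F : Type*} [Field F]

/-- a field subalgebra of prime degree is a field -/
theorem isField_of_isFieldSubalgebra {ι : Type} [Fintype ι] [DecidableEq ι] (k : ℕ) (hk : k.Prime)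
    (K : Subalgebra F (Matrix ι ι F)) (hK : IsFieldSubalgebra k K) : IsField ↥K where
  exists_pair_ne := ⟨0, 1, by
    intro h
    have hs : Subsingleton ↥K := subsingleton_of_zero_eq_one h
    have h0 : Module.finrank F ↥K = 0 := Module.finrank_zero_of_subsingleton
    rw [hK.finrank_eq] at h0
    exact hk.ne_zero h0⟩
  mul_comm := fun a b => Subtype.ext (hK.comm a.1 a.2 b.1 b.2)
  mul_inv_cancel := by
    intro a ha
    obtain ⟨y, hy, hxy⟩ := hK.inv a.1 a.2 (fun h => ha (Subtype.ext h))
    exact ⟨⟨y, hy⟩, Subtype.ext hxy⟩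

theorem normalizer_dichotomy [Finite F] {ι : Type} [Fintype ι] [DecidableEq ι] (k : ℕ)
    (hk : k.Prime) (K : Subalgebra F (Matrix ι ι F)) (hK : IsFieldSubalgebra k K) (y : GL ι F)
    (hy : y ∈ subalgebraNormalizer K) (r : ℕ) (hr : r.Prime)
    (hyr : ∃ z : F, ((y ^ r : GL ι F) : Matrix ι ι F) = z • (1 : Matrix ι ι F)) :
    (∀ a ∈ K, (y : Matrix ι ι F) * a = a * (y : Matrix ι ι F)) ∨
    (r = k ∧ ∀ a ∈ K, (y : Matrix ι ι F) * a = a * (y : Matrix ι ι F) →
      ∃ c : F, a = c • (1 : Matrix ι ι F)) := by
  classical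
  have hfield : IsField ↥K := isField_of_isFieldSubalgebra k hk K hK
  let _ : Field ↥K := hfield.toField
  set Y : Matrix ι ι F := (y : Matrix ι ι F) with hYdef
  set Yi : Matrix ι ι F := ((y⁻¹ : GL ι F) : Matrix ι ι F) with hYidef
  have hYYi : Y * Yi = 1 := by
    rw [hYdef, hYidef, ← Units.val_mul, mul_inv_cancel, Units.val_one]
  have hYiY : Yi * Y = 1 := by
    rw [hYdef, hYidef, ← Units.val_mul, inv_mul_cancel, Units.val_one]
  have hy' : ∀ a : Matrix ι ι F, a ∈ K ↔ Y * a * Yi ∈ K := hy
  -- the fixed field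
  let S : IntermediateField F ↥K :=
    { carrier := {c | Y * c.1 = c.1 * Y}
      mul_mem' := by
        intro c d hc hd
        show Y * (c.1 * d.1) = c.1 * d.1 * Y
        rw [← mul_assoc, hc, mul_assoc, hd, mul_assoc]
      add_mem' := by
        intro c d hc hd
        show Y * (c.1 + d.1) = (c.1 + d.1) * Y
        rw [mul_add, add_mul, hc, hd]
      algebraMap_mem' := by
        intro a
        show Y * (algebraMap F (Matrix ι ι F) a) = (algebraMap F (Matrix ι ι F) a) * Y
        rw [Algebra.commutes]
      inv_mem' := by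
        intro c hc
        by_cases hc0 : c = 0
        · rw [hc0, _root_.inv_zero]
          show Y * (0 : Matrix ι ι F) = 0 * Y
          rw [mul_zero, zero_mul]
        · have h1 : c * c⁻¹ = 1 := mul_inv_cancel₀ hc0
          have h1' : c.1 * (c⁻¹).1 = 1 := congrArg Subtype.val h1
          have h2' : (c⁻¹).1 * c.1 = 1 := by rw [hK.comm _ (c⁻¹).2 _ c.2]; exact h1'
          show Y * (c⁻¹).1 = (c⁻¹).1 * Y
          calc Y * (c⁻¹).1 = ((c⁻¹).1 * c.1) * Y * (c⁻¹).1 := by rw [h2', one_mul]
            _ = (c⁻¹).1 * (c.1 * Y) * (c⁻¹).1 := by simp only [mul_assoc]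
            _ = (c⁻¹).1 * (Y * c.1) * (c⁻¹).1 := by rw [hc]
            _ = (c⁻¹).1 * Y * (c.1 * (c⁻¹).1) := by simp only [mul_assoc]
            _ = (c⁻¹).1 * Y := by rw [h1', mul_one] }
  have hprime : (Module.finrank F ↥K).Prime := by rw [hK.finrank_eq]; exact hk
  have hsimple := IntermediateField.isSimpleOrder_of_finrank_prime F ↥K hprime
  rcases eq_bot_or_eq_top S with h | h
  · right
    have hfix : ∀ a ∈ K, Y * a = a * Y → ∃ c : F, a = c • (1 : Matrix ι ι F) := by
      intro a ha hya
      have haS : (⟨a, ha⟩ : ↥K) ∈ S := hya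
      rw [h, IntermediateField.mem_bot] at haS
      obtain ⟨c, hc⟩ := haS
      refine ⟨c, ?_⟩
      have := congrArg Subtype.val hc
      rw [Algebra.algebraMap_eq_smul_one] at this
      simpa using this.symm
    refine ⟨?_, hfix⟩
    -- conjugation by `y` as an automorphism of `K`
    let σ : ↥K ≃ₐ[F] ↥K :=
      { toFun := fun a => ⟨Y * a.1 * Yi, (hy' a.1).mp a.2⟩
        invFun := fun a => ⟨Yi * a.1 * Y, by
          rw [hy' (Yi * a.1 * Y)]
          have : Y * (Yi * a.1 * Y) * Yi = a.1 := by
            calc Y * (Yi * a.1 * Y) * Yi = (Y * Yi) * a.1 * (Y * Yi) := by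
                  simp only [mul_assoc]
              _ = a.1 := by rw [hYYi, one_mul, mul_one]
          rw [this]
          exact a.2⟩
        left_inv := by
          intro a
          apply Subtype.ext
          show Yi * (Y * a.1 * Yi) * Y = a.1
          calc Yi * (Y * a.1 * Yi) * Y = (Yi * Y) * a.1 * (Yi * Y) := by simp only [mul_assoc]
            _ = a.1 := by rw [hYiY, one_mul, mul_one]
        right_inv := by
          intro a
          apply Subtype.ext
          show Y * (Yi * a.1 * Y) * Yi = a.1
          calc Y * (Yi * a.1 * Y) * Yi = (Y * Yi) * a.1 * (Y * Yi) := by simp only [mul_assoc]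
            _ = a.1 := by rw [hYYi, one_mul, mul_one]
        map_mul' := by
          intro a b
          apply Subtype.ext
          show Y * (a.1 * b.1) * Yi = (Y * a.1 * Yi) * (Y * b.1 * Yi)
          calc Y * (a.1 * b.1) * Yi = Y * a.1 * 1 * b.1 * Yi := by
                rw [mul_one]; simp only [mul_assoc]
            _ = Y * a.1 * (Yi * Y) * b.1 * Yi := by rw [hYiY]
            _ = (Y * a.1 * Yi) * (Y * b.1 * Yi) := by simp only [mul_assoc]
        map_add' := by
          intro a b
          apply Subtype.ext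
          show Y * (a.1 + b.1) * Yi = Y * a.1 * Yi + Y * b.1 * Yi
          rw [mul_add, add_mul]
        commutes' := by
          intro c
          apply Subtype.ext
          show Y * (algebraMap F (Matrix ι ι F) c) * Yi = algebraMap F (Matrix ι ι F) c
          rw [← Algebra.commutes, mul_assoc, hYYi, mul_one] }
    have hσval : ∀ a : ↥K, (σ a).1 = Y * a.1 * Yi := fun a => rfl
    -- `σ ^ m` is conjugation by `y ^ m`
    have hpow : ∀ m : ℕ, ∀ a : ↥K, ((σ ^ m) a).1 * Y ^ m = Y ^ m * a.1 := by
      intro m
      induction m with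
      | zero => intro a; simp
      | succ m ih =>
        intro a
        rw [pow_succ' σ m, AlgEquiv.mul_apply, hσval, pow_succ' Y m]
        calc Y * ((σ ^ m) a).1 * Yi * (Y * Y ^ m)
            = Y * ((σ ^ m) a).1 * (Yi * Y) * Y ^ m := by simp only [mul_assoc]
          _ = Y * (((σ ^ m) a).1 * Y ^ m) := by rw [hYiY, mul_one, mul_assoc]
          _ = Y * Y ^ m * a.1 := by rw [ih a, mul_assoc]
    obtain ⟨z, hz⟩ := hyr
    have hYr : Y ^ r = z • (1 : Matrix ι ι F) := by
      rw [hYdef, ← Units.val_pow_eq_pow_val, hz]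
    have h01 : (0 : Matrix ι ι F) ≠ 1 := by
      intro h0
      have := hfield.exists_pair_ne
      obtain ⟨a, b, hab⟩ := this
      apply hab
      apply Subtype.ext
      have ha : a.1 = a.1 * 1 := (mul_one _).symm
      have hb : b.1 = b.1 * 1 := (mul_one _).symm
      rw [ha, hb, ← h0, mul_zero, mul_zero]
    have hz0 : z ≠ 0 := by
      intro hz0
      rw [hz0, zero_smul] at hYr
      have hcm : Commute Y Yi := by
        show Y * Yi = Yi * Y
        rw [hYYi, hYiY]
      have h1 : Y ^ r * Yi ^ r = 1 := by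
        rw [← hcm.mul_pow, hYYi, one_pow]
      rw [hYr, zero_mul] at h1
      exact h01 h1
    have hσr : σ ^ r = 1 := by
      apply AlgEquiv.ext
      intro a
      apply Subtype.ext
      have h1 := hpow r a
      rw [hYr, Matrix.mul_smul, Matrix.smul_mul, mul_one, one_mul] at h1
      have h2 := smul_right_injective (Matrix ι ι F) hz0 h1
      rw [h2]
      rfl
    have hσ1 : σ ≠ 1 := by
      intro h1
      have hall : ∀ a : ↥K, a ∈ S := by
        intro a
        have h2 : (σ a).1 = a.1 := by rw [h1]; rfl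
        rw [hσval] at h2
        show Y * a.1 = a.1 * Y
        calc Y * a.1 = Y * a.1 * (Yi * Y) := by rw [hYiY, mul_one]
          _ = (Y * a.1 * Yi) * Y := by simp only [mul_assoc]
          _ = a.1 * Y := by rw [h2]
      have htop : S = ⊤ := by
        rw [eq_top_iff]
        intro a _
        exact hall a
      rw [h] at htop
      exact bot_ne_top htop
    have hord : orderOf σ = r := by
      have : Fact r.Prime := ⟨hr⟩
      exact orderOf_eq_prime hσr hσ1
    have hcard : Nat.card (↥K ≃ₐ[F] ↥K) = k := by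
      rw [IsGalois.card_aut_eq_finrank, hK.finrank_eq]
    have hdvd : r ∣ k := by
      rw [← hord, ← hcard]
      exact orderOf_dvd_natCard σ
    exact (Nat.prime_dvd_prime_iff_eq hr hk).mp hdvd
  · left
    intro a ha
    have haS : (⟨a, ha⟩ : ↥K) ∈ S := by rw [h]; exact IntermediateField.mem_top
    exact haS

end Cfsg.Agent.Lib.Helper84.SpF
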