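/-
K-IB pack (S3928, architect helper41): LEAF 6 (392808) `closure_TG_eq_commutator` and LEAF 9a (392811)
`index_commutator_le_two` (helper84).
-/
import Mathlib
import Cfsg.Agent.Lib.Helper41.InvBDefs

set_option autoImplicit false
set_option linter.unusedVariables false
set_option linter.unusedSectionVars false

namespace Cfsg.Agent.Lib.Helper84.InvB

open Cfsg.Agent.Lib.Helper41.InvB

variable {Γ : Type*} [Group Γ] [Finite Γ]

/-- every member of `TG a` is a commutator `⁅h, a⁆` with `h ∈ TG a`, `h * h = t`. -/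
theorem exists_sqrt_TG {a t : Γ} (ht : t ∈ TG a) : ∃ h ∈ TG a, h * h = t ∧ h * a * h⁻¹ * a⁻¹ = t := by
  obtain ⟨k, hk⟩ := ht.1
  refine ⟨t ^ (k + 1), pow_mem_TG ht _, ?_, ?_⟩
  · rw [← pow_add]
    have : k + 1 + (k + 1) = orderOf t + 1 := by omega
    rw [this, pow_succ, pow_orderOf_eq_one, one_mul]
  · have h1 : a * t ^ (k + 1) * a⁻¹ = (t ^ (k + 1))⁻¹ := (pow_mem_TG ht (k + 1)).2
    have h2 : t ^ (k + 1) * a * (t ^ (k + 1))⁻¹ * a⁻¹ = t ^ (k + 1) * (a * t ^ (k + 1) * a⁻¹)⁻¹ := by
      group
    rw [h2, h1, inv_inv, ← pow_add]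
    have : k + 1 + (k + 1) = orderOf t + 1 := by omega
    rw [this, pow_succ, pow_orderOf_eq_one, one_mul]

/-- `⟨TG a⟩` is normal when `Γ = ⟨TG a, a⟩`. -/
theorem closure_TG_normal (a : Γ) (hg : Gen a) : (Subgroup.closure (TG a)).Normal := by
  obtain ⟨haa, hgen⟩ := hg
  have hainv : a⁻¹ = a := inv_eq_of_mul_eq_one_right haa
  rw [← Subgroup.normalizer_eq_top_iff, eq_top_iff, ← hgen, Subgroup.closure_le]
  rintro g (hgT | hga)
  · exact Subgroup.le_normalizer (Subgroup.subset_closure hgT)
  · rw [Set.mem_singleton_iff] at hga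
    subst hga
    have hconj : ∀ x ∈ Subgroup.closure (TG g), g * x * g⁻¹ ∈ Subgroup.closure (TG g) := by
      intro x hx
      induction hx using Subgroup.closure_induction with
      | mem y hy =>
        rw [hy.2]
        exact Subgroup.subset_closure (inv_mem_TG hy)
      | one => simp
      | mul y z _ _ hy hz =>
        have : g * (y * z) * g⁻¹ = (g * y * g⁻¹) * (g * z * g⁻¹) := by group
        rw [this]
        exact mul_mem hy hz
      | inv y _ hy =>
        have : g * y⁻¹ * g⁻¹ = (g * y * g⁻¹)⁻¹ := by group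
        rw [this]
        exact inv_mem hy
    rw [SetLike.mem_coe, Subgroup.mem_normalizer_iff]
    intro x
    refine ⟨hconj x, fun hx => ?_⟩
    have h2 := hconj _ hx
    have h3 : g * (g * x * g⁻¹) * g⁻¹ = x := by
      rw [hainv]
      calc g * (g * x * g) * g = (g * g) * x * (g * g) := by group
        _ = x := by rw [haa, one_mul, mul_one]
    rwa [h3] at h2

/-- **LEAF 6 (392808)**, exact spec signature. -/
theorem closure_TG_eq_commutator (a : Γ) (hg : Gen a) : Subgroup.closure (TG a) = commutator Γ := by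
  apply le_antisymm
  · rw [Subgroup.closure_le]
    intro t ht
    obtain ⟨h, -, -, hc⟩ := exists_sqrt_TG ht
    rw [SetLike.mem_coe, ← hc, ← commutatorElement_def, commutator_def]
    exact Subgroup.commutator_mem_commutator (Subgroup.mem_top h) (Subgroup.mem_top a)
  · have := closure_TG_normal a hg
    refine Subgroup.Normal.commutator_le_of_self_sup_commutative_eq_top (H := Subgroup.zpowers a) ?_
      inferInstance
    rw [Subgroup.zpowers_eq_closure, ← Subgroup.closure_union]
    exact hg.2

/-- **LEAF 9a (392811)**, exact spec signature. -/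
theorem index_commutator_le_two (a : Γ) (hg : Gen a) : (commutator Γ).index ≤ 2 := by
  have hT := closure_TG_eq_commutator a hg
  obtain ⟨haa, hgen⟩ := hg
  -- every element of `Γ ⧸ Γ'` is a power of the image of `a`
  have htop : Subgroup.zpowers (QuotientGroup.mk a : Γ ⧸ commutator Γ) = ⊤ := by
    rw [eq_top_iff]
    have h1 : (⊤ : Subgroup (Γ ⧸ commutator Γ)) = Subgroup.map (QuotientGroup.mk' (commutator Γ)) ⊤ := by
      rw [← MonoidHom.range_eq_map]
      exact (MonoidHom.range_eq_top.mpr (QuotientGroup.mk'_surjective _)).symm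
    rw [h1, ← hgen, MonoidHom.map_closure, Subgroup.closure_le]
    rintro _ ⟨g, (hgT | hga), rfl⟩
    · have : g ∈ commutator Γ := by rw [← hT]; exact Subgroup.subset_closure hgT
      have h2 : (QuotientGroup.mk' (commutator Γ)) g = 1 := (QuotientGroup.eq_one_iff g).mpr this
      rw [h2]
      exact one_mem _
    · rw [Set.mem_singleton_iff] at hga
      subst hga
      exact Subgroup.mem_zpowers _
  have hcard : Nat.card (Γ ⧸ commutator Γ) =
      Nat.card (Subgroup.zpowers (QuotientGroup.mk a : Γ ⧸ commutator Γ)) := by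
    rw [htop]
    exact (Nat.card_congr Subgroup.topEquiv.toEquiv).symm
  rw [Subgroup.index_eq_card, hcard, Nat.card_zpowers]
  apply Nat.le_of_dvd (by norm_num)
  apply orderOf_dvd_of_pow_eq_one
  rw [pow_two, ← QuotientGroup.mk_mul, haa]
  rfl

end Cfsg.Agent.Lib.Helper84.InvB
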