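/-
K-IB pack (S3928, architect helper41): LEAF 4b (392805) `card_TG_quot_le` and LEAF 9b (392812)
`card_commutator_le_mul` (helper84).  Uses LEAF 3 (helper56), `mk_mem_TG` (helper97) and LEAF 6 (helper84).
-/
import Mathlib
import Cfsg.Agent.Lib.Helper41.InvBDefs
import Cfsg.Agent.Lib.Helper56.InvBLift
import Cfsg.Agent.Lib.Helper97.InvBGenQuot
import Cfsg.Agent.Lib.Helper84.InvB6

set_option autoImplicit false
set_option linter.unusedVariables false
set_option linter.unusedSectionVars false

namespace Cfsg.Agent.Lib.Helper84.InvB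

open Cfsg.Agent.Lib.Helper41.InvB

variable {Γ : Type*} [Group Γ] [Finite Γ]

/-- **LEAF 4b (392805)**, exact spec signature. -/
theorem card_TG_quot_le (a : Γ) (ha : a * a = 1) (N : Subgroup Γ) [N.Normal] :
    Nat.card (TG (QuotientGroup.mk a : Γ ⧸ N)) ≤ Nat.card (TG a) := by
  classical
  have hl : ∀ y : TG (QuotientGroup.mk a : Γ ⧸ N), ∃ g ∈ TG a, (QuotientGroup.mk g : Γ ⧸ N) = y.1 :=
    fun y => Cfsg.Agent.Lib.Helper56.InvB.exists_lift a ha N y.1 y.2
  choose f hf1 hf2 using hl
  refine Nat.card_le_card_of_injective (fun y => (⟨f y, hf1 y⟩ : TG a)) ?_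
  intro y z hyz
  have h1 : f y = f z := congrArg Subtype.val hyz
  apply Subtype.ext
  rw [← hf2 y, ← hf2 z, h1]

/-- the product of two commuting members of `TG a` is in `TG a`. -/
theorem mul_mem_TG_of_commute {a x y : Γ} (hx : x ∈ TG a) (hy : y ∈ TG a) (hc : x * y = y * x) :
    x * y ∈ TG a := by
  refine ⟨?_, ?_⟩
  · have h1 : orderOf (x * y) ∣ (orderOf x).lcm (orderOf y) := Commute.orderOf_mul_dvd_lcm hc
    have h2 : Odd ((orderOf x).lcm (orderOf y)) :=
      Odd.of_dvd_nat (hx.1.mul hy.1) (Nat.lcm_dvd_mul _ _)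
    exact Odd.of_dvd_nat h2 h1
  · have : a * (x * y) * a⁻¹ = (a * x * a⁻¹) * (a * y * a⁻¹) := by group
    rw [this, hx.2, hy.2, ← mul_inv_rev, hc]

/-- **LEAF 9b (392812)**, exact spec signature. -/
theorem card_commutator_le_mul (a : Γ) (hg : Gen a) (m : ℕ) (hm : Nat.card (TG a) ≤ m) :
    Nat.card (commutator Γ) ≤ m * Nat.card (commutator ↥(commutator Γ)) := by
  classical
  have hT := closure_TG_eq_commutator a hg
  -- `K = ⁅Γ', Γ'⁆`, normal in `Γ`
  have hKcard : Nat.card (⁅commutator Γ, commutator Γ⁆ : Subgroup Γ) =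
      Nat.card (commutator ↥(commutator Γ)) := by
    rw [← Subgroup.map_subtype_commutator]
    exact Subgroup.card_map_of_injective (Subgroup.subtype_injective _)
  rw [← hKcard]
  have hKle : (⁅commutator Γ, commutator Γ⁆ : Subgroup Γ) ≤ commutator Γ :=
    Subgroup.commutator_le_right _ _
  -- the image of `Γ'` in `Γ ⧸ K`
  have hsurj : Function.Surjective (QuotientGroup.mk' (⁅commutator Γ, commutator Γ⁆ : Subgroup Γ)) :=
    QuotientGroup.mk'_surjective _
  -- (i) `|Γ'| = |image| * |K|`
  have hcomap : ((commutator Γ).map (QuotientGroup.mk' (⁅commutator Γ, commutator Γ⁆ : Subgroup Γ))).comap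
      (QuotientGroup.mk' (⁅commutator Γ, commutator Γ⁆ : Subgroup Γ)) = commutator Γ := by
    rw [Subgroup.comap_map_eq, QuotientGroup.ker_mk', sup_eq_left]
    exact hKle
  have hidx : ((commutator Γ).map
      (QuotientGroup.mk' (⁅commutator Γ, commutator Γ⁆ : Subgroup Γ))).index = (commutator Γ).index := by
    rw [← Subgroup.index_comap_of_surjective _ hsurj, hcomap]
  have h1 := Subgroup.card_mul_index (commutator Γ)
  have h2 := Subgroup.card_mul_index ((commutator Γ).map
      (QuotientGroup.mk' (⁅commutator Γ, commutator Γ⁆ : Subgroup Γ)))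
  have h3 := Subgroup.card_eq_card_quotient_mul_card_subgroup (⁅commutator Γ, commutator Γ⁆ : Subgroup Γ)
  have hpos : 0 < (commutator Γ).index := Nat.pos_of_ne_zero (Subgroup.index_ne_zero_of_finite)
  have hcardeq : Nat.card (commutator Γ) = Nat.card ((commutator Γ).map
      (QuotientGroup.mk' (⁅commutator Γ, commutator Γ⁆ : Subgroup Γ))) *
        Nat.card (⁅commutator Γ, commutator Γ⁆ : Subgroup Γ) := by
    apply Nat.eq_of_mul_eq_mul_right hpos
    rw [h1, h3, ← h2, hidx]
    ring
  -- (ii) the image is abelian and consists of members of `TG (mk a)`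
  have habel : ∀ x ∈ (commutator Γ).map (QuotientGroup.mk' (⁅commutator Γ, commutator Γ⁆ : Subgroup Γ)),
      ∀ y ∈ (commutator Γ).map (QuotientGroup.mk' (⁅commutator Γ, commutator Γ⁆ : Subgroup Γ)),
        x * y = y * x := by
    have hb : ⁅(commutator Γ).map (QuotientGroup.mk' (⁅commutator Γ, commutator Γ⁆ : Subgroup Γ)),
        (commutator Γ).map (QuotientGroup.mk' (⁅commutator Γ, commutator Γ⁆ : Subgroup Γ))⁆ = ⊥ := by
      rw [← Subgroup.map_commutator, QuotientGroup.map_mk'_self]
    rw [Subgroup.commutator_eq_bot_iff_le_centralizer] at hb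
    intro x hx y hy
    exact (Subgroup.mem_centralizer_iff.mp (hb hx) y hy).symm
  have hsub : ((commutator Γ).map (QuotientGroup.mk' (⁅commutator Γ, commutator Γ⁆ : Subgroup Γ)) :
      Set (Γ ⧸ (⁅commutator Γ, commutator Γ⁆ : Subgroup Γ))) ⊆
        TG (QuotientGroup.mk a : Γ ⧸ (⁅commutator Γ, commutator Γ⁆ : Subgroup Γ)) := by
    intro x hx
    have hx' : x ∈ Subgroup.closure ((QuotientGroup.mk' (⁅commutator Γ, commutator Γ⁆ : Subgroup Γ)) ''
        (TG a)) := by
      rw [← MonoidHom.map_closure, hT]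
      exact hx
    have hcl : Subgroup.closure ((QuotientGroup.mk' (⁅commutator Γ, commutator Γ⁆ : Subgroup Γ)) ''
        (TG a)) = (commutator Γ).map (QuotientGroup.mk' (⁅commutator Γ, commutator Γ⁆ : Subgroup Γ)) := by
      rw [← MonoidHom.map_closure, hT]
    induction hx' using Subgroup.closure_induction with
    | mem y hy =>
      obtain ⟨g, hgT, rfl⟩ := hy
      exact Cfsg.Agent.Lib.Helper97.InvB.mk_mem_TG a _ hgT
    | one => exact one_mem_TG _
    | mul y z hy hz ihy ihz =>
      rw [hcl] at hy hz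
      exact mul_mem_TG_of_commute (ihy hy) (ihz hz) (habel y hy z hz)
    | inv y hy ihy =>
      rw [hcl] at hy
      exact inv_mem_TG (ihy hy)
  -- (iii) count
  have hle1 : Nat.card ((commutator Γ).map
      (QuotientGroup.mk' (⁅commutator Γ, commutator Γ⁆ : Subgroup Γ))) ≤
        Nat.card (TG (QuotientGroup.mk a : Γ ⧸ (⁅commutator Γ, commutator Γ⁆ : Subgroup Γ))) :=
    Nat.card_mono (Set.toFinite _) hsub
  have hle2 := card_TG_quot_le a hg.1 (⁅commutator Γ, commutator Γ⁆ : Subgroup Γ)
  rw [hcardeq]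
  exact Nat.mul_le_mul_right _ (hle1.trans (hle2.trans hm))

end Cfsg.Agent.Lib.Helper84.InvB
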