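/-
K-SUB-3 (keystone 596503, S5965): `k = r`: every `y ∈ GL_n(q₀^r)` with `y ^ r = 1` (`r ≠ p`) is
`GL`-conjugate into `GL_n(q₀)`.
-/
import Mathlib
import Cfsg.Prelude.Def_Classical
import Cfsg.Prelude.Def_GeometricClasses
import Cfsg.Agent.Lib.Helper49.SUBDefs
import Cfsg.Agent.Lib.Helper49.PrimeOrderGL
import Cfsg.Agent.S2568

set_option autoImplicit false

namespace Cfsg.Agent.Lib.Helper84.SUB

open Matrix Polynomial Module Cfsg.Agent.Lib.Helper49 Cfsg.Agent.Lib.Helper49.SUB

/-! ### base change of `kdim` -/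

/-- polynomial evaluation at a matrix commutes with entrywise application of a ring hom -/
theorem aeval_map_matrix {K L : Type*} [Field K] [Field L] (j : K →+* L) {n : ℕ}
    (A : Matrix (Fin n) (Fin n) K) (P : K[X]) :
    aeval (A.map j) (P.map j) = (aeval A P).map j := by
  rw [aeval_def, aeval_def, eval₂_map]
  rw [show (eval₂ (algebraMap K (Matrix (Fin n) (Fin n) K)) A P).map j =
    j.mapMatrix (eval₂ (algebraMap K (Matrix (Fin n) (Fin n) K)) A P) from rfl, hom_eval₂]
  congr 1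
  ext c a b
  simp only [RingHom.comp_apply, RingHom.mapMatrix_apply, Matrix.map_apply,
    Matrix.algebraMap_matrix_apply, Algebra.algebraMap_self, RingHom.id_apply]
  split_ifs <;> simp

/-- `kdim` of a matrix in terms of the rank -/
theorem kdim_add_rank {K : Type*} [Field K] {n : ℕ} (A : Matrix (Fin n) (Fin n) K) (P : K[X]) :
    kdim (Matrix.toLin' A) P + (aeval A P).rank = n := by
  have h1 : aeval (Matrix.toLin' A) P = Matrix.toLin' (aeval A P) := by
    have := Polynomial.aeval_algHom_apply (Matrix.toLinAlgEquiv' (R := K) (n := Fin n)) A P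
    exact this
  unfold kdim
  rw [h1]
  have h2 := LinearMap.finrank_range_add_finrank_ker (Matrix.toLin' (aeval A P))
  rw [Module.finrank_fin_fun] at h2
  have h3 : (aeval A P).rank = finrank K (LinearMap.range (Matrix.toLin' (aeval A P))) := rfl
  omega

/-- base change of `kdim` along a field hom, given that ranks do not change -/
theorem kdim_map_eq {K L : Type*} [Field K] [Field L] (j : K →+* L) {n : ℕ}
    (hbc : ∀ N : Matrix (Fin n) (Fin n) K, (N.map j).rank = N.rank)
    (A : Matrix (Fin n) (Fin n) K) (P : K[X]) :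
    kdim (Matrix.toLin' (A.map j)) (P.map j) = kdim (Matrix.toLin' A) P := by
  have h1 := kdim_add_rank A P
  have h2 := kdim_add_rank (A.map j) (P.map j)
  rw [aeval_map_matrix, hbc] at h2
  omega

variable {F : Type*} [Field F] [Fintype F]

theorem conj_same {p : ℕ} [Fact p.Prime] [CharP F p] (F₀ : Subfield F) {q₀ : ℕ}
    (hF₀ : Nat.card ↥F₀ = q₀) (r : ℕ) [Fact r.Prime] (hrp : r ≠ p)
    (hcard : Fintype.card F = q₀ ^ r) (n : ℕ)
    (hbc : ∀ N : Matrix (Fin n) (Fin n) ↥F₀, (N.map F₀.subtype).rank = N.rank)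
    (y : GL (Fin n) F) (hy : y ^ r = 1) :
    ∃ g : GL (Fin n) F, g⁻¹ * y * g ∈ GL₀ F₀ n := by
  classical
  have hr : r.Prime := Fact.out
  have hp : p.Prime := Fact.out
  set j : ↥F₀ →+* F := F₀.subtype with hjdef
  have hj : Function.Injective j := Subtype.val_injective
  have : CharP ↥F₀ p := RingHom.charP j hj p
  letI : Fintype ↥F₀ := Fintype.ofFinite _
  obtain ⟨f₀, _, hK₀⟩ := FiniteField.card ↥F₀ p
  have hq₀ : q₀ = p ^ (f₀ : ℕ) := by rw [← hF₀, Nat.card_eq_fintype_card, hK₀]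
  obtain ⟨f, _, hK⟩ := FiniteField.card F p
  set i := orderOf ((q₀ : ℕ) : ZMod r) with hidef
  have hi₀ : i = orderOf ((p ^ (f₀ : ℕ) : ℕ) : ZMod r) := by rw [hidef, hq₀]
  have hi : i = orderOf ((p ^ (f : ℕ) : ℕ) : ZMod r) := by
    rw [← hK, hcard, Nat.cast_pow, ZMod.pow_card]
  have D₀ := Cfsg.Agent.S2568.factorData hK₀ r i hrp hi₀
  have D := Cfsg.Agent.S2568.factorData hK r i hrp hi
  set PP₀ := (UniqueFactorizationMonoid.normalizedFactors
    (Polynomial.cyclotomic r ↥F₀)).toFinset with hPP₀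
  set PP := (UniqueFactorizationMonoid.normalizedFactors (Polynomial.cyclotomic r F)).toFinset
    with hPP
  have hmapinj : Function.Injective (Polynomial.map j) := Polynomial.map_injective j hj
  have hX1 : (X - 1 : (↥F₀)[X]).map j = X - 1 := by simp
  have hXr : (X ^ r - 1 : (↥F₀)[X]).map j = X ^ r - 1 := by simp
  have hcop1 : ∀ P₀ ∈ PP₀, IsCoprime (X - 1 : F[X]) (P₀.map j) := by
    intro P₀ hP₀
    have := (D₀.cop1 P₀ hP₀).map (Polynomial.mapRingHom j)
    rw [Polynomial.coe_mapRingHom, hX1] at this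
    exact this
  -- the factors over `F₀` stay irreducible over `F`
  have hirr : ∀ P₀ ∈ PP₀, Irreducible (P₀.map j) := by
    intro P₀ hP₀
    have hdeg : (P₀.map j).natDegree = i := by
      rw [Polynomial.natDegree_map]; exact D₀.deg P₀ hP₀
    have hipos := D.hi
    have hne0 : P₀.map j ≠ 0 := by
      intro h
      rw [h, natDegree_zero] at hdeg
      omega
    have hnu : ¬ IsUnit (P₀.map j) := by
      intro h
      have := Polynomial.natDegree_eq_zero_of_isUnit h
      omega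
    obtain ⟨P', hP'irr, hP'dvd⟩ := WfDvdMonoid.exists_irreducible_factor hnu hne0
    have hdvd0 : P₀ ∣ (X ^ r - 1 : (↥F₀)[X]) := by
      rw [← D₀.prod]
      exact Dvd.dvd.mul_left (Finset.dvd_prod_of_mem _ hP₀) _
    have hdvd : P₀.map j ∣ (X ^ r - 1 : F[X]) := by
      have := Polynomial.map_dvd j hdvd0
      rwa [hXr] at this
    rcases D.irreducible_dvd hP'irr (hP'dvd.trans hdvd) with h | ⟨P, hP, h⟩
    · exfalso
      have h1 : (X - 1 : F[X]) ∣ P₀.map j := h.symm.dvd.trans hP'dvd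
      exact irreducible_X_sub_one.not_isUnit ((hcop1 P₀ hP₀).isUnit_of_dvd' dvd_rfl h1)
    · have h1 : P ∣ P₀.map j := h.symm.dvd.trans hP'dvd
      have h2 : Associated P (P₀.map j) :=
        Polynomial.associated_of_dvd_of_natDegree_le h1 hne0 (by rw [hdeg, D.deg P hP])
      exact h2.irreducible (D.irr P hP)
  -- the factor data over `F` given by the base-changed factors
  have D' : FactorData F r i (PP₀.image (Polynomial.map j)) := by
    refine ⟨D.hi, ?_, ?_, ?_, ?_, ?_, D.sqf⟩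
    · intro P hP
      obtain ⟨P₀, hP₀, rfl⟩ := Finset.mem_image.mp hP
      exact hirr P₀ hP₀
    · intro P hP
      obtain ⟨P₀, hP₀, rfl⟩ := Finset.mem_image.mp hP
      rw [Polynomial.natDegree_map]
      exact D₀.deg P₀ hP₀
    · intro P hP P' hP' hne
      obtain ⟨P₀, hP₀, rfl⟩ := Finset.mem_image.mp hP
      obtain ⟨P₀', hP₀', rfl⟩ := Finset.mem_image.mp hP'
      have h0 : P₀ ≠ P₀' := fun h => hne (by rw [h])
      have := (D₀.cop P₀ hP₀ P₀' hP₀' h0).map (Polynomial.mapRingHom j)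
      rw [Polynomial.coe_mapRingHom] at this
      exact this
    · intro P hP
      obtain ⟨P₀, hP₀, rfl⟩ := Finset.mem_image.mp hP
      exact hcop1 P₀ hP₀
    · rw [Finset.prod_image (fun a _ b _ h => hmapinj h), ← hXr, ← D₀.prod, Polynomial.map_mul,
        hX1, Polynomial.map_prod]
  -- the profile of `y`
  set φ := Matrix.toLin' (y : Matrix (Fin n) (Fin n) F) with hφdef
  have hφ : aeval φ (X ^ r - 1 : F[X]) = 0 := aeval_toLin'_pow_sub_one y r hy
  let a : PP₀ → ℕ := fun P₀ => kdim φ ((P₀ : (↥F₀)[X]).map j) / i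
  have ha : ∀ P₀ : PP₀, kdim φ ((P₀ : (↥F₀)[X]).map j) = i * a P₀ := by
    intro P₀
    have := D'.dvd_kdim φ (Finset.mem_image_of_mem (Polynomial.map j) P₀.2)
    exact (Nat.mul_div_cancel' this).symm
  have hsum : i * ∑ P₀, a P₀ ≤ n := by
    have h1 := D'.finrank_eq φ hφ
    rw [Module.finrank_fin_fun, Finset.sum_image (fun a _ b _ h => hmapinj h)] at h1
    rw [← Finset.sum_coe_sort PP₀ (fun P₀ => kdim φ (P₀.map j)),
      Finset.sum_congr rfl (fun P _ => ha P), ← Finset.mul_sum] at h1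
    omega
  obtain ⟨g₀, hg₀r, hκ⟩ := D₀.exists_realize hr.pos n a hsum
  set M : GL (Fin n) F := Matrix.GeneralLinearGroup.map j g₀ with hMdef
  have hMr : M ^ r = 1 := by rw [hMdef, ← map_pow, hg₀r, map_one]
  have hMval : (M : Matrix (Fin n) (Fin n) F) = (g₀ : Matrix (Fin n) (Fin n) ↥F₀).map j := rfl
  have hk : ∀ P ∈ PP₀.image (Polynomial.map j),
      kdim φ P = kdim (Matrix.toLin' (M : Matrix (Fin n) (Fin n) F)) P := by
    intro P hP
    obtain ⟨P₀, hP₀, rfl⟩ := Finset.mem_image.mp hP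
    rw [ha ⟨P₀, hP₀⟩, hMval, kdim_map_eq j hbc, hκ ⟨P₀, hP₀⟩]
  obtain ⟨e, he⟩ := D'.exists_equiv φ (Matrix.toLin' (M : Matrix (Fin n) (Fin n) F)) hφ
    (aeval_toLin'_pow_sub_one M r hMr) rfl hk
  have hconj : IsConj y M := isConj_of_equiv y M e he
  obtain ⟨c, hc⟩ := isConj_iff.mp hconj
  refine ⟨c⁻¹, ?_⟩
  rw [inv_inv, hc]
  exact ⟨g₀, rfl⟩

end Cfsg.Agent.Lib.Helper84.SUB
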