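import Mathlib
import Cfsg.Agent.S0886
import Cfsg.Agent.Lib.Helper84.Gallagher
import Cfsg.Agent.Lib.Helper84.LinearTwist
import Cfsg.Agent.Lib.Helper83.Quotient
import Cfsg.Agent.Lib.Helper83.Abelian
import Cfsg.Agent.Lib.Helper85.CliffordCorr

set_option autoImplicit false

namespace Cfsg.Agent.Lib.Helper84

open Cfsg
open scoped ComplexConjugate

universe u

/-- If `G / N` is cyclic and `θ ∈ Irr(N)` is `G`-invariant then `θ^G` is the sum of exactly
`|G : N|` pairwise distinct irreducible characters of `G`. -/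
theorem indFun_eq_sum_of_cyclic_quotient {G : Type u} [Group G] [Fintype G] (N : Subgroup G)
    [hN : N.Normal] (hcyc : IsCyclic (G ⧸ N)) {θ : N → ℂ} (hθ : IsIrrCharacter N θ)
    (hinv : ∀ g : G, conjFun N g θ = θ) :
    ∃ C : Finset (G → ℂ), C.card = N.index ∧ (∀ μ ∈ C, IsIrrCharacter G μ) ∧
      indFun N θ = ∑ μ ∈ C, μ := by
  classical
  have : Fintype (IrrCharacter G) := Fintype.ofFinite _
  have : Fintype N := Fintype.ofFinite _
  obtain ⟨χ₀, hχ₀, hext⟩ := Cfsg.Agent.S0886.result N hcyc θ hθ (fun g n => congrFun (hinv g) n)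
  have h1N : IsIrrCharacter N (fun _ : N => (1 : ℂ)) := Cfsg.Agent.Lib.Helper83.isIrrCharacter_one
  have hone : ((fun _ : N => (1 : ℂ)) * θ) = θ := by
    funext n; simp
  have hprod : IsIrrCharacter N ((fun _ : N => (1 : ℂ)) * θ) := by
    rw [hone]; exact hθ
  have hinv1 : ∀ g : G, conjFun N g (fun _ : N => (1 : ℂ)) = fun _ : N => (1 : ℂ) := fun g => rfl
  obtain ⟨h1, h2, h3⟩ := gallagher_general N h1N hinv1 hprod
    (Cfsg.Agent.Lib.Helper83.isCharacter_of_irr hχ₀) hext
  rw [hone] at h3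
  have hR : IsCharacter G (indFun N (fun _ : N => (1 : ℂ))) :=
    Cfsg.Agent.Lib.Helper34.isCharacter_indFun N Cfsg.Agent.Lib.Helper83.isCharacter_one
  set m : IrrCharacter G → ℕ :=
    fun β => Cfsg.Agent.Lib.Helper83.irrMult (indFun N (fun _ : N => (1 : ℂ))) β with hm
  have hcomm : ∀ a b : G ⧸ N, a * b = b * a := by
    intro a b
    exact (IsCyclic.isMulCommutative (α := G ⧸ N)).is_comm.comm a b
  have hNc : (Nat.card N : ℂ) ≠ 0 := Cfsg.Agent.Lib.Helper83.card_ne_zero_complex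
  -- multiplicities are `0` or `1`, and constituents are linear
  have hmult : ∀ β : IrrCharacter G, m β ≠ 0 → m β = 1 ∧ (β : G → ℂ) 1 = 1 := by
    intro β hβ
    have hc := Cfsg.Agent.Lib.Helper83.irrMult_cast hR β
    rw [Cfsg.Agent.Lib.Helper34.classInner_indFun_left N _ _
      (Cfsg.Agent.Lib.Helper83.isClassFunction_irr β)] at hc
    have hne : classInner (fun _ : N => (1 : ℂ)) (fun n : N => (β : G → ℂ) n) ≠ 0 := by
      rw [← hc]
      exact_mod_cast hβ
    have hne' : classInner (fun n : N => (β : G → ℂ) n) (fun _ : N => (1 : ℂ)) ≠ 0 := by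
      rw [← Cfsg.Agent.Lib.Helper83.classInner_conj_symm]
      exact (map_ne_zero _).mpr hne
    have hconst := irr_const_of_classInner_one_ne_zero N β.2 hne'
    obtain ⟨ψ, hψ, hψβ⟩ := Cfsg.Agent.Lib.Helper83.exists_isIrrCharacter_quotient N β.2 hconst
    have hdeg := Cfsg.Agent.Lib.Helper83.irr_degree_one_of_comm hcomm ⟨ψ, hψ⟩
    have hβ1 : (β : G → ℂ) 1 = 1 := by
      rw [← hψβ 1]
      exact hdeg
    refine ⟨?_, hβ1⟩
    have h2 : ∑ n : N, (fun _ : N => (1 : ℂ)) n * conj ((β : G → ℂ) n) = (Nat.card N : ℂ) := by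
      rw [Finset.sum_congr rfl (fun (n : N) _ => by rw [hconst (n : G) n.2, hβ1, map_one, mul_one]),
        Finset.sum_const, Finset.card_univ, nsmul_eq_mul, mul_one, Nat.card_eq_fintype_card]
    rw [Cfsg.Agent.Lib.Helper83.classInner_def, h2, inv_mul_cancel₀ hNc] at hc
    exact_mod_cast hc
  set S : Finset (IrrCharacter G) := Finset.univ.filter (fun β => m β ≠ 0) with hS
  have hScard : S.card = N.index := by
    have hdec := Cfsg.Agent.Lib.Helper83.char_eq_sum_irrMult hR
    have h4 := congrFun hdec 1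
    rw [Cfsg.Agent.Lib.Helper85.indFun_apply_one, mul_one, Finset.sum_apply] at h4
    have h5 : ∀ β : IrrCharacter G,
        ((Cfsg.Agent.Lib.Helper83.irrMult (indFun N (fun _ : N => (1 : ℂ))) β : ℂ) •
          (β : G → ℂ)) 1 = if m β ≠ 0 then (1 : ℂ) else 0 := by
      intro β
      rw [Pi.smul_apply, smul_eq_mul]
      split_ifs with hb
      · obtain ⟨e1, e2⟩ := hmult β hb
        rw [e2, mul_one]
        change ((m β : ℕ) : ℂ) = 1
        rw [e1, Nat.cast_one]
      · push Not at hb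
        change ((m β : ℕ) : ℂ) * _ = 0
        rw [hb, Nat.cast_zero, zero_mul]
    rw [Finset.sum_congr rfl (fun β _ => h5 β), Finset.sum_ite, Finset.sum_const_zero, add_zero,
      Finset.sum_const, nsmul_eq_mul, mul_one] at h4
    exact_mod_cast h4.symm
  have hinj : Set.InjOn (fun β : IrrCharacter G => (β : G → ℂ) * χ₀) (S : Set (IrrCharacter G)) := by
    intro β hβ γ hγ hbg
    have hβ' : m β ≠ 0 := (Finset.mem_filter.mp hβ).2
    have hγ' : m γ ≠ 0 := (Finset.mem_filter.mp hγ).2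
    exact h2 β γ hβ' hγ' hbg
  refine ⟨S.image (fun β : IrrCharacter G => (β : G → ℂ) * χ₀), ?_, ?_, ?_⟩
  · rw [Finset.card_image_of_injOn hinj, hScard]
  · intro μ hμ
    obtain ⟨β, hβ, rfl⟩ := Finset.mem_image.mp hμ
    exact h1 β (Finset.mem_filter.mp hβ).2
  · rw [Finset.sum_image hinj, h3, hS, Finset.sum_filter]
    refine Finset.sum_congr rfl fun β _ => ?_
    split_ifs with hb
    · change ((m β : ℕ) : ℂ) • _ = _
      rw [(hmult β hb).1, Nat.cast_one, one_smul]
    · push Not at hb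
      change ((m β : ℕ) : ℂ) • _ = _
      rw [hb, Nat.cast_zero, zero_smul]

end Cfsg.Agent.Lib.Helper84
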