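/-
K-152 pack (S1356, architect helper12): keystone 135608 K-152-L2d `fittingHallOf_le_fittingOf` (parallel hand, helper84).
-/
import Mathlib
import Cfsg.Prelude.Def_OddOrderLocal

set_option autoImplicit false

namespace Cfsg.Agent.Lib.Helper84.BG152

open Cfsg

/-- **K-152-L2d (135608)**, exact spec signature. -/
theorem fittingHallOf_le_fittingOf {G : Type*} [Group G] [Finite G] (M : Subgroup G) :
    fittingHallOf M ≤ fittingOf M := by
  unfold fittingHallOf fittingOf
  apply Subgroup.map_mono
  unfold fittingHall fittingSubgroup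
  apply sSup_le_sSup
  rintro N ⟨h1, h2, -⟩
  exact ⟨h1, h2⟩

end Cfsg.Agent.Lib.Helper84.BG152
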