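import Mathlib
import Cfsg.Agent.S0858
import Cfsg.Agent.S0859
import Cfsg.Agent.Lib.Helper38.PGroup

/-!
# S4460 pack K-CD3, leaf 446007 N7: an abelian normal subgroup of `p`-power index makes `G` an
M-group (S0858 + S0859)
-/

set_option autoImplicit false

namespace Cfsg.Agent.Lib.Helper84.CD3

open Cfsg

universe u

/-- A chief factor `K / L` of a group `X` with `X ⧸ L` a `p`-group has order `p`. -/
theorem relIndex_eq_prime_of_chief {X : Type*} [Group X] [Finite X] (p : ℕ) [Fact p.Prime]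
    (L K : Subgroup X) [hLn : L.Normal] [hKn : K.Normal] (hLK : L < K) (hQ : IsPGroup p (X ⧸ L))
    (hmin : ∀ M : Subgroup X, M.Normal → L ≤ M → M ≤ K → M = L ∨ M = K) :
    L.relIndex K = p := by
  classical
  have hpp : p.Prime := Fact.out
  set f : X →* X ⧸ L := QuotientGroup.mk' L with hf
  have hfs : Function.Surjective f := QuotientGroup.mk'_surjective L
  have hker : f.ker = L := QuotientGroup.ker_mk' L
  haveI hKbn : (K.map f).Normal := Subgroup.Normal.map hKn f hfs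
  obtain ⟨x, hxK, hxL⟩ := SetLike.exists_of_lt hLK
  have hne : K.map f ≠ ⊥ := by
    intro h
    have : f x ∈ K.map f := Subgroup.mem_map_of_mem f hxK
    rw [h, Subgroup.mem_bot] at this
    apply hxL
    rw [← hker]
    exact this
  obtain ⟨y, hyK, hyZ, hy1⟩ := Cfsg.Agent.Lib.Helper38.normal_inf_center_ne_bot p hQ (K.map f) hne
  obtain ⟨n, hn⟩ := Cfsg.Agent.Lib.Helper38.exists_pow_orderOf_eq_prime p y hy1
    (IsPGroup.iff_orderOf.mp hQ y)
  set z := y ^ n with hz
  have hzK : z ∈ K.map f := pow_mem hyK n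
  have hzZ : z ∈ Subgroup.center (X ⧸ L) := pow_mem hyZ n
  set Z := Subgroup.zpowers z with hZ
  have hZK : Z ≤ K.map f := by
    rw [hZ, Subgroup.zpowers_le]; exact hzK
  have hZc : Z ≤ Subgroup.center (X ⧸ L) := by
    rw [hZ, Subgroup.zpowers_le]; exact hzZ
  have hZn : Z.Normal := by
    refine ⟨fun a ha g => ?_⟩
    have := hZc ha
    rw [Subgroup.mem_center_iff] at this
    rw [this g, mul_inv_cancel_right]
    exact ha
  have hZcard : Nat.card Z = p := by
    rw [hZ, Nat.card_zpowers, hn]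
  set M := Z.comap f with hM
  have hMn : M.Normal := Subgroup.Normal.comap hZn f
  have hLM : L ≤ M := by
    intro l hl
    rw [hM, Subgroup.mem_comap]
    have : f l = 1 := by
      rw [← MonoidHom.mem_ker, hker]; exact hl
    rw [this]
    exact Subgroup.one_mem _
  have hMK : M ≤ K := by
    intro m hm
    rw [hM, Subgroup.mem_comap] at hm
    obtain ⟨k, hk, hkm⟩ := hZK hm
    have h1 : f (k⁻¹ * m) = 1 := by
      rw [map_mul, map_inv, hkm, inv_mul_cancel]
    have h2 : k⁻¹ * m ∈ L := by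
      rw [← hker, MonoidHom.mem_ker]; exact h1
    have h3 : k⁻¹ * m ∈ K := hLK.le h2
    have : m = k * (k⁻¹ * m) := by group
    rw [this]
    exact K.mul_mem hk h3
  have hMmap : M.map f = Z := Subgroup.map_comap_eq_self_of_surjective hfs Z
  have hMK' : M = K := by
    rcases hmin M hMn hLM hMK with h | h
    · exfalso
      have h1 : Z = ⊥ := by
        rw [← hMmap, h]
        exact (Subgroup.map_eq_bot_iff _).mpr hker.ge
      rw [h1, Subgroup.card_bot] at hZcard
      exact hpp.one_lt.ne hZcard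
    · exact h
  calc L.relIndex K = ((⊥ : Subgroup (X ⧸ L)).comap f).relIndex K := by
        rw [MonoidHom.comap_bot, hker]
    _ = (⊥ : Subgroup (X ⧸ L)).relIndex (K.map f) := Subgroup.relIndex_comap _ f K
    _ = Nat.card (K.map f) := Subgroup.relIndex_bot_left _
    _ = p := by rw [← hMK', hMmap, hZcard]

/-- the chief-factor hypothesis of `S0858` when `G / H` is a `p`-group -/
theorem not_isSquare_relIndex_of_pgroup {G : Type u} [Group G] [Finite G] (p : ℕ) [Fact p.Prime]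
    (H : Subgroup G) [H.Normal] (hidx : ∃ k : ℕ, H.index = p ^ k)
    (H1 K L : Subgroup G) (hHL : H ≤ L) (hLK : L < K) (hKH1 : K ≤ H1)
    (hK : ∀ h ∈ H1, ∀ k ∈ K, h * k * h⁻¹ ∈ K) (hL : ∀ h ∈ H1, ∀ l ∈ L, h * l * h⁻¹ ∈ L)
    (hmin : ∀ M : Subgroup G, L ≤ M → M ≤ K → (∀ h ∈ H1, ∀ m ∈ M, h * m * h⁻¹ ∈ M) →
      M = L ∨ M = K) : ¬ IsSquare (L.relIndex K) := by
  classical
  have hpp : p.Prime := Fact.out
  have hLH1 : L ≤ H1 := hLK.le.trans hKH1
  haveI hLn : (L.subgroupOf H1).Normal := by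
    refine ⟨fun a ha g => ?_⟩
    rw [Subgroup.mem_subgroupOf] at ha ⊢
    exact hL g g.2 a ha
  haveI hKn : (K.subgroupOf H1).Normal := by
    refine ⟨fun a ha g => ?_⟩
    rw [Subgroup.mem_subgroupOf] at ha ⊢
    exact hK g g.2 a ha
  have hlt : L.subgroupOf H1 < K.subgroupOf H1 := by
    obtain ⟨x, hxK, hxL⟩ := SetLike.exists_of_lt hLK
    refine lt_of_le_of_ne ?_ ?_
    · intro a ha
      rw [Subgroup.mem_subgroupOf] at ha ⊢
      exact hLK.le ha
    · intro h
      apply hxL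
      have : (⟨x, hKH1 hxK⟩ : H1) ∈ K.subgroupOf H1 := by
        rw [Subgroup.mem_subgroupOf]; exact hxK
      rw [← h, Subgroup.mem_subgroupOf] at this
      exact this
  have hQ : IsPGroup p (↥H1 ⧸ L.subgroupOf H1) := by
    obtain ⟨k, hk⟩ := hidx
    have h1 : Nat.card (↥H1 ⧸ L.subgroupOf H1) = L.relIndex H1 := by
      rw [← Subgroup.index_eq_card]; rfl
    have h2 : L.relIndex H1 ∣ p ^ k := by
      rw [← hk]
      exact (Subgroup.relIndex_dvd_of_le_left H1 hHL).trans (Subgroup.relIndex_dvd_index_of_normal H H1)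
    obtain ⟨j, -, hj⟩ := (Nat.dvd_prime_pow hpp).mp h2
    exact IsPGroup.of_card (n := j) (by rw [h1, hj])
  have hmin' : ∀ M : Subgroup ↥H1, M.Normal → L.subgroupOf H1 ≤ M → M ≤ K.subgroupOf H1 →
      M = L.subgroupOf H1 ∨ M = K.subgroupOf H1 := by
    intro M hMn hLM hMK
    have hMeq : (M.map H1.subtype).subgroupOf H1 = M := by
      ext a
      rw [Subgroup.mem_subgroupOf]
      constructor
      · rintro ⟨b, hb, hba⟩
        have : b = a := Subtype.ext hba
        rw [← this]; exact hb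
      · intro ha
        exact ⟨a, ha, rfl⟩
    have h1 : L ≤ M.map H1.subtype := by
      intro l hl
      refine ⟨⟨l, hLH1 hl⟩, hLM ?_, rfl⟩
      rw [Subgroup.mem_subgroupOf]; exact hl
    have h2 : M.map H1.subtype ≤ K := by
      rintro _ ⟨b, hb, rfl⟩
      have := hMK hb
      rw [Subgroup.mem_subgroupOf] at this
      exact this
    have h3 : ∀ h ∈ H1, ∀ m ∈ M.map H1.subtype, h * m * h⁻¹ ∈ M.map H1.subtype := by
      rintro h hh _ ⟨b, hb, rfl⟩
      exact ⟨⟨h, hh⟩ * b * ⟨h, hh⟩⁻¹, hMn.conj_mem b hb ⟨h, hh⟩, rfl⟩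
    rcases hmin _ h1 h2 h3 with h | h
    · left; rw [← hMeq, h]
    · right; rw [← hMeq, h]
  have hrel := relIndex_eq_prime_of_chief p (L.subgroupOf H1) (K.subgroupOf H1) hlt hQ hmin'
  rw [Subgroup.relIndex_subgroupOf hKH1] at hrel
  rw [hrel]
  exact (Nat.prime_iff.mp hpp).not_isSquare

variable {G : Type u} [Group G] [Finite G]

/-- 446007 N7 : abelian normal subgroup of `p`-power index => `G` is an M-group
(S0858 + S0859). -/
theorem monomial_of_abelian_ppow [Fintype G] (p : ℕ) (hp : p.Prime) (H : Subgroup G) [H.Normal]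
    (hab : ∀ a ∈ H, ∀ b ∈ H, a * b = b * a) (hidx : ∃ k : ℕ, H.index = p ^ k)
    (χ : G → ℂ) (hχ : IsIrrCharacter G χ) :
    ∃ (U : Subgroup G) (lam : U → ℂ), IsCharacter U lam ∧ lam 1 = 1 ∧ indFun U lam = χ := by
  classical
  haveI : Fact p.Prime := ⟨hp⟩
  have hQp : IsPGroup p (G ⧸ H) := by
    obtain ⟨k, hk⟩ := hidx
    exact IsPGroup.of_card (n := k) (by rw [← Subgroup.index_eq_card, hk])
  haveI hQnil : Group.IsNilpotent (G ⧸ H) := hQp.isNilpotent
  have hsolvQ : Group.IsSolvable (G ⧸ H) := inferInstance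
  haveI hHsolv : Group.IsSolvable ↥H :=
    isSolvable_of_comm (fun a b => Subtype.ext (hab a a.2 b b.2))
  haveI hGsolv : Group.IsSolvable G :=
    solvable_of_ker_le_range H.subtype (QuotientGroup.mk' H)
      (by rw [QuotientGroup.ker_mk', Subgroup.range_subtype])
  have hchief : ∀ (H1 K L : Subgroup G), H ≤ L → L < K → K ≤ H1 →
      (∀ h ∈ H1, ∀ k ∈ K, h * k * h⁻¹ ∈ K) → (∀ h ∈ H1, ∀ l ∈ L, h * l * h⁻¹ ∈ L) →
      (∀ M : Subgroup G, L ≤ M → M ≤ K → (∀ h ∈ H1, ∀ m ∈ M, h * m * h⁻¹ ∈ M) → M = L ∨ M = K) →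
      ¬ IsSquare (L.relIndex K) :=
    fun H1 K L hHL hLK hKH1 hK hL hmin =>
      not_isSquare_relIndex_of_pgroup p H hidx H1 K L hHL hLK hKH1 hK hL hmin
  have hrel := fun (χ : G → ℂ) (hχ : IsIrrCharacter G χ) =>
    Cfsg.Agent.S0858.result H hsolvQ hchief χ hχ
  have hab' : ∀ (p' : ℕ) [Fact p'.Prime] (P : Sylow p' H), ∀ a ∈ P, ∀ b ∈ P, a * b = b * a :=
    fun p' _ P a _ b _ => Subtype.ext (hab a a.2 b b.2)
  exact Cfsg.Agent.S0859.result H hab' hrel χ hχ

end Cfsg.Agent.Lib.Helper84.CD3
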