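import Mathlib
import Cfsg.Prelude.Def_Characters
import Cfsg.Agent.Lib.Helper79.OddDegree

/-!
# Invariants of subgroups in symplectic-type representations (helper84)

* `even_finrank_of_skew_nondegenerate`: a nondegenerate skew-symmetric bilinear form forces even
  dimension.
* `even_finrank_invariants_of_fsInd_neg_one`: if `ρ` is an irreducible complex representation with
  real character and Frobenius–Schur indicator `-1`, then for every subgroup `H` the space of
  `H`-invariants has even dimension.
* `even_classInner_restrict_one`: the character form of the same statement.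
-/

set_option autoImplicit false
set_option linter.unusedSectionVars false

namespace Cfsg.Agent.Lib.Helper84

open Matrix Module
open Cfsg.Agent.Lib.Helper79

section SympEven

/-- a nondegenerate skew-symmetric form on a finite-dimensional complex space forces even
dimension -/
theorem even_finrank_of_skew_nondegenerate {V : Type*} [AddCommGroup V] [Module ℂ V]
    [FiniteDimensional ℂ V] (B : V →ₗ[ℂ] V →ₗ[ℂ] ℂ) (hskew : ∀ v w, B w v = - B v w)
    (hnd : ∀ u, (∀ v, B v u = 0) → u = 0) : Even (finrank ℂ V) := by
  by_contra hodd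
  rw [Nat.not_even_iff_odd] at hodd
  let b : Basis (Fin (finrank ℂ V)) ℂ V := Module.finBasis ℂ V
  let Γ : Matrix (Fin (finrank ℂ V)) (Fin (finrank ℂ V)) ℂ := Matrix.of fun i j => B (b i) (b j)
  have hΓt : Γᵀ = -Γ := by
    ext i j
    simp only [Γ, Matrix.transpose_apply, Matrix.of_apply, Matrix.neg_apply]
    exact hskew _ _
  have hdet : Γ.det = 0 := by
    have h1 : Γ.det = -Γ.det := by
      conv_lhs =>
        rw [← Matrix.det_transpose, hΓt, Matrix.det_neg, Fintype.card_fin, hodd.neg_one_pow]
      ring
    linear_combination (1 / 2 : ℂ) * h1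
  obtain ⟨x, hx0, hx⟩ := Matrix.exists_mulVec_eq_zero_iff.mpr hdet
  have hu : (∑ j, x j • b j) = 0 := by
    apply hnd
    intro v
    have h0 : B.flip (∑ j, x j • b j) = 0 := by
      apply b.ext
      intro i
      rw [LinearMap.flip_apply, map_sum, LinearMap.zero_apply]
      have h2 := congrFun hx i
      rw [Matrix.mulVec, dotProduct, Pi.zero_apply] at h2
      rw [← h2]
      refine Finset.sum_congr rfl fun j _ => ?_
      rw [map_smul, smul_eq_mul, mul_comm]
      rfl
    have := LinearMap.congr_fun h0 v
    rwa [LinearMap.flip_apply, LinearMap.zero_apply] at this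
  apply hx0
  funext i
  exact Fintype.linearIndependent_iff.mp b.linearIndependent x hu i

variable {G : Type*} [Group G] [Fintype G] {n : ℕ} (ρ : Representation ℂ G (Fin n → ℂ))

theorem rep_apply_eq_mulVec (g : G) (v : Fin n → ℂ) : ρ g v = repMat ρ g *ᵥ v := by
  unfold repMat
  rw [LinearMap.toMatrix'_mulVec]

/-- symplectic-type representations have even-dimensional invariants for every subgroup -/
theorem even_finrank_invariants_of_fsInd_neg_one [ρ.IsIrreducible]
    (hreal : ∀ g : G, (ρ.character g).im = 0) (hν : fsInd ρ.character = -1) (H : Subgroup G) :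
    Even (finrank ℂ (Representation.invariants (ρ.comp H.subtype))) := by
  classical
  have : Fintype H := Fintype.ofFinite H
  obtain ⟨W, W', hW, hW', hinv⟩ := exists_invariant_of_real ρ hreal
  have hWt : Wᵀ = -W := by
    have h := transpose_eq_indicator_smul ρ hreal W hinv
    change Wᵀ = fsInd ρ.character • W at h
    rw [h, hν, neg_one_smul]
  -- the bilinear form
  let B : (Fin n → ℂ) →ₗ[ℂ] (Fin n → ℂ) →ₗ[ℂ] ℂ := Matrix.toLinearMap₂' ℂ W
  have hB : ∀ v w, B v w = v ⬝ᵥ (W *ᵥ w) := fun v w => Matrix.toLinearMap₂'_apply' W v w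
  have hBskew : ∀ v w, B w v = - B v w := by
    intro v w
    rw [hB, hB, dotProduct_comm w, ← Matrix.vecMul_transpose, hWt, ← dotProduct_mulVec,
      Matrix.neg_mulVec, dotProduct_neg]
  have hBinv : ∀ (g : G) v w, B (ρ g v) (ρ g w) = B v w := by
    intro g v w
    rw [hB, hB, rep_apply_eq_mulVec, rep_apply_eq_mulVec, ← Matrix.vecMul_transpose,
      ← dotProduct_mulVec, Matrix.mulVec_mulVec, Matrix.mulVec_mulVec, hinv]
  have hBnd : ∀ u, (∀ v, B v u = 0) → u = 0 := by
    intro u hu
    have h1 : W *ᵥ u = 0 := by
      funext i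
      have := hu (Pi.single i 1)
      rw [hB, single_one_dotProduct] at this
      exact this
    calc u = (W' * W) *ᵥ u := by rw [hW', Matrix.one_mulVec]
      _ = 0 := by rw [← Matrix.mulVec_mulVec, h1, Matrix.mulVec_zero]
  set U := Representation.invariants (ρ.comp H.subtype) with hU
  have hUmem : ∀ u : Fin n → ℂ, u ∈ U ↔ ∀ h : H, ρ (h : G) u = u := by
    intro u
    rw [hU, Representation.mem_invariants]
    rfl
  -- averaging
  have hcard : (Fintype.card H : ℂ) ≠ 0 := by exact_mod_cast Fintype.card_ne_zero
  let avg : (Fin n → ℂ) → (Fin n → ℂ) := fun v => (Fintype.card H : ℂ)⁻¹ • ∑ h : H, ρ (h : G) v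
  have havg_mem : ∀ v, avg v ∈ U := by
    intro v
    rw [hUmem]
    intro h'
    simp only [avg]
    rw [map_smul, map_sum]
    congr 1
    apply Fintype.sum_equiv (Equiv.mulLeft h')
    intro h
    rw [Equiv.coe_mulLeft, Subgroup.coe_mul, map_mul, Module.End.mul_apply]
  have havg_B : ∀ v u, u ∈ U → B (avg v) u = B v u := by
    intro v u hu
    rw [hUmem] at hu
    simp only [avg]
    rw [map_smul, map_sum, LinearMap.smul_apply, LinearMap.sum_apply]
    have : ∀ h : H, B (ρ (h : G) v) u = B v u := by
      intro h
      conv_lhs => rw [← hu h]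
      exact hBinv _ _ _
    rw [Finset.sum_congr rfl (fun h _ => this h), Finset.sum_const, Finset.card_univ,
      nsmul_eq_mul, smul_eq_mul, ← mul_assoc, inv_mul_cancel₀ hcard, one_mul]
  -- the restricted form
  let BU : U →ₗ[ℂ] U →ₗ[ℂ] ℂ := (B.domRestrict₁₂ U U)
  have hBU : ∀ a b : U, BU a b = B a b := fun a b => LinearMap.domRestrict₁₂_apply _ _ _ _ _
  apply even_finrank_of_skew_nondegenerate BU
  · intro v w
    rw [hBU, hBU]
    exact hBskew _ _
  · intro u hu
    apply Subtype.ext
    rw [Submodule.coe_zero]
    apply hBnd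
    intro v
    rw [← havg_B v u u.2]
    have := hu ⟨avg v, havg_mem v⟩
    rw [hBU] at this
    exact this

end SympEven

end Cfsg.Agent.Lib.Helper84
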