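import Mathlib
import Cfsg.Agent.S0887
import Cfsg.Agent.Lib.Helper82.FullPartVanish
import Cfsg.Agent.Lib.Helper83.Completeness
import Cfsg.Agent.Lib.Helper83.Quotient
import Cfsg.Agent.Lib.Helper84.Clifford
import Cfsg.Agent.Lib.Helper84.CliffordDegree
import Cfsg.Agent.Lib.Helper84.RealCount
import Cfsg.Agent.Lib.Helper84.SympEven

/-!
# Real characters over a 2-defect-zero character of a normal subgroup of 2-power index (helper84)

`exists_real_over_defect_zero`: `N ⊴ G` with `G/N` a 2-group, `φ ∈ Irr(N)` of 2-defect zero whose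
complex conjugate is `G`-conjugate to `φ`.  Then there is `χ ∈ Irr(G)` with Frobenius–Schur
indicator `+1` and `[χ_N, φ] = 1`.
-/

set_option autoImplicit false
set_option linter.unusedSectionVars false
set_option linter.style.haveILetI false

namespace Cfsg.Agent.Lib.Helper84

open Cfsg
open scoped ComplexConjugate
open Cfsg.Agent.Lib.Helper79 Cfsg.Agent.Lib.Helper83

section DefectZeroReal

universe u

variable {G : Type u} [Group G] [Fintype G]

/-- multiplicity of the trivial character of a subgroup in a character afforded by `ρ` -/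
theorem classInner_restrict_one_eq_finrank {n : ℕ} (ρ : Representation ℂ G (Fin n → ℂ))
    (H : Subgroup G) [Fintype H] :
    classInner (fun x : H => ρ.character x) (fun _ => 1) =
      (Module.finrank ℂ (Representation.invariants (ρ.comp H.subtype)) : ℂ) := by
  have hne : (Nat.card H : ℂ) ≠ 0 := by
    exact_mod_cast Nat.card_pos.ne'
  haveI : Invertible (Nat.card H : ℂ) := invertibleOfNonzero hne
  rw [← Representation.card_inv_mul_sum_char_eq_finrank (ρ.comp H.subtype)]
  simp only [classInner, map_one, mul_one]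
  rfl

/-- a real-valued irreducible character with indicator `-1` contains the trivial character of
every subgroup an even number of times. -/
theorem even_classInner_restrict_one (χ : IrrCharacter G)
    (hreal : ∀ g : G, ((χ : G → ℂ) g).im = 0) (hν : fsInd (χ : G → ℂ) = -1) (H : Subgroup G)
    [Fintype H] (k : ℕ) (hk : classInner (fun x : H => (χ : G → ℂ) x) (fun _ => 1) = k) :
    Even k := by
  obtain ⟨n, ρ, hirr, hρ⟩ := χ.2
  haveI := hirr
  rw [← hρ] at hreal hν hk
  have h1 := even_finrank_invariants_of_fsInd_neg_one ρ hreal hν H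
  rw [classInner_restrict_one_eq_finrank] at hk
  have : Module.finrank ℂ (Representation.invariants (ρ.comp H.subtype)) = k := by
    exact_mod_cast hk
  rwa [this] at h1

variable (N : Subgroup G) [hN : N.Normal] [Fintype N]

/-- the multiplicity of an irreducible constituent of the restriction to a normal subgroup
divides the index. -/
theorem mult_dvd_index (χ : IrrCharacter G) (θ : IrrCharacter N) (m : ℕ)
    (hm : classInner (fun n : N => (χ : G → ℂ) n) (θ : N → ℂ) = m) (hm0 : m ≠ 0) :
    m ∣ N.index := by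
  have hcon : classInner (fun n : N => (χ : G → ℂ) n) (θ : N → ℂ) ≠ 0 := by
    rw [hm]; exact_mod_cast hm0
  have h1 := Cfsg.Agent.S0887.result N (χ : G → ℂ) χ.2 (θ : N → ℂ) θ.2 hcon
    (charDegree (χ : G → ℂ)) (charDegree (θ : N → ℂ))
    (charDegree_cast (IrrCharacter_isCharacter χ)).symm
    (charDegree_cast (IrrCharacter_isCharacter θ)).symm
  have h2 := clifford_degree hN χ θ m hm hm0
  have hd : 0 < charDegree (θ : N → ℂ) := irr_charDegree_pos θ
  have h3 : charDegree (χ : G → ℂ) / charDegree (θ : N → ℂ) =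
      m * (Cfsg.Agent.Lib.Helper85.conjStab hN (θ : N → ℂ)).index := by
    rw [h2, ← mul_assoc, Nat.mul_div_cancel _ hd]
  rw [h3] at h1
  exact (Dvd.intro _ rfl).trans h1.2

/-- the induced character of a 2-defect-zero character vanishes on elements of even order -/
theorem indFun_eq_zero_of_full_part (φ : IrrCharacter N) {r : ℕ} (hr : r.Prime)
    (hdef : r ^ (Nat.card N).factorization r ∣ charDegree (φ : N → ℂ)) (x : G)
    (hx : r ∣ orderOf x) : indFun N (φ : N → ℂ) x = 0 := by
  rw [Cfsg.Agent.Lib.Helper34.indFun_apply]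
  rw [Finset.sum_eq_zero, mul_zero]
  intro y _
  by_cases hy : y⁻¹ * x * y ∈ N
  · rw [Cfsg.Agent.Lib.Helper34.extendByZero_apply_mem N _ hy]
    apply Cfsg.Agent.Lib.Helper82.eq_zero_of_full_part φ hr hdef
    rw [← Subgroup.orderOf_coe]
    change r ∣ orderOf (y⁻¹ * x * y)
    have : orderOf (y⁻¹ * x * y) = orderOf x := by
      have := orderOf_injective (MulAut.conj y⁻¹).toMonoidHom (MulAut.conj y⁻¹).injective x
      simpa using this
    rw [this]
    exact hx
  · exact Cfsg.Agent.Lib.Helper34.extendByZero_apply_not_mem N _ hy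

theorem indFun_apply_one' (θ : N → ℂ) : indFun N θ 1 = (N.index : ℂ) * θ 1 := by
  rw [Cfsg.Agent.Lib.Helper34.indFun_apply]
  have h1 : ∀ x : G, extendByZero N θ (x⁻¹ * 1 * x) = θ 1 := by
    intro x
    have : x⁻¹ * 1 * x = ((1 : N) : G) := by simp
    rw [this, Cfsg.Agent.Lib.Helper34.extendByZero_coe]
  rw [Finset.sum_congr rfl (fun x _ => h1 x), Finset.sum_const, Finset.card_univ, nsmul_eq_mul,
    ← Nat.card_eq_fintype_card, ← Subgroup.card_mul_index N]
  have hN0 : (Nat.card N : ℂ) ≠ 0 := card_ne_zero_complex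
  push_cast
  field_simp

/-- **Main theorem.** `N ⊴ G` with `G/N` a 2-group, `φ ∈ Irr(N)` of 2-defect zero with `φ̄`
conjugate to `φ` in `G`: some `χ ∈ Irr(G)` with indicator `+1` has `[χ_N, φ] = 1`. -/
theorem exists_real_over_defect_zero (h2 : IsPGroup 2 (G ⧸ N)) (φ : IrrCharacter N)
    (hdef : 2 ^ (Nat.card N).factorization 2 ∣ charDegree (φ : N → ℂ))
    (hconj : ∃ g : G, conjFun N g (φ : N → ℂ) = fun n => conj ((φ : N → ℂ) n)) :
    ∃ χ : IrrCharacter G, fsInd (χ : G → ℂ) = 1 ∧
      classInner (fun n : N => (χ : G → ℂ) n) (φ : N → ℂ) = 1 := by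
  classical
  haveI : Fact (Nat.Prime 2) := ⟨Nat.prime_two⟩
  have : Fintype (IrrCharacter G) := Fintype.ofFinite _
  obtain ⟨g₀, hg₀⟩ := hconj
  let P : Sylow 2 G := default
  have : Fintype (P : Subgroup G) := Fintype.ofFinite _
  have hres : ∀ χ : IrrCharacter G, IsCharacter N (fun n : N => (χ : G → ℂ) n) := fun χ =>
    isCharacter_restrict N (IrrCharacter_isCharacter χ)
  have hresP : ∀ χ : IrrCharacter G,
      IsCharacter (P : Subgroup G) (fun u : (P : Subgroup G) => (χ : G → ℂ) u) := fun χ =>
    isCharacter_restrict (P : Subgroup G) (IrrCharacter_isCharacter χ)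
  choose e he using fun χ : IrrCharacter G =>
    classInner_char_nat (hres χ) (IrrCharacter_isCharacter φ)
  choose a ha using fun χ : IrrCharacter G =>
    classInner_char_nat (hresP χ) (isCharacter_one (G := (P : Subgroup G)))
  -- the induced character
  set Ψ := indFun N (φ : N → ℂ) with hΨ
  have hΨcl : IsClassFunction G Ψ := Cfsg.Agent.Lib.Helper34.indFun_isClassFunction N _
  have hcoef : ∀ χ : IrrCharacter G, classInner Ψ (χ : G → ℂ) = e χ := by
    intro χ
    rw [hΨ, Cfsg.Agent.Lib.Helper34.classInner_indFun_left N _ _ (isClassFunction_irr χ),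
      ← classInner_conj_symm, he, Complex.conj_natCast]
  have hdecomp : Ψ = ∑ χ : IrrCharacter G, (e χ : ℂ) • (χ : G → ℂ) := by
    conv_lhs => rw [classFunction_eq_sum_irr hΨcl]
    exact Finset.sum_congr rfl fun χ _ => by rw [hcoef]
  -- sum over P
  have hsumP : ∑ u : (P : Subgroup G), Ψ (u : G) = Ψ 1 := by
    rw [Finset.sum_eq_single (1 : (P : Subgroup G))]
    · rw [Subgroup.coe_one]
    · intro u _ hu
      apply indFun_eq_zero_of_full_part N φ Nat.prime_two hdef
      obtain ⟨k, hk⟩ := (IsPGroup.iff_orderOf.1 P.2) u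
      rw [Subgroup.orderOf_coe, hk]
      have hk0 : k ≠ 0 := by
        rintro rfl
        rw [pow_zero, orderOf_eq_one_iff] at hk
        exact hu hk
      exact dvd_pow_self 2 hk0
    · intro h; exact absurd (Finset.mem_univ _) h
  have hPsum : ∀ χ : IrrCharacter G, ∑ u : (P : Subgroup G), (χ : G → ℂ) (u : G) =
      (Nat.card (P : Subgroup G) : ℂ) * a χ := by
    intro χ
    rw [← ha χ, classInner_def]
    simp only [map_one, mul_one]
    rw [← mul_assoc, mul_inv_cancel₀ card_ne_zero_complex, one_mul]
  have hmain : ((∑ χ : IrrCharacter G, e χ * a χ : ℕ) : ℂ) * (Nat.card (P : Subgroup G) : ℂ) =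
      (N.index : ℂ) * (charDegree (φ : N → ℂ) : ℂ) := by
    rw [charDegree_cast (IrrCharacter_isCharacter φ), ← indFun_apply_one' N, ← hΨ, ← hsumP]
    simp_rw [hdecomp]
    simp only [Finset.sum_apply, Pi.smul_apply, smul_eq_mul]
    rw [Finset.sum_comm]
    push_cast
    rw [Finset.sum_mul]
    refine Finset.sum_congr rfl fun χ _ => ?_
    rw [← Finset.mul_sum, hPsum]
    ring
  have hmainN : (∑ χ : IrrCharacter G, e χ * a χ) * Nat.card (P : Subgroup G) =
      N.index * charDegree (φ : N → ℂ) := by
    exact_mod_cast hmain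
  -- arithmetic
  set ν := (Nat.card N).factorization 2 with hν
  obtain ⟨k, hk⟩ := IsPGroup.iff_card.mp h2
  have hidx : N.index = 2 ^ k := by rw [Subgroup.index_eq_card, hk]
  have hPcard : Nat.card (P : Subgroup G) = 2 ^ ν * N.index := by
    rw [Sylow.card_eq_multiplicity, ← Subgroup.card_mul_index N,
      Nat.factorization_mul Nat.card_pos.ne' (by rw [hidx]; positivity), Finsupp.add_apply,
      pow_add, hidx, Nat.factorization_pow, Finsupp.smul_apply,
      Nat.Prime.factorization_self Nat.prime_two, smul_eq_mul, mul_one]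
  obtain ⟨c, hc⟩ := hdef
  have hS : ∑ χ : IrrCharacter G, e χ * a χ = c := by
    rw [hPcard, hc] at hmainN
    have hpos : 0 < 2 ^ ν * N.index := by rw [hidx]; positivity
    apply Nat.eq_of_mul_eq_mul_right hpos
    rw [hmainN]; ring
  have hcodd : Odd c := by
    by_contra hce
    rw [Nat.not_odd_iff_even] at hce
    obtain ⟨c', hc'⟩ := hce
    have hdvd : 2 ^ (ν + 1) ∣ Nat.card N := by
      refine dvd_trans ?_ (irr_charDegree_dvd_card φ)
      rw [hc, hc', pow_succ]; exact ⟨c', by ring⟩
    exact Nat.pow_succ_factorization_not_dvd Nat.card_pos.ne' Nat.prime_two hdvd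
  -- complex conjugation preserves the multiplicities
  have hσe : ∀ χ : IrrCharacter G, e (conjIrr' χ) = e χ := by
    intro χ
    have h1 : classInner (fun n : N => ((conjIrr' χ : IrrCharacter G) : G → ℂ) n) (φ : N → ℂ) =
        conj (classInner (fun n : N => (χ : G → ℂ) n) (fun n => conj ((φ : N → ℂ) n))) := by
      rw [classInner_def, classInner_def, map_mul, map_inv₀, Complex.conj_natCast, map_sum]
      congr 1
      refine Finset.sum_congr rfl fun n _ => ?_
      rw [map_mul, Complex.conj_conj]; rfl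
    rw [← hg₀, classInner_restrict_conjFun N (isClassFunction_irr χ), he χ, Complex.conj_natCast,
      he] at h1
    exact_mod_cast h1
  have hσa : ∀ χ : IrrCharacter G, a (conjIrr' χ) = a χ := by
    intro χ
    have h1 : classInner (fun u : (P : Subgroup G) => ((conjIrr' χ : IrrCharacter G) : G → ℂ) u)
        (fun _ => 1) =
        conj (classInner (fun u : (P : Subgroup G) => (χ : G → ℂ) u) (fun _ => 1)) := by
      rw [classInner_def, classInner_def, map_mul, map_inv₀, Complex.conj_natCast, map_sum]
      congr 1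
      refine Finset.sum_congr rfl fun u _ => ?_
      rw [map_mul, map_one, map_one]; rfl
    rw [ha, ha, Complex.conj_natCast] at h1
    exact_mod_cast h1
  have hσσ : ∀ χ : IrrCharacter G, conjIrr' (conjIrr' χ) = χ := by
    intro χ
    apply Subtype.ext
    funext g
    rw [conjIrr'_apply, conjIrr'_apply, Complex.conj_conj]
  -- a real character with both multiplicities odd
  have hex : ∃ χ : IrrCharacter G, conjIrr' χ = χ ∧ Odd (e χ * a χ) := by
    by_contra hno
    push Not at hno
    have hz : ∑ χ : IrrCharacter G, ((e χ * a χ : ℕ) : ZMod 2) = 0 := by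
      apply Finset.sum_involution (fun χ _ => conjIrr' χ)
      · intro χ _
        rw [hσe, hσa]
        exact CharTwo.add_self_eq_zero _
      · intro χ _ hne hfix
        apply hne
        have := hno χ hfix
        rw [Nat.not_odd_iff_even] at this
        exact (ZMod.natCast_eq_zero_iff_even).mpr this
      · intro χ _; exact hσσ χ
      · intro χ _; exact Finset.mem_univ _
    rw [← Nat.cast_sum, hS] at hz
    exact (Nat.not_even_iff_odd.mpr hcodd) ((ZMod.natCast_eq_zero_iff_even).mp hz)
  obtain ⟨χ₀, hfix, hodd⟩ := hex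
  obtain ⟨heo, hao⟩ := Nat.odd_mul.mp hodd
  have hreal := (conjIrr'_eq_iff χ₀).mp hfix
  have he1 : e χ₀ = 1 := by
    have hdvd := mult_dvd_index N χ₀ φ (e χ₀) (he χ₀) heo.pos.ne'
    rw [hidx] at hdvd
    obtain ⟨j, hj, hej⟩ := (Nat.dvd_prime_pow Nat.prime_two).mp hdvd
    rcases Nat.eq_zero_or_pos j with h0 | hpos
    · rw [hej, h0, pow_zero]
    · exfalso
      rw [hej] at heo
      exact (Nat.not_even_iff_odd.mpr heo) (Nat.even_pow.mpr ⟨even_two, hpos.ne'⟩)
  refine ⟨χ₀, ?_, by rw [he, he1, Nat.cast_one]⟩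
  obtain ⟨n, ρ, hirr, hρ⟩ := χ₀.2
  haveI := hirr
  have hcases := fsInd_real_cases ρ (by rw [hρ]; exact hreal)
  rw [hρ] at hcases
  rcases hcases with h | ⟨h, _⟩
  · exact h
  · exfalso
    have := even_classInner_restrict_one χ₀ hreal h (P : Subgroup G) (a χ₀) (ha χ₀)
    exact (Nat.not_even_iff_odd.mpr hao) this

end DefectZeroReal

end Cfsg.Agent.Lib.Helper84
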