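import Mathlib

/-!
# K-G42 pack (S2553), leaf 255314 L10: `GL_4(2)` has no simple subgroup of order 1344

Route: a simple group of order `1344` has no proper subgroup of index `≤ 7` (`1344 ∤ 7!`).  Hence an
invariant set of `≤ 7` points is fixed pointwise and an invariant set of `15` points contains a fixed point.
Dual action on the `15` nonzero functionals: a fixed functional `f ≠ 0`; the `7` nonzero vectors of `ker f` are
fixed pointwise; then `g ^ 2 = 1` for all `g`, contradicting `7 ∣ 1344`.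
-/

set_option autoImplicit false

namespace Cfsg.Agent.Lib.Helper84.G42

open Matrix

section Abstract

variable {H : Type*} [Group H] [Finite H]

/-- a simple group of order 1344 has no proper subgroup of index `≤ 7` -/
theorem eq_top_of_index_le_seven (hs : IsSimpleGroup H) (hc : Nat.card H = 1344) (L : Subgroup H)
    (hL : L.index ≤ 7) : L = ⊤ := by
  classical
  by_contra hne
  have hcore : L.normalCore = ⊥ := by
    rcases hs.eq_bot_or_eq_top_of_normal L.normalCore (Subgroup.normalCore_normal L) with h | h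
    · exact h
    · exfalso
      apply hne
      rw [eq_top_iff, ← h]
      exact Subgroup.normalCore_le L
  have hinj : Function.Injective (MulAction.toPermHom H (H ⧸ L)) := by
    rw [← MonoidHom.ker_eq_bot_iff, ← Subgroup.normalCore_eq_ker, hcore]
  have hdvd : Nat.card H ∣ Nat.card (Equiv.Perm (H ⧸ L)) :=
    Subgroup.card_dvd_of_injective _ hinj
  haveI : Fintype (H ⧸ L) := Fintype.ofFinite _
  have hcardP : Nat.card (Equiv.Perm (H ⧸ L)) = (L.index).factorial := by
    rw [Nat.card_eq_fintype_card, Fintype.card_perm, ← Nat.card_eq_fintype_card,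
      ← Subgroup.index_eq_card]
  rw [hc, hcardP] at hdvd
  have h7 : (L.index).factorial ∣ (7 : ℕ).factorial := Nat.factorial_dvd_factorial hL
  have := hdvd.trans h7
  norm_num [Nat.factorial] at this

variable {X : Type*} [MulAction H X]

/-- a point with an orbit of size `≤ 7` is fixed -/
theorem fixed_of_orbit_le_seven (hs : IsSimpleGroup H) (hc : Nat.card H = 1344) (x : X)
    (Y : Finset X) (hY : Y.card ≤ 7) (hsub : ∀ g : H, g • x ∈ Y) : ∀ g : H, g • x = x := by
  classical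
  have hidx : (MulAction.stabilizer H x).index ≤ 7 := by
    rw [MulAction.index_stabilizer]
    have hss : MulAction.orbit H x ⊆ (Y : Set X) := by
      rintro _ ⟨g, rfl⟩
      exact hsub g
    calc (MulAction.orbit H x).ncard ≤ (Y : Set X).ncard := Set.ncard_le_ncard hss (Finset.finite_toSet Y)
      _ = Y.card := Set.ncard_coe_finset Y
      _ ≤ 7 := hY
  have htop := eq_top_of_index_le_seven hs hc _ hidx
  intro g
  have : g ∈ MulAction.stabilizer H x := by rw [htop]; exact Subgroup.mem_top g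
  exact this

/-- an invariant set of `≤ 7` points is fixed pointwise -/
theorem fixed_of_invariant_le_seven (hs : IsSimpleGroup H) (hc : Nat.card H = 1344)
    (Y : Finset X) (hY : Y.card ≤ 7) (hinv : ∀ g : H, ∀ y ∈ Y, g • y ∈ Y) :
    ∀ y ∈ Y, ∀ g : H, g • y = y :=
  fun y hy => fixed_of_orbit_le_seven hs hc y Y hY (fun g => hinv g y hy)

/-- an invariant set of `15` points contains a fixed point -/
theorem exists_fixed_of_invariant_fifteen [DecidableEq X] (hs : IsSimpleGroup H)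
    (hc : Nat.card H = 1344)
    (Y : Finset X) (hY : Y.card = 15) (hinv : ∀ g : H, ∀ y ∈ Y, g • y ∈ Y) :
    ∃ y ∈ Y, ∀ g : H, g • y = y := by
  classical
  haveI : Fintype H := Fintype.ofFinite H
  have hne : Y.Nonempty := by
    rw [← Finset.card_pos, hY]; norm_num
  obtain ⟨y0, hy0⟩ := hne
  -- the orbit of `y0` as a finset
  let O : Finset X := Finset.univ.image (fun g : H => g • y0)
  have hOmem : ∀ z, z ∈ O ↔ ∃ g : H, g • y0 = z := by
    intro z
    simp [O]
  have hOY : O ⊆ Y := by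
    intro z hz
    obtain ⟨g, rfl⟩ := (hOmem z).1 hz
    exact hinv g y0 hy0
  have hOcard : O.card = (MulAction.orbit H y0).ncard := by
    rw [← Set.ncard_coe_finset]
    congr 1
    ext z
    simp only [Finset.mem_coe, hOmem, MulAction.mem_orbit_iff]
  have hOdvd : O.card ∣ 1344 := by
    rw [hOcard, ← MulAction.index_stabilizer, ← hc]
    exact Subgroup.index_dvd_card _
  by_cases hle : O.card ≤ 7
  · refine ⟨y0, hy0, fixed_of_orbit_le_seven hs hc y0 O hle (fun g => (hOmem _).2 ⟨g, rfl⟩)⟩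
  · -- the complement of the orbit in `Y`
    have hO15 : O.card ≤ 15 := hY ▸ Finset.card_le_card hOY
    have hOne : O.card ≠ 15 := by
      intro h
      rw [h] at hOdvd
      norm_num at hOdvd
    have hRcard : (Y \ O).card ≤ 7 := by
      have := Finset.card_sdiff_add_card_eq_card hOY
      omega
    have hRpos : 0 < (Y \ O).card := by
      have := Finset.card_sdiff_add_card_eq_card hOY
      omega
    obtain ⟨y1, hy1⟩ := Finset.card_pos.mp hRpos
    have hRinv : ∀ g : H, ∀ y ∈ Y \ O, g • y ∈ Y \ O := by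
      intro g y hy
      rw [Finset.mem_sdiff] at hy ⊢
      refine ⟨hinv g y hy.1, fun hgy => hy.2 ?_⟩
      obtain ⟨k, hk⟩ := (hOmem _).1 hgy
      refine (hOmem _).2 ⟨g⁻¹ * k, ?_⟩
      rw [mul_smul, hk, inv_smul_smul]
    exact ⟨y1, (Finset.mem_sdiff.mp hy1).1,
      fixed_of_invariant_le_seven hs hc (Y \ O) hRcard hRinv y1 hy1⟩

end Abstract

/-- the natural action on column vectors -/
def actCol (H : Subgroup (GL (Fin 4) (ZMod 2))) : MulAction ↥H (Fin 4 → ZMod 2) where
  smul g w := ((g : GL (Fin 4) (ZMod 2)) : Matrix (Fin 4) (Fin 4) (ZMod 2)) *ᵥ w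
  one_smul w := by
    show ((1 : GL (Fin 4) (ZMod 2)) : Matrix (Fin 4) (Fin 4) (ZMod 2)) *ᵥ w = w
    simp
  mul_smul g h w := by
    show (((g : GL (Fin 4) (ZMod 2)) * (h : GL (Fin 4) (ZMod 2)) : GL (Fin 4) (ZMod 2)) :
        Matrix (Fin 4) (Fin 4) (ZMod 2)) *ᵥ w =
      ((g : GL (Fin 4) (ZMod 2)) : Matrix (Fin 4) (Fin 4) (ZMod 2)) *ᵥ
        (((h : GL (Fin 4) (ZMod 2)) : Matrix (Fin 4) (Fin 4) (ZMod 2)) *ᵥ w)
    rw [Units.val_mul, Matrix.mulVec_mulVec]

/-- the dual action on row vectors -/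
def actRow (H : Subgroup (GL (Fin 4) (ZMod 2))) : MulAction ↥H (Fin 4 → ZMod 2) where
  smul g f := f ᵥ* (((g : GL (Fin 4) (ZMod 2))⁻¹ : GL (Fin 4) (ZMod 2)) :
    Matrix (Fin 4) (Fin 4) (ZMod 2))
  one_smul f := by
    show f ᵥ* (((1 : GL (Fin 4) (ZMod 2))⁻¹ : GL (Fin 4) (ZMod 2)) :
      Matrix (Fin 4) (Fin 4) (ZMod 2)) = f
    simp
  mul_smul g h f := by
    show f ᵥ* ((((g : GL (Fin 4) (ZMod 2)) * (h : GL (Fin 4) (ZMod 2)))⁻¹ : GL (Fin 4) (ZMod 2)) :
        Matrix (Fin 4) (Fin 4) (ZMod 2)) =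
      (f ᵥ* (((h : GL (Fin 4) (ZMod 2))⁻¹ : GL (Fin 4) (ZMod 2)) :
        Matrix (Fin 4) (Fin 4) (ZMod 2))) ᵥ*
        (((g : GL (Fin 4) (ZMod 2))⁻¹ : GL (Fin 4) (ZMod 2)) : Matrix (Fin 4) (Fin 4) (ZMod 2))
    rw [_root_.mul_inv_rev, Units.val_mul, Matrix.vecMul_vecMul]

/-- the kernel of a nonzero functional on `F_2^4` has at most 7 nonzero vectors -/
theorem card_ker_le : ∀ f : Fin 4 → ZMod 2, f ≠ 0 →
    (Finset.univ.filter (fun w : Fin 4 → ZMod 2 => w ≠ 0 ∧ f ⬝ᵥ w = 0)).card ≤ 7 := by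
  decide

theorem card_nonzero :
    (Finset.univ.filter (fun w : Fin 4 → ZMod 2 => w ≠ 0)).card = 15 := by
  decide

/-- 255314 L10: `GL_4(2)` has no simple subgroup of order 1344. -/
theorem no_simple_1344 (H : Subgroup (GL (Fin 4) (ZMod 2))) (hs : IsSimpleGroup ↥H) (hc : Nat.card ↥H = 1344) :
    False := by
  classical
  -- matrices of elements and of inverses
  have hinvmul : ∀ g : ↥H, (((g : GL (Fin 4) (ZMod 2))⁻¹ : GL (Fin 4) (ZMod 2)) :
      Matrix (Fin 4) (Fin 4) (ZMod 2)) * ((g : GL (Fin 4) (ZMod 2)) : Matrix (Fin 4) (Fin 4) (ZMod 2)) = 1 :=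
    fun g => by rw [← Units.val_mul, inv_mul_cancel, Units.val_one]
  have hmulinv : ∀ g : ↥H, ((g : GL (Fin 4) (ZMod 2)) : Matrix (Fin 4) (Fin 4) (ZMod 2)) *
      (((g : GL (Fin 4) (ZMod 2))⁻¹ : GL (Fin 4) (ZMod 2)) : Matrix (Fin 4) (Fin 4) (ZMod 2)) = 1 :=
    fun g => by rw [← Units.val_mul, mul_inv_cancel, Units.val_one]
  -- step B: a fixed nonzero functional
  obtain ⟨f, hfY, hffix⟩ := @exists_fixed_of_invariant_fifteen ↥H _ _ (Fin 4 → ZMod 2) (actRow H) _ hs hc
    (Finset.univ.filter (fun w : Fin 4 → ZMod 2 => w ≠ 0)) card_nonzero (by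
      intro g y hy
      rw [Finset.mem_filter] at hy ⊢
      refine ⟨Finset.mem_univ _, fun h0 => hy.2 ?_⟩
      have h1 : y ᵥ* (((g : GL (Fin 4) (ZMod 2))⁻¹ : GL (Fin 4) (ZMod 2)) :
          Matrix (Fin 4) (Fin 4) (ZMod 2)) = 0 := h0
      have h2 := congrArg (fun z => z ᵥ* ((g : GL (Fin 4) (ZMod 2)) : Matrix (Fin 4) (Fin 4) (ZMod 2))) h1
      simp only [Matrix.vecMul_vecMul, hinvmul g, Matrix.vecMul_one, Matrix.zero_vecMul] at h2
      exact h2)
  have hf0 : f ≠ 0 := (Finset.mem_filter.mp hfY).2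
  have hffix' : ∀ g : ↥H, f ᵥ* ((g : GL (Fin 4) (ZMod 2)) : Matrix (Fin 4) (Fin 4) (ZMod 2)) = f := by
    intro g
    have h1 : f ᵥ* (((g : GL (Fin 4) (ZMod 2))⁻¹ : GL (Fin 4) (ZMod 2)) :
        Matrix (Fin 4) (Fin 4) (ZMod 2)) = f := hffix g
    have h2 := congrArg (fun z => z ᵥ* ((g : GL (Fin 4) (ZMod 2)) : Matrix (Fin 4) (Fin 4) (ZMod 2))) h1
    simp only [Matrix.vecMul_vecMul, hinvmul g, Matrix.vecMul_one] at h2
    exact h2.symm
  -- step C: the kernel of `f` is fixed pointwise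
  have hker : ∀ w : Fin 4 → ZMod 2, f ⬝ᵥ w = 0 → ∀ g : ↥H,
      ((g : GL (Fin 4) (ZMod 2)) : Matrix (Fin 4) (Fin 4) (ZMod 2)) *ᵥ w = w := by
    intro w hw g
    by_cases hw0 : w = 0
    · rw [hw0, Matrix.mulVec_zero]
    · have := @fixed_of_invariant_le_seven ↥H _ _ (Fin 4 → ZMod 2) (actCol H) hs hc
        (Finset.univ.filter (fun w : Fin 4 → ZMod 2 => w ≠ 0 ∧ f ⬝ᵥ w = 0)) (card_ker_le f hf0) (by
          intro g y hy
          rw [Finset.mem_filter] at hy ⊢
          refine ⟨Finset.mem_univ _, fun h0 => hy.2.1 ?_, ?_⟩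
          · have h1 : ((g : GL (Fin 4) (ZMod 2)) : Matrix (Fin 4) (Fin 4) (ZMod 2)) *ᵥ y = 0 := h0
            have h2 := congrArg (fun z => (((g : GL (Fin 4) (ZMod 2))⁻¹ : GL (Fin 4) (ZMod 2)) :
              Matrix (Fin 4) (Fin 4) (ZMod 2)) *ᵥ z) h1
            simp only [Matrix.mulVec_mulVec, hinvmul g, Matrix.one_mulVec, Matrix.mulVec_zero] at h2
            exact h2
          · show f ⬝ᵥ (((g : GL (Fin 4) (ZMod 2)) : Matrix (Fin 4) (Fin 4) (ZMod 2)) *ᵥ y) = 0
            rw [Matrix.dotProduct_mulVec, hffix' g]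
            exact hy.2.2) w (Finset.mem_filter.mpr ⟨Finset.mem_univ _, hw0, hw⟩) g
      exact this
  -- step D: every element squares to one
  have hsq : ∀ g : ↥H, g * g = 1 := by
    intro g
    apply Subtype.ext
    apply Units.ext
    show ((g : GL (Fin 4) (ZMod 2)) * (g : GL (Fin 4) (ZMod 2)) : GL (Fin 4) (ZMod 2)).1 = 1
    rw [Units.val_mul]
    set A := ((g : GL (Fin 4) (ZMod 2)) : Matrix (Fin 4) (Fin 4) (ZMod 2)) with hA
    have hall : ∀ w : Fin 4 → ZMod 2, (A * A) *ᵥ w = w := by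
      intro w
      have ha : f ⬝ᵥ (A *ᵥ w - w) = 0 := by
        rw [dotProduct_sub, Matrix.dotProduct_mulVec, hffix' g, sub_self]
      have h1 := hker _ ha g
      rw [← hA, Matrix.mulVec_sub] at h1
      -- A (A w) - A w = A w - w
      rw [← Matrix.mulVec_mulVec]
      have h2 : A *ᵥ (A *ᵥ w) = A *ᵥ w + (A *ᵥ w - w) := by
        rw [← h1]; abel
      rw [h2]
      have h3 : ∀ x : Fin 4 → ZMod 2, x + x = 0 := by
        intro x
        ext i
        have : ∀ a : ZMod 2, a + a = 0 := by decide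
        exact this (x i)
      have : A *ᵥ w + (A *ᵥ w - w) = (A *ᵥ w + A *ᵥ w) - w := by abel
      rw [this, h3, zero_sub]
      have h4 : ∀ x : Fin 4 → ZMod 2, -x = x := by
        intro x
        ext i
        have : ∀ a : ZMod 2, -a = a := by decide
        exact this (x i)
      exact h4 w
    ext i j
    have := congrFun (hall (Pi.single j 1)) i
    rw [Matrix.mulVec_single_one] at this
    simpa [Matrix.one_apply, Pi.single_apply, eq_comm] using this
  -- an element of order 7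
  haveI : Fintype ↥H := Fintype.ofFinite _
  have h7 : 7 ∣ Fintype.card ↥H := by
    rw [← Nat.card_eq_fintype_card, hc]; norm_num
  haveI : Fact (Nat.Prime 7) := ⟨by norm_num⟩
  obtain ⟨g, hg⟩ := exists_prime_orderOf_dvd_card 7 h7
  have h2 : orderOf g ∣ 2 := orderOf_dvd_of_pow_eq_one (by rw [pow_two]; exact hsq g)
  rw [hg] at h2
  norm_num at h2

end Cfsg.Agent.Lib.Helper84.G42
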