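import Cfsg.Agent.Lib.Helper84.GreenGroup

set_option autoImplicit false
set_option linter.unusedSectionVars false

namespace Cfsg.Agent.Lib.Helper84.GreenGlue

open Cfsg Cfsg.Agent.Lib.Helper82 Cfsg.Agent.Lib.Helper84.GreenZero

universe u

variable {G : Type u} [Group G] [Finite G] {p : ℕ} [Fact p.Prime] {M : Ideal AlgInt}

set_option maxHeartbeats 1600000 in
/-- Group-theoretic core of Green's theorem. -/
theorem green_core (hMp : IsPModular p M) (D L : Subgroup G)
    (hL : L = D ⊔ Subgroup.centralizer (D : Set G))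
    (θ : ↥L → ℂ) (hθ : IsIrrCharacter ↥L θ)
    (hker : ∀ x : ↥L, (x : G) ∈ D → θ x = θ 1)
    (hdeg : (charDegree θ).factorization p = (D.subgroupOf L).index.factorization p)
    (g : G) (S : Sylow p (Subgroup.centralizer ({g} : Set G)))
    (hS : D = (S : Subgroup (Subgroup.centralizer ({g} : Set G))).map
      (Subgroup.centralizer ({g} : Set G)).subtype)
    (hreg : ¬ p ∣ orderOf g)
    (hω : ¬ MemLocalIdeal M (brauerCentralChar D L θ g))
    (P : Sylow p G) (hDP : D ≤ P) :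
    ∃ n ∈ Subgroup.normalizer (D : Set G),
      (P : Subgroup G) ⊓ (P : Subgroup G).map (MulAut.conj (n * g * n⁻¹)).toMonoidHom = D := by
  classical
  have hM : M.IsPrime := hMp.2.1.isPrime
  have hp : p.Prime := Fact.out
  have hDp : IsPGroup p D := by rw [hS]; exact S.isPGroup'.map _
  -- D centralizes g
  have hDg : ∀ d ∈ D, d * g = g * d := by
    intro d hd
    rw [hS] at hd
    obtain ⟨s, _, rfl⟩ := Subgroup.mem_map.mp hd
    have := s.2
    rw [Subgroup.mem_centralizer_iff] at this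
    exact (this g rfl).symm
  have hgD : g ∈ Subgroup.centralizer (D : Set G) := by
    rw [Subgroup.mem_centralizer_iff]
    intro d hd
    exact hDg d hd
  set N : Subgroup G := Subgroup.normalizer (D : Set G) with hN
  have hDN : D ≤ N := Subgroup.le_normalizer
  have hCN : Subgroup.centralizer (D : Set G) ≤ N := Subgroup.centralizer_le_normalizer _
  have hDL : D ≤ L := by rw [hL]; exact le_sup_left
  have hCL : Subgroup.centralizer (D : Set G) ≤ L := by rw [hL]; exact le_sup_right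
  have hLN : L ≤ N := by rw [hL]; exact sup_le hDN hCN
  -- N normalizes L
  have hNL : ∀ n ∈ N, ∀ l ∈ L, n * l * n⁻¹ ∈ L := by
    intro n hn l hl
    have hle : L ≤ L.comap (MulAut.conj n).toMonoidHom := by
      conv_lhs => rw [hL]
      apply sup_le
      · intro d hd
        rw [Subgroup.mem_comap]
        apply hDL
        have := (Subgroup.mem_normalizer_iff.mp hn d).mp hd
        simpa [MulAut.conj_apply] using this
      · intro c hc
        rw [Subgroup.mem_comap]
        apply hCL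
        have := conj_mem_centralizer hn hc
        simpa [MulAut.conj_apply] using this
    have := hle hl
    rw [Subgroup.mem_comap] at this
    simpa [MulAut.conj_apply] using this
  -- the quotient X = N / D
  let Dn : Subgroup ↥N := D.subgroupOf N
  have hDnN : Dn.Normal := Subgroup.normal_in_normalizer
  let π : ↥N →* (↥N ⧸ Dn) := QuotientGroup.mk' Dn
  have hπs : Function.Surjective π := QuotientGroup.mk'_surjective Dn
  have hπ1 : ∀ n : ↥N, π n = 1 ↔ (n : G) ∈ D := by
    intro n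
    rw [QuotientGroup.mk'_apply, QuotientGroup.eq_one_iff]
    exact Subgroup.mem_subgroupOf
  let Ln : Subgroup ↥N := L.subgroupOf N
  have hLnN : Ln.Normal := by
    constructor
    intro l hl n
    rw [Subgroup.mem_subgroupOf] at hl ⊢
    exact hNL n n.2 l hl
  let Y : Subgroup (↥N ⧸ Dn) := Ln.map π
  have hYn : Y.Normal := hLnN.map π hπs
  let _ : Fintype (↥N ⧸ Dn) := Fintype.ofFinite _
  -- the surjection L → Y
  let f' : ↥L →* ↥Y := (π.comp (Subgroup.inclusion hLN)).codRestrict Y (by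
    intro l
    exact Subgroup.mem_map.mpr ⟨Subgroup.inclusion hLN l, Subgroup.mem_subgroupOf.mpr l.2, rfl⟩)
  have hf'val : ∀ l : ↥L, ((f' l : ↥Y) : ↥N ⧸ Dn) = π ⟨(l : G), hLN l.2⟩ := fun l => rfl
  have hf's : Function.Surjective f' := by
    intro yy
    obtain ⟨n, hn, hny⟩ := Subgroup.mem_map.mp yy.2
    refine ⟨⟨(n : G), Subgroup.mem_subgroupOf.mp hn⟩, ?_⟩
    apply Subtype.ext
    rw [hf'val, ← hny]
  have hf'ker : ∀ l : ↥L, f' l = 1 → θ l = θ 1 := by
    intro l hl
    apply hker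
    have := congrArg Subtype.val hl
    rw [hf'val] at this
    exact (hπ1 _).mp this
  obtain ⟨ψ, hψ, hψval⟩ := Cfsg.Agent.Lib.Helper80.exists_irr_descend f' hf's hθ hf'ker
  have hψ1 : ψ 1 = θ 1 := by rw [← hψval 1, map_one]
  have hcardY : Nat.card ↥Y = (D.subgroupOf L).index := by
    have h1 := Subgroup.index_ker f'
    have h2 : f'.ker = D.subgroupOf L := by
      ext l
      rw [MonoidHom.mem_ker, Subgroup.mem_subgroupOf]
      constructor
      · intro hl
        have := congrArg Subtype.val hl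
        rw [hf'val] at this
        exact (hπ1 _).mp this
      · intro hl
        apply Subtype.ext
        rw [hf'val]
        exact (hπ1 _).mpr hl
    have h3 : f'.range = ⊤ := MonoidHom.range_eq_top.mpr hf's
    rw [h2, h3, Subgroup.card_top] at h1
    exact h1.symm
  have hdegψ : ¬ p ∣ Nat.card ↥Y / charDegree ψ := by
    have hcd : charDegree ψ = charDegree θ := by
      unfold charDegree
      rw [hψ1]
    apply (factorization_le_iff_not_dvd hp (⟨ψ, hψ⟩ : IrrCharacter ↥Y)).mp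
    change (Nat.card ↥Y).factorization p ≤ (charDegree ψ).factorization p
    rw [hcardY, hcd, hdeg]
  -- the element ȳ
  have hgN : g ∈ N := hCN hgD
  have hgL : g ∈ L := hCL hgD
  let yb : ↥N ⧸ Dn := π ⟨g, hgN⟩
  have hybY : yb ∈ Y := Subgroup.mem_map.mpr ⟨⟨g, hgN⟩, Subgroup.mem_subgroupOf.mpr hgL, rfl⟩
  -- maximality of D among p-subgroups of C(g)
  have hmax : ∀ R : Subgroup G, IsPGroup p R → D ≤ R → R ≤ Subgroup.centralizer ({g} : Set G) →
      R ≤ D := by
    intro R hR hDR hRC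
    have hR' : IsPGroup p (R.subgroupOf (Subgroup.centralizer ({g} : Set G))) := hR.comap_subtype
    have hle : (S : Subgroup (Subgroup.centralizer ({g} : Set G))) ≤
        R.subgroupOf (Subgroup.centralizer ({g} : Set G)) := by
      intro s hs
      rw [Subgroup.mem_subgroupOf]
      apply hDR
      rw [hS]
      exact Subgroup.mem_map.mpr ⟨s, hs, rfl⟩
    have heq := S.3 hR' hle
    intro r hr
    have : (⟨r, hRC hr⟩ : Subgroup.centralizer ({g} : Set G)) ∈
        R.subgroupOf (Subgroup.centralizer ({g} : Set G)) := Subgroup.mem_subgroupOf.mpr hr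
    rw [heq] at this
    rw [hS]
    exact Subgroup.mem_map.mpr ⟨_, this, rfl⟩
  -- no p-element of X centralizes ȳ
  have hcent : ∀ c : ↥N ⧸ Dn, c * yb = yb * c → ∀ k : ℕ, c ^ (p ^ k) = 1 → c = 1 := by
    intro c hc k hk
    obtain ⟨n, rfl⟩ := hπs c
    -- d = n g n⁻¹ g⁻¹ ∈ D
    have hd : (n : G) * g * (n : G)⁻¹ * g⁻¹ ∈ D := by
      have h1 : π (n * ⟨g, hgN⟩ * n⁻¹ * ⟨g, hgN⟩⁻¹) = 1 := by
        rw [map_mul, map_mul, map_mul, map_inv, map_inv]
        change π n * yb * (π n)⁻¹ * yb⁻¹ = 1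
        rw [hc]; group
      exact (hπ1 _).mp h1
    have hdcomm : Commute ((n : G) * g * (n : G)⁻¹ * g⁻¹) g := by
      exact hDg _ hd
    have hconj : IsConj g (((n : G) * g * (n : G)⁻¹ * g⁻¹) * g) := by
      rw [isConj_iff]
      exact ⟨(n : G), by group⟩
    obtain ⟨j, hj⟩ := hDp ⟨_, hd⟩
    have hj' : ((n : G) * g * (n : G)⁻¹ * g⁻¹) ^ (p ^ j) = 1 := by
      have := congrArg Subtype.val hj
      simpa using this
    have hd1 := eq_one_of_mul_isConj hp hreg ⟨j, hj'⟩ hdcomm hconj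
    have hng : (n : G) * g = g * (n : G) := by
      have : (n : G) * g * (n : G)⁻¹ * g⁻¹ * (g * (n : G)) = g * (n : G) := by rw [hd1, one_mul]
      rw [← this]; group
    -- n is a p-element
    have hnk : (n : G) ^ (p ^ k) ∈ D := by
      have h1 : π (n ^ (p ^ k)) = 1 := by rw [map_pow, hk]
      have := (hπ1 _).mp h1
      simpa using this
    obtain ⟨i, hi⟩ := hDp ⟨_, hnk⟩
    have hi' : ((n : G) ^ (p ^ k)) ^ (p ^ i) = 1 := by
      have := congrArg Subtype.val hi
      simpa using this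
    have hzp : IsPGroup p (Subgroup.zpowers (n : G)) := by
      rw [IsPGroup.iff_orderOf]
      intro z
      have hzn : (n : G) ^ (p ^ (k + i)) = 1 := by rw [pow_add, pow_mul]; exact hi'
      have hon : orderOf (n : G) ∣ p ^ (k + i) := orderOf_dvd_of_pow_eq_one hzn
      have hoz : orderOf z ∣ orderOf (n : G) := by
        rw [← Subgroup.orderOf_coe]
        obtain ⟨m, hm⟩ := Subgroup.mem_zpowers_iff.mp z.2
        rw [← hm]
        exact orderOf_dvd_of_pow_eq_one (by rw [← zpow_natCast, ← zpow_mul, mul_comm, zpow_mul, zpow_natCast, pow_orderOf_eq_one, one_zpow])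
      obtain ⟨t, _, ht⟩ := (Nat.dvd_prime_pow hp).mp (hoz.trans hon)
      exact ⟨t, ht⟩
    have hRp : IsPGroup p ↥(Subgroup.zpowers (n : G) ⊔ D) := by
      apply IsPGroup.to_sup_of_normal_right' hzp hDp
      rw [Subgroup.zpowers_le]
      exact n.2
    have hRD := hmax _ hRp le_sup_right (by
      apply sup_le
      · rw [Subgroup.zpowers_le, Subgroup.mem_centralizer_iff]
        intro z hz
        rw [Set.mem_singleton_iff] at hz
        rw [hz]; exact hng.symm
      · intro d hd'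
        rw [Subgroup.mem_centralizer_iff]
        intro z hz
        rw [Set.mem_singleton_iff] at hz
        rw [hz]; exact (hDg d hd').symm)
    have hnD : (n : G) ∈ D := hRD (Subgroup.mem_sup_left (Subgroup.mem_zpowers _))
    exact (hπ1 n).mpr hnD
  -- the central character value
  have hω' : ¬ MemLocalIdeal M ((∑ᶠ y' ∈ {y' : ↥N ⧸ Dn | IsConj yb y'}, extendByZero Y ψ y') / ψ 1) := by
    intro hcon
    apply hω
    have e1 : (∑ᶠ y' ∈ {y' : ↥N ⧸ Dn | IsConj yb y'}, extendByZero Y ψ y') / ψ 1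
        = ∑ᶠ y' ∈ {y' : ↥N ⧸ Dn | IsConj yb y'}, extendByZero Y ψ y' / ψ 1 := by
      rw [finsum_mem_eq_sum_filter', finsum_mem_eq_sum_filter', Finset.sum_div]
    rw [e1] at hcon
    unfold brauerCentralChar
    rw [finsum_mem_eq_of_bijOn (fun h : ↥L => ((f' h : ↥Y) : ↥N ⧸ Dn))
      (t := {y' : ↥N ⧸ Dn | IsConj yb y'}) (g := fun y' => extendByZero Y ψ y' / ψ 1)]
    · exact hcon
    · refine ⟨?_, ?_, ?_⟩
      · -- maps to
        intro h hh
        obtain ⟨hconj, hcen⟩ := hh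
        obtain ⟨n, hn, hnh⟩ := Cfsg.Agent.Lib.Helper21.isConj_normalizer_of_sylow_centralizer
          D g (h : G) S hS hcen hconj
        change IsConj yb ((f' h : ↥Y) : ↥N ⧸ Dn)
        rw [hf'val, isConj_iff]
        refine ⟨π ⟨n, hn⟩, ?_⟩
        change π ⟨n, hn⟩ * π ⟨g, hgN⟩ * (π ⟨n, hn⟩)⁻¹ = _
        rw [← map_inv, ← map_mul, ← map_mul]
        congr 1
        apply Subtype.ext
        simpa using hnh
      · -- injective
        intro h₁ hh₁ h₂ hh₂ heq
        change ((f' h₁ : ↥Y) : ↥N ⧸ Dn) = ((f' h₂ : ↥Y) : ↥N ⧸ Dn) at heq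
        rw [hf'val, hf'val] at heq
        have hd : (h₂ : G) * (h₁ : G)⁻¹ ∈ D := by
          have h1 : π (⟨(h₂ : G), hLN h₂.2⟩ * ⟨(h₁ : G), hLN h₁.2⟩⁻¹) = 1 := by
            rw [map_mul, map_inv, heq, mul_inv_cancel]
          exact (hπ1 _).mp h1
        obtain ⟨hconj₁, hcen₁⟩ := hh₁
        obtain ⟨hconj₂, _⟩ := hh₂
        have hreg₁ : ¬ p ∣ orderOf (h₁ : G) := by
          obtain ⟨c, hc⟩ := isConj_iff.mp hconj₁
          rw [← hc]
          have : c * g * c⁻¹ = MulAut.conj c g := by simp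
          rw [this, MulEquiv.orderOf_eq]
          exact hreg
        have hcomm : Commute ((h₂ : G) * (h₁ : G)⁻¹) (h₁ : G) := by
          rw [Subgroup.mem_centralizer_iff] at hcen₁
          exact (hcen₁ _ hd)
        have hconj : IsConj (h₁ : G) (((h₂ : G) * (h₁ : G)⁻¹) * (h₁ : G)) := by
          have : (h₂ : G) * (h₁ : G)⁻¹ * (h₁ : G) = (h₂ : G) := by group
          rw [this]
          exact hconj₁.symm.trans hconj₂
        obtain ⟨j, hj⟩ := hDp ⟨_, hd⟩
        have hj' : ((h₂ : G) * (h₁ : G)⁻¹) ^ (p ^ j) = 1 := by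
          have := congrArg Subtype.val hj
          simpa using this
        have hd1 := eq_one_of_mul_isConj hp hreg₁ ⟨j, hj'⟩ hcomm hconj
        apply Subtype.ext
        have : (h₂ : G) = (h₂ : G) * (h₁ : G)⁻¹ * (h₁ : G) := by group
        rw [this, hd1, one_mul]
      · -- surjective
        intro y' hy'
        change IsConj yb y' at hy'
        obtain ⟨c, hc⟩ := isConj_iff.mp hy'
        obtain ⟨n, rfl⟩ := hπs c
        have hcen : (n : G) * g * (n : G)⁻¹ ∈ Subgroup.centralizer (D : Set G) :=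
          conj_mem_centralizer n.2 hgD
        refine ⟨⟨(n : G) * g * (n : G)⁻¹, hCL hcen⟩, ⟨?_, hcen⟩, ?_⟩
        · exact isConj_iff.mpr ⟨(n : G), rfl⟩
        · change ((f' _ : ↥Y) : ↥N ⧸ Dn) = y'
          rw [hf'val, ← hc]
          change _ = π n * π ⟨g, hgN⟩ * (π n)⁻¹
          rw [← map_inv, ← map_mul, ← map_mul]
          congr 1
    · intro h _
      change θ h / θ 1 = extendByZero Y ψ ((f' h : ↥Y) : ↥N ⧸ Dn) / ψ 1
      rw [Cfsg.Agent.Lib.Helper34.extendByZero_coe, hψval, hψ1]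
  -- Sylow of X containing the image of N_P(D)
  have hPn : IsPGroup p ↥(((P : Subgroup G).subgroupOf N).map π) :=
    (P.isPGroup'.comap_subtype).map π
  obtain ⟨Qb, hQb⟩ := hPn.exists_le_sylow
  obtain ⟨xb, hxconj, hxinf⟩ :=
    exists_conj_sylow_inf_eq_bot hMp Y hψ hdegψ yb hybY hcent hω' Qb
  obtain ⟨c, hc⟩ := isConj_iff.mp hxconj
  obtain ⟨n, rfl⟩ := hπs c
  refine ⟨(n : G), n.2, ?_⟩
  have hxC : (n : G) * g * (n : G)⁻¹ ∈ Subgroup.centralizer (D : Set G) :=
    conj_mem_centralizer n.2 hgD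
  have hxN : (n : G) * g * (n : G)⁻¹ ∈ N := hCN hxC
  have hxb : xb = π ⟨(n : G) * g * (n : G)⁻¹, hxN⟩ := by
    rw [← hc]
    change π n * π ⟨g, hgN⟩ * (π n)⁻¹ = _
    rw [← map_inv, ← map_mul, ← map_mul]
    congr 1
  have hDR : D ≤ (P : Subgroup G) ⊓
      (P : Subgroup G).map (MulAut.conj ((n : G) * g * (n : G)⁻¹)).toMonoidHom := by
    intro d hd
    rw [Subgroup.mem_inf]
    refine ⟨hDP hd, Subgroup.mem_map.mpr ⟨d, hDP hd, ?_⟩⟩
    rw [Subgroup.mem_centralizer_iff] at hxC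
    have := hxC d hd
    simp only [MulEquiv.coe_toMonoidHom, MulAut.conj_apply]
    rw [← this]; group
  apply le_antisymm _ hDR
  by_contra hnot
  have hne : D ≠ (P : Subgroup G) ⊓
      (P : Subgroup G).map (MulAut.conj ((n : G) * g * (n : G)⁻¹)).toMonoidHom := by
    intro h
    apply hnot
    rw [← h]
  have hRp : IsPGroup p ↥((P : Subgroup G) ⊓
      (P : Subgroup G).map (MulAut.conj ((n : G) * g * (n : G)⁻¹)).toMonoidHom) :=
    P.isPGroup'.to_le inf_le_left
  obtain ⟨r, hrR, hrD, hrN⟩ := exists_mem_normalizer_not_mem hRp hDR hne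
  apply hrD
  rw [Subgroup.mem_inf] at hrR
  obtain ⟨hrP, hrPx⟩ := hrR
  obtain ⟨q, hqP, hqr⟩ := Subgroup.mem_map.mp hrPx
  simp only [MulEquiv.coe_toMonoidHom, MulAut.conj_apply] at hqr
  have hqN : q ∈ N := by
    have : q = ((n : G) * g * (n : G)⁻¹)⁻¹ * r * ((n : G) * g * (n : G)⁻¹) := by
      rw [← hqr]; group
    rw [this]
    exact N.mul_mem (N.mul_mem (N.inv_mem hxN) hrN) hxN
  have h1 : π ⟨r, hrN⟩ ∈ (Qb : Subgroup (↥N ⧸ Dn)) :=
    hQb (Subgroup.mem_map.mpr ⟨⟨r, hrN⟩, Subgroup.mem_subgroupOf.mpr hrP, rfl⟩)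
  have h2 : π ⟨q, hqN⟩ ∈ (Qb : Subgroup (↥N ⧸ Dn)) :=
    hQb (Subgroup.mem_map.mpr ⟨⟨q, hqN⟩, Subgroup.mem_subgroupOf.mpr hqP, rfl⟩)
  have h3 : π ⟨r, hrN⟩ ∈ (Qb : Subgroup (↥N ⧸ Dn)).map (MulAut.conj xb).toMonoidHom := by
    refine Subgroup.mem_map.mpr ⟨π ⟨q, hqN⟩, h2, ?_⟩
    simp only [MulEquiv.coe_toMonoidHom, MulAut.conj_apply]
    rw [hxb, ← map_inv, ← map_mul, ← map_mul]
    congr 1
    apply Subtype.ext
    simpa using hqr
  have h4 : π ⟨r, hrN⟩ ∈ (Qb : Subgroup (↥N ⧸ Dn)) ⊓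
      (Qb : Subgroup (↥N ⧸ Dn)).map (MulAut.conj xb).toMonoidHom := Subgroup.mem_inf.mpr ⟨h1, h3⟩
  rw [hxinf, Subgroup.mem_bot] at h4
  exact (hπ1 _).mp h4

end Cfsg.Agent.Lib.Helper84.GreenGlue
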