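import Cfsg.Agent.Lib.Helper84.GreenCore
import Cfsg.Agent.Lib.Helper22.DefectConj
import Cfsg.Agent.S0973
import Cfsg.Agent.S0968
import Cfsg.Agent.S0918

set_option autoImplicit false
set_option linter.unusedSectionVars false

namespace Cfsg.Agent.Lib.Helper84.GreenGlue

open Cfsg Cfsg.Agent.Lib.Helper82

universe u

variable {G : Type u} [Group G] [Finite G] {p : ℕ} [Fact p.Prime] {M : Ideal AlgInt}

/-- Transport of "`D` is a Sylow `p`-subgroup of the centralizer" along conjugation. -/
theorem sylow_transport (g x : G) (hconj : IsConj g x)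
    (S : Sylow p (Subgroup.centralizer ({g} : Set G))) (D : Subgroup G)
    (hS : D = (S : Subgroup (Subgroup.centralizer ({g} : Set G))).map
      (Subgroup.centralizer ({g} : Set G)).subtype)
    (hDx : D ≤ Subgroup.centralizer ({x} : Set G)) :
    ∃ S' : Sylow p (Subgroup.centralizer ({x} : Set G)),
      (S' : Subgroup (Subgroup.centralizer ({x} : Set G))).map
        (Subgroup.centralizer ({x} : Set G)).subtype = D := by
  classical
  obtain ⟨c, hc⟩ := isConj_iff.mp hconj
  have hcard : Nat.card (Subgroup.centralizer ({x} : Set G)) =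
      Nat.card (Subgroup.centralizer ({g} : Set G)) := by
    apply Nat.card_congr
    refine
      { toFun := fun w => ⟨c⁻¹ * (w : G) * c, ?_⟩
        invFun := fun z => ⟨c * (z : G) * c⁻¹, ?_⟩
        left_inv := ?_
        right_inv := ?_ }
    · obtain ⟨wv, hw⟩ := w
      rw [Subgroup.mem_centralizer_iff] at hw ⊢
      intro z hz
      rw [Set.mem_singleton_iff] at hz
      have h1 : (c * g * c⁻¹) * wv = wv * (c * g * c⁻¹) := by
        rw [hc]; exact hw x rfl
      rw [hz]
      calc g * (c⁻¹ * wv * c) = c⁻¹ * ((c * g * c⁻¹) * wv) * c := by group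
        _ = c⁻¹ * (wv * (c * g * c⁻¹)) * c := by rw [h1]
        _ = c⁻¹ * wv * c * g := by group
    · obtain ⟨zv, hz⟩ := z
      rw [Subgroup.mem_centralizer_iff] at hz ⊢
      intro w hw
      rw [Set.mem_singleton_iff] at hw
      have h1 : g * zv = zv * g := hz g rfl
      rw [hw, ← hc]
      calc c * g * c⁻¹ * (c * zv * c⁻¹) = c * (g * zv) * c⁻¹ := by group
        _ = c * (zv * g) * c⁻¹ := by rw [h1]
        _ = c * zv * c⁻¹ * (c * g * c⁻¹) := by group
    · intro w; apply Subtype.ext; simp only; group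
    · intro z; apply Subtype.ext; simp only; group
  have hDp : IsPGroup p D := by rw [hS]; exact S.isPGroup'.map _
  have hD'p : IsPGroup p (D.subgroupOf (Subgroup.centralizer ({x} : Set G))) := hDp.comap_subtype
  obtain ⟨S', hS'⟩ := hD'p.exists_le_sylow
  have hcardD : Nat.card D = Nat.card (S : Subgroup (Subgroup.centralizer ({g} : Set G))) := by
    rw [hS]
    exact Subgroup.card_map_of_injective (Subgroup.subtype_injective _)
  have hcardD' : Nat.card (D.subgroupOf (Subgroup.centralizer ({x} : Set G))) = Nat.card D :=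
    Nat.card_congr (Subgroup.subgroupOfEquivOfLe hDx).toEquiv
  have heq : D.subgroupOf (Subgroup.centralizer ({x} : Set G)) =
      (S' : Subgroup (Subgroup.centralizer ({x} : Set G))) := by
    apply Subgroup.eq_of_le_of_card_ge hS'
    rw [hcardD', hcardD, S.card_eq_multiplicity, S'.card_eq_multiplicity, hcard]
  refine ⟨S', ?_⟩
  rw [← heq]
  exact Subgroup.map_subgroupOf_eq_of_le hDx

/-- **Green's theorem**: a defect group is a Sylow intersection `P ∩ xPx⁻¹` with `x` a `p`-regular
element having the defect group as a Sylow `p`-subgroup of its centralizer. -/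
theorem green_theorem (hM : IsPModular p M) (B : Set (IrrCharacter G)) (hB : IsPBlock M B)
    (D : Subgroup G) (hD : IsDefectGroup p M B D) (P : Sylow p G) (hDP : D ≤ P) :
    ∃ x : G, ¬ p ∣ orderOf x ∧
      (∃ S : Sylow p (Subgroup.centralizer ({x} : Set G)),
        (S : Subgroup (Subgroup.centralizer ({x} : Set G))).map
          (Subgroup.centralizer ({x} : Set G)).subtype = D) ∧
      (P : Subgroup G) ⊓ (P : Subgroup G).map (MulAut.conj x).toMonoidHom = D := by
  classical
  have hMp : M.IsPrime := hM.2.1.isPrime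
  obtain ⟨g, hg, S, hS⟩ := hD
  have hD' : IsDefectGroup p M B D := ⟨g, hg, S, hS⟩
  have hDp : IsPGroup p D := by rw [hS]; exact S.isPGroup'.map _
  have hreg : ¬ p ∣ orderOf g := Cfsg.Agent.Lib.Helper22.IsDefectClass.not_dvd_orderOf hM hB hg
  -- first main theorem input
  have h73 := (Cfsg.Agent.S0973.result p M hM B hB D hD').1
  obtain ⟨L, hL⟩ : ∃ L : Subgroup G, L = D ⊔ Subgroup.centralizer (D : Set G) := ⟨_, rfl⟩
  rw [← hL] at h73
  obtain ⟨b, hbD, hind⟩ := h73
  have hb : IsPBlock M b := hind.1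
  have hDL : D ≤ L := by rw [hL]; exact le_sup_left
  have hCL : Subgroup.centralizer (D : Set G) ≤ L := by rw [hL]; exact le_sup_right
  have hLN : L ≤ Subgroup.normalizer (D : Set G) := by
    rw [hL]; exact sup_le Subgroup.le_normalizer (Subgroup.centralizer_le_normalizer _)
  -- the canonical character
  have hG : D.subgroupOf L ⊔ Subgroup.centralizer ((D.subgroupOf L : Subgroup ↥L) : Set ↥L) = ⊤ := by
    rw [eq_top_iff]
    have h1 : (⊤ : Subgroup ↥L) = D.subgroupOf L ⊔ (Subgroup.centralizer (D : Set G)).subgroupOf L := by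
      rw [← Subgroup.subgroupOf_sup hDL hCL, ← hL, Subgroup.subgroupOf_self]
    rw [h1]
    apply sup_le_sup_left
    intro c hc
    rw [Subgroup.mem_subgroupOf, Subgroup.mem_centralizer_iff] at hc
    rw [Subgroup.mem_centralizer_iff]
    intro d hd
    apply Subtype.ext
    exact hc d (Subgroup.mem_subgroupOf.mp hd)
  obtain ⟨⟨θ, ⟨hθb, hθker⟩, _⟩, hdegall, _⟩ :=
    Cfsg.Agent.S0968.result p M hM (D.subgroupOf L) hDp.comap_subtype hG b hb hbD
  have hdeg := hdegall θ hθb hθker
  -- the Brauer central character is a unit at g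
  have hω : ¬ MemLocalIdeal M (brauerCentralChar D L (θ : ↥L → ℂ) g) := by
    intro hcon
    obtain ⟨χ₀, hχ₀⟩ := hB
    have hχ₀B : χ₀ ∈ B := by
      rw [hχ₀]
      intro z
      rw [sub_self]
      exact memLocalIdeal_zero hMp
    have h1 := (Cfsg.Agent.S0918.result p M hM D L hDp hDL hCL hLN b hb B ⟨χ₀, hχ₀⟩).mp hind
      θ hθb χ₀ hχ₀B g
    apply hg.2.2 χ₀ hχ₀B
    have : centralChar (χ₀ : G → ℂ) g = brauerCentralChar D L (θ : ↥L → ℂ) g -
        (brauerCentralChar D L (θ : ↥L → ℂ) g - centralChar (χ₀ : G → ℂ) g) := by ring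
    rw [this]
    exact memLocalIdeal_sub hMp hcon h1
  obtain ⟨n, hn, hPD⟩ := green_core hM D L hL (θ : ↥L → ℂ) θ.2
    (fun x hx => hθker x (Subgroup.mem_subgroupOf.mpr hx)) hdeg g S hS hreg hω P hDP
  refine ⟨n * g * n⁻¹, ?_, ?_, hPD⟩
  · have : n * g * n⁻¹ = MulAut.conj n g := by simp
    rw [this, MulEquiv.orderOf_eq]
    exact hreg
  · apply sylow_transport g (n * g * n⁻¹) (isConj_iff.mpr ⟨n, rfl⟩) S D hS
    -- D ≤ C(n g n⁻¹)
    intro d hd
    rw [Subgroup.mem_centralizer_iff]
    intro z hz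
    rw [Set.mem_singleton_iff] at hz
    rw [hz]
    -- n⁻¹ d n ∈ D commutes with g
    have hd' : n⁻¹ * d * n ∈ D := by
      have h1 := (Subgroup.mem_normalizer_iff.mp (Subgroup.inv_mem _ hn)) d
      have := h1.mp hd
      simpa using this
    have hcomm : (n⁻¹ * d * n) * g = g * (n⁻¹ * d * n) := by
      rw [hS] at hd'
      obtain ⟨s, _, hs⟩ := Subgroup.mem_map.mp hd'
      have := s.2
      rw [Subgroup.mem_centralizer_iff] at this
      have h2 := this g rfl
      rw [← hs]
      exact h2.symm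
    calc n * g * n⁻¹ * d = n * (g * (n⁻¹ * d * n)) * n⁻¹ := by group
      _ = n * ((n⁻¹ * d * n) * g) * n⁻¹ := by rw [hcomm]
      _ = d * (n * g * n⁻¹) := by group

end Cfsg.Agent.Lib.Helper84.GreenGlue
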