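import Cfsg.Agent.Lib.Helper84.GreenZero

set_option autoImplicit false
set_option linter.unusedSectionVars false

namespace Cfsg.Agent.Lib.Helper84.GreenZero

open Cfsg Cfsg.Agent.Lib.Helper82

section Actions

variable {X : Type*} [Group X]

/-- The twisted action of `(Q ∩ y'Qy'⁻¹) × Y` on `Q × X`. -/
@[reducible] def twistAction (Q Y : Subgroup X) (y' : X) :
    MulAction (↥(Q ⊓ Q.map (MulAut.conj y').toMonoidHom) × ↥Y) (↥Q × X) where
  smul cu s := (⟨y'⁻¹ * (cu.1 : X) * y' * (s.1 : X) * (cu.1 : X)⁻¹, by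
      have hc := cu.1.2
      rw [Subgroup.mem_inf] at hc
      obtain ⟨q, hq, hqc⟩ := Subgroup.mem_map.mp hc.2
      have : y'⁻¹ * (cu.1 : X) * y' = q := by
        rw [← hqc]; simp [MulAut.conj_apply, mul_assoc]
      rw [this]
      exact Q.mul_mem (Q.mul_mem hq s.1.2) (Q.inv_mem hc.1)⟩,
    (cu.1 : X) * s.2 * (cu.2 : X)⁻¹)
  one_smul s := by
    apply Prod.ext
    · apply Subtype.ext
      change y'⁻¹ * ((1 : ↥(Q ⊓ Q.map (MulAut.conj y').toMonoidHom)) : X) * y' * (s.1 : X) *
        ((1 : ↥(Q ⊓ Q.map (MulAut.conj y').toMonoidHom)) : X)⁻¹ = (s.1 : X)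
      simp
    · change ((1 : ↥(Q ⊓ Q.map (MulAut.conj y').toMonoidHom)) : X) * s.2 * ((1 : ↥Y) : X)⁻¹ = s.2
      simp
  mul_smul g h s := by
    apply Prod.ext
    · apply Subtype.ext
      change y'⁻¹ * ((g.1 * h.1 : ↥(Q ⊓ Q.map (MulAut.conj y').toMonoidHom)) : X) * y' * (s.1 : X) *
        ((g.1 * h.1 : ↥(Q ⊓ Q.map (MulAut.conj y').toMonoidHom)) : X)⁻¹ =
        y'⁻¹ * (g.1 : X) * y' * (y'⁻¹ * (h.1 : X) * y' * (s.1 : X) * (h.1 : X)⁻¹) * (g.1 : X)⁻¹
      simp only [Subgroup.coe_mul]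
      group
    · change ((g.1 * h.1 : ↥(Q ⊓ Q.map (MulAut.conj y').toMonoidHom)) : X) * s.2 *
        ((g.2 * h.2 : ↥Y) : X)⁻¹ = (g.1 : X) * ((h.1 : X) * s.2 * (h.2 : X)⁻¹) * (g.2 : X)⁻¹
      simp only [Subgroup.coe_mul]
      group

theorem twistAction_smul_fst (Q Y : Subgroup X) (y' : X)
    (cu : ↥(Q ⊓ Q.map (MulAut.conj y').toMonoidHom) × ↥Y) (s : ↥Q × X) :
    (((twistAction Q Y y').smul cu s).1 : X) = y'⁻¹ * (cu.1 : X) * y' * (s.1 : X) * (cu.1 : X)⁻¹ := rfl

theorem twistAction_smul_snd (Q Y : Subgroup X) (y' : X)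
    (cu : ↥(Q ⊓ Q.map (MulAut.conj y').toMonoidHom) × ↥Y) (s : ↥Q × X) :
    ((twistAction Q Y y').smul cu s).2 = (cu.1 : X) * s.2 * (cu.2 : X)⁻¹ := rfl

/-- Conjugation action of a subgroup on a conjugacy class. -/
@[reducible] def conjClassAction (Q : Subgroup X) (y : X) : MulAction ↥Q {y' : X // IsConj y y'} where
  smul b z := ⟨(b : X) * z.1 * (b : X)⁻¹, by
    have hc : IsConj z.1 ((b : X) * z.1 * (b : X)⁻¹) := isConj_iff.mpr ⟨b, rfl⟩
    exact z.2.trans hc⟩
  one_smul z := by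
    apply Subtype.ext
    change ((1 : ↥Q) : X) * z.1 * ((1 : ↥Q) : X)⁻¹ = z.1
    simp
  mul_smul g h z := by
    apply Subtype.ext
    change ((g * h : ↥Q) : X) * z.1 * ((g * h : ↥Q) : X)⁻¹ = (g : X) * ((h : X) * z.1 * (h : X)⁻¹) * (g : X)⁻¹
    simp only [Subgroup.coe_mul]
    group

theorem conjClassAction_smul (Q : Subgroup X) (y : X) (b : ↥Q) (z : {y' : X // IsConj y y'}) :
    (((conjClassAction Q y).smul b z) : X) = (b : X) * z.1 * (b : X)⁻¹ := rfl

end Actions

section Main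

variable {X : Type*} [Group X] [Fintype X] {p : ℕ} [Fact p.Prime] {M : Ideal AlgInt}

/-- The orbit sum for the twisted action is divisible by `|Q ∩ y'Qy'⁻¹| * |Y|`. -/
theorem twist_sum_memLocalRing (hMp : IsPModular p M) (Y : Subgroup X) [hYn : Y.Normal]
    {ψ : ↥Y → ℂ} (hψ : IsIrrCharacter ↥Y ψ) (hdeg : ¬ p ∣ Nat.card Y / charDegree ψ)
    (Q : Subgroup X) [Fintype Q] (y' : X) :
    MemLocalRing M ((∑ s : ↥Q × X, extendByZero Y ψ (s.2⁻¹ * y' * (s.1 : X) * s.2)) /
      (Nat.card (↥(Q ⊓ Q.map (MulAut.conj y').toMonoidHom) × ↥Y) : ℂ)) := by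
  classical
  have hM : M.IsPrime := hMp.2.1.isPrime
  let _ := twistAction Q Y y'
  apply orbit_sum_memLocalRing hM (fun s : ↥Q × X => extendByZero Y ψ (s.2⁻¹ * y' * (s.1 : X) * s.2))
  · intro cu s
    have h1 : ((cu • s).1 : X) = y'⁻¹ * (cu.1 : X) * y' * (s.1 : X) * (cu.1 : X)⁻¹ := rfl
    have h2 : (cu • s).2 = (cu.1 : X) * s.2 * (cu.2 : X)⁻¹ := rfl
    simp only [h1, h2]
    have : ((cu.1 : X) * s.2 * (cu.2 : X)⁻¹)⁻¹ * y' *
        (y'⁻¹ * (cu.1 : X) * y' * (s.1 : X) * (cu.1 : X)⁻¹) * ((cu.1 : X) * s.2 * (cu.2 : X)⁻¹)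
        = (cu.2 : X) * (s.2⁻¹ * y' * (s.1 : X) * s.2) * (cu.2 : X)⁻¹ := by group
    rw [this]
    exact extendByZero_conj Y (IsCharacter.isClassFunction (IsIrrCharacter.isCharacter hψ)) cu.2.2 _
  · intro s
    by_cases hw : s.2⁻¹ * y' * (s.1 : X) * s.2 ∈ Y
    · refine ⟨Nat.card (Subgroup.centralizer ({(⟨s.2⁻¹ * y' * (s.1 : X) * s.2, hw⟩ : ↥Y)} : Set ↥Y)),
        Nat.card_pos.ne', ?_, ?_⟩
      · -- stabilizer embeds in the centralizer
        let φ : ↥(MulAction.stabilizer (↥(Q ⊓ Q.map (MulAut.conj y').toMonoidHom) × ↥Y) s) →*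
            ↥(Subgroup.centralizer ({(⟨s.2⁻¹ * y' * (s.1 : X) * s.2, hw⟩ : ↥Y)} : Set ↥Y)) :=
          { toFun := fun g => ⟨g.1.2, by
              have hg := g.2
              rw [MulAction.mem_stabilizer_iff] at hg
              have h1 : ((g.1 • s).1 : X) = y'⁻¹ * (g.1.1 : X) * y' * (s.1 : X) * (g.1.1 : X)⁻¹ := rfl
              have h2 : (g.1 • s).2 = (g.1.1 : X) * s.2 * (g.1.2 : X)⁻¹ := rfl
              rw [hg] at h1 h2
              rw [Subgroup.mem_centralizer_iff]
              intro w hw'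
              rw [Set.mem_singleton_iff] at hw'
              subst hw'
              apply Subtype.ext
              simp only [Subgroup.coe_mul]
              -- u = n⁻¹ c n, c commutes with y' a
              have hu : (g.1.2 : X) = s.2⁻¹ * (g.1.1 : X) * s.2 := by
                have : s.2 * (g.1.2 : X) = (g.1.1 : X) * s.2 := eq_mul_inv_iff_mul_eq.mp h2
                rw [mul_assoc, ← this, inv_mul_cancel_left]
              have hc : (g.1.1 : X) * (y' * (s.1 : X)) = y' * (s.1 : X) * (g.1.1 : X) := by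
                have : (s.1 : X) * (g.1.1 : X) = y'⁻¹ * (g.1.1 : X) * y' * (s.1 : X) :=
                  eq_mul_inv_iff_mul_eq.mp h1
                calc (g.1.1 : X) * (y' * (s.1 : X))
                    = y' * (y'⁻¹ * (g.1.1 : X) * y' * (s.1 : X)) := by group
                  _ = y' * ((s.1 : X) * (g.1.1 : X)) := by rw [← this]
                  _ = y' * (s.1 : X) * (g.1.1 : X) := by group
              rw [hu]
              calc s.2⁻¹ * y' * (s.1 : X) * s.2 * (s.2⁻¹ * (g.1.1 : X) * s.2)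
                  = s.2⁻¹ * (y' * (s.1 : X) * (g.1.1 : X)) * s.2 := by group
                _ = s.2⁻¹ * ((g.1.1 : X) * (y' * (s.1 : X))) * s.2 := by rw [hc]
                _ = s.2⁻¹ * (g.1.1 : X) * s.2 * (s.2⁻¹ * y' * (s.1 : X) * s.2) := by group⟩
            map_one' := rfl
            map_mul' := fun _ _ => rfl }
        have hinj : Function.Injective φ := by
          intro g g' hgg
          have h2 : g.1.2 = g'.1.2 := congrArg Subtype.val hgg
          have hg := g.2
          have hg' := g'.2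
          rw [MulAction.mem_stabilizer_iff] at hg hg'
          have e : (g.1 • s).2 = (g.1.1 : X) * s.2 * (g.1.2 : X)⁻¹ := rfl
          have e' : (g'.1 • s).2 = (g'.1.1 : X) * s.2 * (g'.1.2 : X)⁻¹ := rfl
          rw [hg] at e
          rw [hg'] at e'
          have h1 : (g.1.1 : X) = (g'.1.1 : X) := by
            have a1 : (g.1.1 : X) = s.2 * (g.1.2 : X) * s.2⁻¹ :=
              eq_mul_inv_iff_mul_eq.mpr (eq_mul_inv_iff_mul_eq.mp e).symm
            have a2 : (g'.1.1 : X) = s.2 * (g'.1.2 : X) * s.2⁻¹ :=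
              eq_mul_inv_iff_mul_eq.mpr (eq_mul_inv_iff_mul_eq.mp e').symm
            rw [a1, a2, h2]
          apply Subtype.ext
          apply Prod.ext
          · exact Subtype.ext h1
          · exact h2
        exact Subgroup.card_dvd_of_injective φ hinj
      · rw [Cfsg.Agent.Lib.Helper34.extendByZero_apply_mem Y ψ hw]
        exact irr_div_card_centralizer hMp hψ hdeg _
    · refine ⟨Nat.card (MulAction.stabilizer (↥(Q ⊓ Q.map (MulAut.conj y').toMonoidHom) × ↥Y) s),
        Nat.card_pos.ne', dvd_rfl, ?_⟩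
      rw [Cfsg.Agent.Lib.Helper34.extendByZero_apply_not_mem Y ψ hw, zero_div]
      exact memLocalRing_zero hM

end Main

section Final

variable {X : Type*} [Group X] [Fintype X] {p : ℕ} [Fact p.Prime] {M : Ideal AlgInt}

theorem finsum_mem_eq_sum_filter' {α : Type*} [Fintype α] (A : Set α) [DecidablePred (· ∈ A)]
    (f : α → ℂ) : ∑ᶠ a ∈ A, f a = ∑ a ∈ Finset.univ.filter (· ∈ A), f a := by
  rw [finsum_mem_eq_finite_toFinset_sum f (Set.toFinite A)]
  congr 1
  ext a; simp

/-- **Abstract form of Green's theorem (Thompson's argument).**  Let `Y ⊴ X`, `ψ ∈ Irr(Y)` of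
`p`-defect zero, `y ∈ Y` an element whose centralizer in `X` contains no nontrivial `p`-element and
such that the central character value of `ψ` at the `X`-class sum of `y` is a unit modulo `M`.  Then
for every Sylow `p`-subgroup `Q` of `X` some conjugate `x` of `y` satisfies `Q ∩ xQx⁻¹ = 1`. -/
theorem exists_conj_sylow_inf_eq_bot (hMp : IsPModular p M) (Y : Subgroup X) [hYn : Y.Normal]
    {ψ : ↥Y → ℂ} (hψ : IsIrrCharacter ↥Y ψ) (hdeg : ¬ p ∣ Nat.card Y / charDegree ψ)
    (y : X) (hy : y ∈ Y)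
    (hcent : ∀ c : X, c * y = y * c → ∀ k : ℕ, c ^ (p ^ k) = 1 → c = 1)
    (hω : ¬ MemLocalIdeal M ((∑ᶠ y' ∈ {y' : X | IsConj y y'}, extendByZero Y ψ y') / ψ 1))
    (Q : Sylow p X) :
    ∃ x : X, IsConj y x ∧
      (Q : Subgroup X) ⊓ (Q : Subgroup X).map (MulAut.conj x).toMonoidHom = ⊥ := by
  classical
  by_contra hcon
  push Not at hcon
  have hM : M.IsPrime := hMp.2.1.isPrime
  have hcf : IsClassFunction ↥Y ψ := IsCharacter.isClassFunction (IsIrrCharacter.isCharacter hψ)
  set Φ : X → ℂ := fun y' =>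
    ∑ s : ↥(Q : Subgroup X) × X, extendByZero Y ψ (s.2⁻¹ * y' * (s.1 : X) * s.2) with hΦ
  have hY0 : (Nat.card Y : ℂ) ≠ 0 := by
    have : Nat.card Y ≠ 0 := Nat.card_pos.ne'
    exact_mod_cast this
  have hp0 : (p : ℂ) ≠ 0 := by
    have : p ≠ 0 := (Fact.out : p.Prime).ne_zero
    exact_mod_cast this
  -- (2a)
  have h2a : ∀ y', IsConj y y' → MemLocalRing M (Φ y' / ((p : ℂ) * (Nat.card Y : ℂ))) := by
    intro y' hy'
    have h1 := twist_sum_memLocalRing hMp Y hψ hdeg (Q : Subgroup X) y'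
    rw [Nat.card_prod] at h1
    have hR : IsPGroup p ↥((Q : Subgroup X) ⊓ (Q : Subgroup X).map (MulAut.conj y').toMonoidHom) :=
      Q.isPGroup'.to_le inf_le_left
    have hne := hcon y' hy'
    have hdvd : p ∣ Nat.card ↥((Q : Subgroup X) ⊓ (Q : Subgroup X).map (MulAut.conj y').toMonoidHom) := by
      rcases hR.card_eq_or_dvd with h | h
      · exact absurd (Subgroup.card_eq_one.mp h) hne
      · exact h
    obtain ⟨r, hr⟩ := hdvd
    have hr0 : (r : ℂ) ≠ 0 := by
      intro h0
      have : r = 0 := by exact_mod_cast h0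
      rw [this, mul_zero] at hr
      exact Nat.card_pos.ne' hr
    have : Φ y' / ((p : ℂ) * (Nat.card Y : ℂ)) =
        (∑ s : ↥(Q : Subgroup X) × X, extendByZero Y ψ (s.2⁻¹ * y' * (s.1 : X) * s.2)) /
          ((Nat.card ↥((Q : Subgroup X) ⊓ (Q : Subgroup X).map (MulAut.conj y').toMonoidHom) *
            Nat.card ↥Y : ℕ) : ℂ) * (r : ℂ) := by
      rw [hr]; push_cast
      simp only [hΦ]
      field_simp
    rw [this]
    exact memLocalRing_mul hM h1 (memLocalRing_natCast hM r)
  -- (2b)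
  have h2b : ∀ (b : ↥(Q : Subgroup X)) (y' : X), Φ ((b : X) * y' * (b : X)⁻¹) = Φ y' := by
    intro b y'
    simp only [hΦ]
    let σ : ↥(Q : Subgroup X) × X ≃ ↥(Q : Subgroup X) × X :=
      Equiv.prodCongr (MulAut.conj b).toEquiv (Equiv.mulLeft (b : X))
    rw [← Equiv.sum_comp σ]
    apply Finset.sum_congr rfl
    intro s _
    congr 1
    have e1 : ((σ s).1 : X) = (b : X) * (s.1 : X) * (b : X)⁻¹ := by
      simp [σ, MulAut.conj_apply]
    have e2 : (σ s).2 = (b : X) * s.2 := by simp [σ]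
    rw [e1, e2]
    group
  -- (E2)
  have htot : MemLocalRing M ((∑ z : {y' : X // IsConj y y'},
      Φ z.1 / ((p : ℂ) * (Nat.card Y : ℂ))) / (Nat.card (Q : Subgroup X) : ℂ)) := by
    let _ := conjClassAction (Q : Subgroup X) y
    apply orbit_sum_memLocalRing hM
      (fun z : {y' : X // IsConj y y'} => Φ z.1 / ((p : ℂ) * (Nat.card Y : ℂ)))
    · intro b z
      have : ((b • z : {y' : X // IsConj y y'}) : X) = (b : X) * z.1 * (b : X)⁻¹ := rfl
      simp only [this, h2b]
    · intro z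
      refine ⟨1, one_ne_zero, ?_, by simpa using h2a z.1 z.2⟩
      have hbot : MulAction.stabilizer ↥(Q : Subgroup X) z = ⊥ := by
        rw [Subgroup.eq_bot_iff_forall]
        intro b hb
        rw [MulAction.mem_stabilizer_iff] at hb
        have hb' : (b : X) * z.1 * (b : X)⁻¹ = z.1 := congrArg Subtype.val hb
        obtain ⟨c, hc⟩ := isConj_iff.mp z.2
        obtain ⟨k, hk⟩ := Q.isPGroup' b
        have hk' : (b : X) ^ (p ^ k) = 1 := by
          have := congrArg Subtype.val hk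
          simpa using this
        have hcomm : (c⁻¹ * (b : X) * c) * y = y * (c⁻¹ * (b : X) * c) := by
          have h3 : (b : X) * (c * y * c⁻¹) = (c * y * c⁻¹) * (b : X) := by
            rw [hc]
            exact mul_inv_eq_iff_eq_mul.mp hb'
          calc (c⁻¹ * (b : X) * c) * y = c⁻¹ * ((b : X) * (c * y * c⁻¹)) * c := by group
            _ = c⁻¹ * ((c * y * c⁻¹) * (b : X)) * c := by rw [h3]
            _ = y * (c⁻¹ * (b : X) * c) := by group
        have hpow : (c⁻¹ * (b : X) * c) ^ (p ^ k) = 1 := by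
          have : c⁻¹ * (b : X) * c = MulAut.conj c⁻¹ (b : X) := by simp
          rw [this, ← map_pow, hk', map_one]
        have h1 := hcent _ hcomm k hpow
        have : (b : X) = 1 := by
          have h4 : (b : X) = c * (c⁻¹ * (b : X) * c) * c⁻¹ := by group
          rw [h4, h1]; group
        exact Subtype.ext this
      rw [hbot]
      simp
  -- Evaluation 1
  have hev1 : ∑ z : {y' : X // IsConj y y'}, Φ z.1 =
      (∑ y' ∈ Finset.univ.filter (IsConj y), extendByZero Y ψ y') / ψ 1 *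
        ((Fintype.card X : ℂ) * ψ 1) := by
    rw [← Finset.sum_subtype (Finset.univ.filter (IsConj y)) (by simp) (fun y' => Φ y')]
    simp only [hΦ, Fintype.sum_prod_type]
    rw [Finset.sum_comm]
    have hinner : ∀ a : ↥(Q : Subgroup X), ∑ y' ∈ Finset.univ.filter (IsConj y),
        ∑ n : X, extendByZero Y ψ (n⁻¹ * y' * (a : X) * n) =
        ∑ n : X, (∑ y' ∈ Finset.univ.filter (IsConj y), extendByZero Y ψ y') / ψ 1 *
          extendByZero Y ψ (n⁻¹ * (a : X) * n) := by
      intro a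
      rw [Finset.sum_comm]
      apply Finset.sum_congr rfl
      intro n _
      rw [← class_sum_extend Y hψ y hy (n⁻¹ * (a : X) * n)]
      -- reindex y' ↦ n⁻¹ y' n
      apply Finset.sum_bij (fun y' _ => n⁻¹ * y' * n)
      · intro y' hy'
        rw [Finset.mem_filter] at hy' ⊢
        refine ⟨Finset.mem_univ _, ?_⟩
        have : IsConj y' (n⁻¹ * y' * n) := isConj_iff.mpr ⟨n⁻¹, by simp⟩
        exact hy'.2.trans this
      · intro y1 _ y2 _ h
        have := congrArg (fun t => n * t * n⁻¹) h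
        simpa [mul_assoc] using this
      · intro y'' hy''
        rw [Finset.mem_filter] at hy''
        refine ⟨n * y'' * n⁻¹, ?_, by group⟩
        rw [Finset.mem_filter]
        refine ⟨Finset.mem_univ _, ?_⟩
        have : IsConj y'' (n * y'' * n⁻¹) := isConj_iff.mpr ⟨n, rfl⟩
        exact hy''.2.trans this
      · intro y' _
        congr 1
        group
    rw [Finset.sum_congr rfl (fun a _ => hinner a)]
    rw [Finset.sum_comm]
    simp only [← Finset.mul_sum]
    rw [Finset.sum_congr rfl (fun n _ => sum_pgroup_extend hMp Y hψ hdeg (Q : Subgroup X) Q.isPGroup' n)]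
    rw [Finset.sum_const, Finset.card_univ, nsmul_eq_mul]
  -- conclusion
  have hd : (charDegree ψ : ℂ) = ψ 1 := IsCharacter.charDegree_cast (IsIrrCharacter.isCharacter hψ)
  have hdvd : charDegree ψ ∣ Nat.card Y := IsIrrCharacter.charDegree_dvd_card hψ
  have hd0 : charDegree ψ ≠ 0 := by
    intro h0
    rw [h0] at hdvd
    exact Nat.card_pos.ne' (Nat.eq_zero_of_zero_dvd hdvd)
  have hψ1 : ψ 1 ≠ 0 := by rw [← hd]; exact_mod_cast hd0
  have hfacY : (Nat.card Y).factorization p ≤ (charDegree ψ).factorization p :=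
    (factorization_le_iff_not_dvd (Fact.out : p.Prime) ⟨ψ, hψ⟩).mpr hdeg
  have hQcard : Nat.card (Q : Subgroup X) = p ^ (Nat.card X).factorization p := Q.card_eq_multiplicity
  have hQfac : (Nat.card (Q : Subgroup X)).factorization p = (Nat.card X).factorization p := by
    rw [hQcard, Nat.Prime.factorization_pow (Fact.out : p.Prime)]
    simp
  have hratio : MemLocalRing M (((Nat.card Y * Nat.card (Q : Subgroup X) : ℕ) : ℂ) /
      ((Nat.card X * charDegree ψ : ℕ) : ℂ)) := by
    apply Cfsg.Agent.Lib.Helper22.memLocalRing_div_of_factorization_le hMp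
    · exact Nat.mul_ne_zero Nat.card_pos.ne' hd0
    · rw [Nat.factorization_mul Nat.card_pos.ne' hd0,
        Nat.factorization_mul Nat.card_pos.ne' Nat.card_pos.ne']
      simp only [Finsupp.coe_add, Pi.add_apply]
      have hle : (charDegree ψ).factorization p ≤ (Nat.card Y).factorization p :=
        (Nat.factorization_le_iff_dvd hd0 Nat.card_pos.ne').mpr hdvd p
      omega
  set c : ℂ := (∑ y' ∈ Finset.univ.filter (IsConj y), extendByZero Y ψ y') / ψ 1 with hc
  have hQ0 : (Nat.card (Q : Subgroup X) : ℂ) ≠ 0 := by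
    have : Nat.card (Q : Subgroup X) ≠ 0 := Nat.card_pos.ne'
    exact_mod_cast this
  have hX0 : (Nat.card X : ℂ) ≠ 0 := by
    have : Nat.card X ≠ 0 := Nat.card_pos.ne'
    exact_mod_cast this
  have hcmem : MemLocalIdeal M c := by
    have e : c = ((∑ z : {y' : X // IsConj y y'},
        Φ z.1 / ((p : ℂ) * (Nat.card Y : ℂ))) / (Nat.card (Q : Subgroup X) : ℂ)) *
        (((Nat.card Y * Nat.card (Q : Subgroup X) : ℕ) : ℂ) /
          ((Nat.card X * charDegree ψ : ℕ) : ℂ)) * (p : ℂ) := by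
      rw [← Finset.sum_div, hev1]
      push_cast
      rw [hd, Nat.card_eq_fintype_card (α := X)]
      have hX0' : (Fintype.card X : ℂ) ≠ 0 := by
        rw [← Nat.card_eq_fintype_card]; exact hX0
      field_simp
    rw [e]
    apply memLocalIdeal_mul_left hM (memLocalRing_mul hM htot hratio)
    exact (memLocalIdeal_natCast_iff hMp p).mpr dvd_rfl
  apply hω
  rw [finsum_mem_eq_sum_filter' {y' : X | IsConj y y'} (extendByZero Y ψ)]
  exact hcmem

end Final

end Cfsg.Agent.Lib.Helper84.GreenZero
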