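import Mathlib
import Cfsg.Prelude.Def_Blocks
import Cfsg.Agent.Lib.Helper84.GreenZeroMain
import Cfsg.Agent.Lib.Helper80.TripleReduce
import Cfsg.Agent.Lib.Helper21.FirstMain

set_option autoImplicit false
set_option linter.unusedSectionVars false

namespace Cfsg.Agent.Lib.Helper84.GreenGlue

open Cfsg Cfsg.Agent.Lib.Helper82

section Group

variable {G : Type*} [Group G]

/-- A `p`-element `d` commuting with a `p`-regular `g` such that `d * g` is conjugate to `g` is trivial. -/
theorem eq_one_of_mul_isConj [Finite G] {p : ℕ} (hp : p.Prime) {g d : G} (hg : ¬ p ∣ orderOf g)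
    (hd : ∃ j : ℕ, d ^ (p ^ j) = 1) (hcomm : Commute d g) (hconj : IsConj g (d * g)) : d = 1 := by
  obtain ⟨j, hj⟩ := hd
  obtain ⟨c, hc⟩ := isConj_iff.mp hconj
  have hord : orderOf (d * g) = orderOf g := by
    rw [← hc]
    have : c * g * c⁻¹ = MulAut.conj c g := by simp
    rw [this, MulEquiv.orderOf_eq]
  have h1 : d ^ orderOf g = 1 := by
    have h2 : (d * g) ^ orderOf g = 1 := by rw [← hord]; exact pow_orderOf_eq_one _
    rw [hcomm.mul_pow, pow_orderOf_eq_one, mul_one] at h2
    exact h2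
  have hd1 : orderOf d ∣ orderOf g := orderOf_dvd_of_pow_eq_one h1
  have hd2 : orderOf d ∣ p ^ j := orderOf_dvd_of_pow_eq_one hj
  have hcop : Nat.Coprime (orderOf g) (p ^ j) := by
    apply Nat.Coprime.pow_right
    exact ((Nat.Prime.coprime_iff_not_dvd hp).mpr hg).symm
  have : orderOf d ∣ 1 := by
    have := Nat.dvd_gcd hd1 hd2
    rwa [hcop] at this
  exact orderOf_eq_one_iff.mp (Nat.dvd_one.mp this)

/-- Normalizers grow in finite `p`-groups. -/
theorem exists_mem_normalizer_not_mem [Finite G] {p : ℕ} [Fact p.Prime] {D R : Subgroup G}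
    (hR : IsPGroup p R) (hDR : D ≤ R) (hne : D ≠ R) :
    ∃ r ∈ R, r ∉ D ∧ r ∈ Subgroup.normalizer (D : Set G) := by
  have hnil : Group.IsNilpotent ↥R := hR.isNilpotent
  have hnc : NormalizerCondition ↥R := Group.normalizerCondition_of_isNilpotent
  have hlt : D.subgroupOf R < ⊤ := by
    rw [lt_top_iff_ne_top]
    intro h
    rw [Subgroup.subgroupOf_eq_top] at h
    exact hne (le_antisymm hDR h)
  have h2 := hnc _ hlt
  obtain ⟨r, hr1, hr2⟩ := SetLike.exists_of_lt h2
  refine ⟨r, r.2, ?_, ?_⟩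
  · intro h; exact hr2 (Subgroup.mem_subgroupOf.mpr h)
  · rw [Subgroup.mem_normalizer_iff] at hr1 ⊢
    intro h
    constructor
    · intro hh
      have := (hr1 ⟨h, hDR hh⟩).mp (Subgroup.mem_subgroupOf.mpr hh)
      exact Subgroup.mem_subgroupOf.mp this
    · intro hh
      have hhR : h ∈ R := by
        have h1 : (r : G)⁻¹ * ((r : G) * h * (r : G)⁻¹) * (r : G) ∈ R :=
          R.mul_mem (R.mul_mem (R.inv_mem r.2) (hDR hh)) r.2
        have h2 : (r : G)⁻¹ * ((r : G) * h * (r : G)⁻¹) * (r : G) = h := by group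
        rwa [h2] at h1
      have := (hr1 ⟨h, hhR⟩).mpr (Subgroup.mem_subgroupOf.mpr hh)
      exact Subgroup.mem_subgroupOf.mp this

/-- The normalizer of `D` normalizes the centralizer of `D`. -/
theorem conj_mem_centralizer {D : Subgroup G} {n c : G} (hn : n ∈ Subgroup.normalizer (D : Set G))
    (hc : c ∈ Subgroup.centralizer (D : Set G)) : n * c * n⁻¹ ∈ Subgroup.centralizer (D : Set G) := by
  rw [Subgroup.mem_centralizer_iff] at hc ⊢
  intro d hd
  have hd' : n⁻¹ * d * n ∈ D := by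
    have h1 := (Subgroup.mem_normalizer_iff.mp (Subgroup.inv_mem _ hn)) d
    have := h1.mp hd
    simpa using this
  have := hc _ hd'
  calc d * (n * c * n⁻¹) = n * ((n⁻¹ * d * n) * c) * n⁻¹ := by group
    _ = n * (c * (n⁻¹ * d * n)) * n⁻¹ := by rw [this]
    _ = n * c * n⁻¹ * d := by group

end Group

end Cfsg.Agent.Lib.Helper84.GreenGlue
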