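import Mathlib
import Cfsg.Prelude.Def_Blocks
import Cfsg.Agent.Lib.Helper82.LocalRing

set_option autoImplicit false

namespace Cfsg.Agent.Lib.Helper84.GreenZero

open Cfsg Cfsg.Agent.Lib.Helper82

/-- Orbit counting in the local ring: an invariant function whose value at each point is divisible
(in the local ring) by the order of the stabilizer has total sum divisible by the group order. -/
theorem orbit_sum_memLocalRing {M : Ideal AlgInt} (hM : M.IsPrime)
    {A S : Type*} [Group A] [Fintype A] [Fintype S] [MulAction A S]
    (f : S → ℂ) (hf : ∀ (a : A) (s : S), f (a • s) = f s)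
    (hloc : ∀ s : S, ∃ m : ℕ, m ≠ 0 ∧ Nat.card (MulAction.stabilizer A s) ∣ m ∧
      MemLocalRing M (f s / (m : ℂ))) :
    MemLocalRing M ((∑ s, f s) / (Nat.card A : ℂ)) := by
  classical
  have key : ∀ s : S, MemLocalRing M (f s / (Nat.card (MulAction.stabilizer A s) : ℂ)) := by
    intro s
    obtain ⟨m, hm0, ⟨k, hk⟩, hloc'⟩ := hloc s
    have hst : (Nat.card (MulAction.stabilizer A s) : ℂ) ≠ 0 := by
      have : Nat.card (MulAction.stabilizer A s) ≠ 0 := Nat.card_pos.ne'
      exact_mod_cast this
    have : f s / (Nat.card (MulAction.stabilizer A s) : ℂ) = f s / (m : ℂ) * (k : ℂ) := by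
      rw [hk]; push_cast
      have hk0 : (k : ℂ) ≠ 0 := by
        intro h0
        have : k = 0 := by exact_mod_cast h0
        subst this; simp at hk; exact hm0 hk
      field_simp
    rw [this]
    exact memLocalRing_mul hM hloc' (memLocalRing_natCast hM k)
  rw [Finset.sum_div]
  rw [← Finset.sum_fiberwise Finset.univ (fun s : S => (Quotient.mk'' s : MulAction.orbitRel.Quotient A S))]
  apply memLocalRing_sum hM
  intro ω _
  induction ω using Quotient.inductionOn' with
  | h r =>
    have hfil : (Finset.univ.filter fun s : S => (Quotient.mk'' s : MulAction.orbitRel.Quotient A S) = Quotient.mk'' r)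
        = (MulAction.orbit A r).toFinset := by
      ext s
      simp only [Finset.mem_filter, Finset.mem_univ, true_and, Set.mem_toFinset]
      rw [Quotient.eq'']
      rfl
    rw [hfil]
    have hconst : ∀ s ∈ (MulAction.orbit A r).toFinset, f s / (Nat.card A : ℂ) = f r / (Nat.card A : ℂ) := by
      intro s hs
      rw [Set.mem_toFinset] at hs
      obtain ⟨a, rfl⟩ := hs
      rw [hf]
    rw [Finset.sum_congr rfl hconst, Finset.sum_const, Set.toFinset_card]
    have hos := MulAction.card_orbit_mul_card_stabilizer_eq_card_group A r
    have : (Fintype.card (MulAction.orbit A r)) • (f r / (Nat.card A : ℂ))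
        = f r / (Nat.card (MulAction.stabilizer A r) : ℂ) := by
      rw [nsmul_eq_mul, Nat.card_eq_fintype_card, Nat.card_eq_fintype_card, ← hos]
      push_cast
      have h1 : (Fintype.card (MulAction.orbit A r) : ℂ) ≠ 0 := by
        have hne : Nonempty (MulAction.orbit A r) := ⟨⟨r, MulAction.mem_orbit_self r⟩⟩
        have : Fintype.card (MulAction.orbit A r) ≠ 0 := Fintype.card_ne_zero
        exact_mod_cast this
      have h2 : (Fintype.card (MulAction.stabilizer A r) : ℂ) ≠ 0 := by
        have : Fintype.card (MulAction.stabilizer A r) ≠ 0 := Fintype.card_ne_zero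
        exact_mod_cast this
      field_simp
    rw [this]
    exact key r

end Cfsg.Agent.Lib.Helper84.GreenZero
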