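import Mathlib
import Cfsg.Prelude.Def_Blocks
import Cfsg.Agent.Lib.Helper82.LocalRing
import Cfsg.Agent.Lib.Helper82.CharSchur
import Cfsg.Agent.Lib.Helper82.CharBasic
import Cfsg.Agent.Lib.Helper82.DefectZero
import Cfsg.Agent.Lib.Helper82.DefectRank
import Cfsg.Agent.Lib.Helper22.DefectClass
import Cfsg.Agent.Lib.Helper34.Induction
import Cfsg.Agent.Lib.Helper84.Schur
import Cfsg.Agent.Lib.Helper84.GreenOrbit

set_option autoImplicit false
set_option linter.unusedSectionVars false

namespace Cfsg.Agent.Lib.Helper84.GreenZero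

open Cfsg Cfsg.Agent.Lib.Helper82

section Irr

variable {Y : Type*} [Group Y] [Fintype Y] {p : ℕ} [Fact p.Prime] {M : Ideal AlgInt}

/-- For an irreducible character of `p`-defect zero, `ψ(w) / |C_Y(w)|` is a local integer. -/
theorem irr_div_card_centralizer (hMp : IsPModular p M) {ψ : Y → ℂ} (hψ : IsIrrCharacter Y ψ)
    (hdeg : ¬ p ∣ Nat.card Y / charDegree ψ) (w : Y) :
    MemLocalRing M (ψ w / (Nat.card (Subgroup.centralizer ({w} : Set Y)) : ℂ)) := by
  have hM : M.IsPrime := hMp.2.1.isPrime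
  have hcc := memLocalRing_of_isIntegral hM (IsIrrCharacter.isIntegral_centralChar hψ w)
  have hd : (charDegree ψ : ℂ) = ψ 1 := IsCharacter.charDegree_cast (IsIrrCharacter.isCharacter hψ)
  have hdvd : charDegree ψ ∣ Nat.card Y := IsIrrCharacter.charDegree_dvd_card hψ
  have hd0 : charDegree ψ ≠ 0 := by
    intro h0
    rw [h0] at hdvd
    have := Nat.eq_zero_of_zero_dvd hdvd
    exact Nat.card_pos.ne' this
  have hfac : (Nat.card Y).factorization p ≤ (charDegree ψ).factorization p :=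
    (factorization_le_iff_not_dvd (Fact.out : p.Prime) ⟨ψ, hψ⟩).mpr hdeg
  have hratio : MemLocalRing M ((charDegree ψ : ℂ) / (Nat.card Y : ℂ)) :=
    Cfsg.Agent.Lib.Helper22.memLocalRing_div_of_factorization_le hMp _ _ Nat.card_pos.ne' hfac
  have hidx : ((Subgroup.centralizer ({w} : Set Y)).index : ℂ) *
      (Nat.card (Subgroup.centralizer ({w} : Set Y)) : ℂ) = (Nat.card Y : ℂ) := by
    rw [mul_comm]
    exact_mod_cast (Subgroup.centralizer ({w} : Set Y)).card_mul_index
  have hc0 : (Nat.card (Subgroup.centralizer ({w} : Set Y)) : ℂ) ≠ 0 := by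
    have : Nat.card (Subgroup.centralizer ({w} : Set Y)) ≠ 0 := Nat.card_pos.ne'
    exact_mod_cast this
  have hi0 : ((Subgroup.centralizer ({w} : Set Y)).index : ℂ) ≠ 0 := by
    intro h
    rw [h, zero_mul] at hidx
    have : (Nat.card Y : ℂ) ≠ 0 := by
      have : Nat.card Y ≠ 0 := Nat.card_pos.ne'
      exact_mod_cast this
    exact this hidx.symm
  have hψ1 : ψ 1 ≠ 0 := by
    rw [← hd]; exact_mod_cast hd0
  have : ψ w / (Nat.card (Subgroup.centralizer ({w} : Set Y)) : ℂ)
      = centralChar ψ w * ((charDegree ψ : ℂ) / (Nat.card Y : ℂ)) := by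
    unfold centralChar
    rw [← hidx, hd]
    field_simp
  rw [this]
  exact memLocalRing_mul hM hcc hratio

/-- A conjugation-invariant weighted sum of translates of an irreducible character. -/
theorem irr_sum_weight_mul {ψ : Y → ℂ} (hψ : IsIrrCharacter Y ψ)
    (a : Y → ℂ) (ha : ∀ g h : Y, a (g * h * g⁻¹) = a h) (w : Y) :
    ∑ h : Y, a h * ψ (h * w) = (∑ h : Y, a h * ψ h) / ψ 1 * ψ w := by
  obtain ⟨n, ρ, hirr, rfl⟩ := hψ
  have := hirr
  have key := schur_sum ρ (fun h : Y => h) a (fun g => (MulAut.conj g).toEquiv)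
    (by intro g i; simp [MulAut.conj_apply]) (by intro g i; exact ha g i)
  have h2 := congrArg (fun T => LinearMap.trace ℂ (Fin n → ℂ) (T * ρ w)) key
  simp only [Finset.sum_mul, map_sum, smul_mul_assoc, map_smul, smul_eq_mul] at h2
  have h1 : ρ.character 1 = (Module.finrank ℂ (Fin n → ℂ) : ℂ) := Representation.char_one ρ
  rw [h1]
  have e1 : ∀ h : Y, LinearMap.trace ℂ (Fin n → ℂ) (ρ h * ρ w) = ρ.character (h * w) := by
    intro h; rw [← map_mul]; rfl
  simp only [e1] at h2
  rw [h2]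
  have e2 : (LinearMap.id : (Fin n → ℂ) →ₗ[ℂ] (Fin n → ℂ)) * ρ w = ρ w := by
    rw [← Module.End.one_eq_id, one_mul]
  rw [e2]
  rfl

end Irr

section Main

variable {X : Type*} [Group X] [Fintype X] {p : ℕ} [Fact p.Prime] {M : Ideal AlgInt}

theorem sum_eq_sum_subgroup (Y : Subgroup X) [Fintype Y] (F : X → ℂ)
    (hF : ∀ z, z ∉ Y → F z = 0) : ∑ z : X, F z = ∑ h : Y, F h := by
  classical
  rw [← Finset.sum_subtype (Finset.univ.filter (· ∈ Y)) (by simp) F]
  symm
  apply Finset.sum_subset (Finset.filter_subset _ _)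
  intro z _ hz
  simp only [Finset.mem_filter, Finset.mem_univ, true_and] at hz
  exact hF z hz

theorem extendByZero_conj (Y : Subgroup X) [hYn : Y.Normal] {ψ : ↥Y → ℂ}
    (hψ : IsClassFunction ↥Y ψ) {u : X} (hu : u ∈ Y) (z : X) :
    extendByZero Y ψ (u * z * u⁻¹) = extendByZero Y ψ z := by
  by_cases hz : z ∈ Y
  · have h1 : u * z * u⁻¹ ∈ Y := hYn.conj_mem z hz u
    rw [Cfsg.Agent.Lib.Helper34.extendByZero_apply_mem Y ψ h1,
      Cfsg.Agent.Lib.Helper34.extendByZero_apply_mem Y ψ hz]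
    exact hψ ⟨z, hz⟩ ⟨u, hu⟩
  · have h1 : u * z * u⁻¹ ∉ Y := by
      intro h
      apply hz
      have := hYn.conj_mem _ h u⁻¹
      simpa [mul_assoc] using this
    rw [Cfsg.Agent.Lib.Helper34.extendByZero_apply_not_mem Y ψ h1,
      Cfsg.Agent.Lib.Helper34.extendByZero_apply_not_mem Y ψ hz]

/-- The class sum of `y ∈ Y` (class taken in `X`) acts as a scalar on `ψ`. -/
theorem class_sum_extend (Y : Subgroup X) [hYn : Y.Normal] {ψ : ↥Y → ℂ}
    (hψ : IsIrrCharacter ↥Y ψ) (y : X) (hy : y ∈ Y) [DecidablePred (IsConj y)] (b : X) :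
    ∑ y' ∈ Finset.univ.filter (IsConj y), extendByZero Y ψ (y' * b)
      = (∑ y' ∈ Finset.univ.filter (IsConj y), extendByZero Y ψ y') / ψ 1 * extendByZero Y ψ b := by
  classical
  have hKY : ∀ y' : X, IsConj y y' → y' ∈ Y := by
    intro y' h
    obtain ⟨c, hc⟩ := isConj_iff.mp h
    rw [← hc]
    exact hYn.conj_mem y hy c
  by_cases hb : b ∈ Y
  · let a : ↥Y → ℂ := fun h => if IsConj y (h : X) then 1 else 0
    have ha : ∀ g h : ↥Y, a (g * h * g⁻¹) = a h := by
      intro g h
      simp only [a]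
      have : IsConj y ((g * h * g⁻¹ : ↥Y) : X) ↔ IsConj y (h : X) := by
        have hc : IsConj (h : X) ((g * h * g⁻¹ : ↥Y) : X) := by
          rw [isConj_iff]; exact ⟨(g : X), by simp⟩
        constructor
        · intro h1; exact h1.trans hc.symm
        · intro h1; exact h1.trans hc
      simp only [this]
    have key := irr_sum_weight_mul hψ a ha ⟨b, hb⟩
    have e1 : ∑ y' ∈ Finset.univ.filter (IsConj y), extendByZero Y ψ (y' * b)
        = ∑ h : ↥Y, a h * ψ (h * ⟨b, hb⟩) := by
      rw [Finset.sum_filter]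
      rw [sum_eq_sum_subgroup Y (fun y' => if IsConj y y' then extendByZero Y ψ (y' * b) else 0)
        (by intro z hz; rw [if_neg]; intro h; exact hz (hKY z h))]
      apply Finset.sum_congr rfl
      intro h _
      simp only [a]
      by_cases hc : IsConj y (h : X)
      · rw [if_pos hc, if_pos hc, one_mul]
        exact Cfsg.Agent.Lib.Helper34.extendByZero_apply_mem Y ψ (Y.mul_mem h.2 hb)
      · rw [if_neg hc, if_neg hc, zero_mul]
    have e2 : ∑ y' ∈ Finset.univ.filter (IsConj y), extendByZero Y ψ y'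
        = ∑ h : ↥Y, a h * ψ h := by
      rw [Finset.sum_filter]
      rw [sum_eq_sum_subgroup Y (fun y' => if IsConj y y' then extendByZero Y ψ y' else 0)
        (by intro z hz; rw [if_neg]; intro h; exact hz (hKY z h))]
      apply Finset.sum_congr rfl
      intro h _
      simp only [a]
      by_cases hc : IsConj y (h : X)
      · rw [if_pos hc, if_pos hc, one_mul]
        exact Cfsg.Agent.Lib.Helper34.extendByZero_coe Y ψ h
      · rw [if_neg hc, if_neg hc, zero_mul]
    rw [e1, e2, key, Cfsg.Agent.Lib.Helper34.extendByZero_apply_mem Y ψ hb]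
  · rw [Cfsg.Agent.Lib.Helper34.extendByZero_apply_not_mem Y ψ hb, mul_zero]
    apply Finset.sum_eq_zero
    intro y' hy'
    rw [Finset.mem_filter] at hy'
    apply Cfsg.Agent.Lib.Helper34.extendByZero_apply_not_mem Y ψ
    intro h
    apply hb
    have := Y.mul_mem (Y.inv_mem (hKY y' hy'.2)) h
    simpa using this

/-- Summing a defect zero character over the conjugate of a `p`-subgroup only sees the identity. -/
theorem sum_pgroup_extend (hMp : IsPModular p M) (Y : Subgroup X) {ψ : ↥Y → ℂ}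
    (hψ : IsIrrCharacter ↥Y ψ) (hdeg : ¬ p ∣ Nat.card Y / charDegree ψ)
    (Q : Subgroup X) (hQ : IsPGroup p Q) [Fintype Q] (n : X) :
    ∑ a : ↥Q, extendByZero Y ψ (n⁻¹ * (a : X) * n) = ψ 1 := by
  classical
  rw [Finset.sum_eq_single (1 : ↥Q)]
  · have : n⁻¹ * ((1 : ↥Q) : X) * n = ((1 : ↥Y) : X) := by simp
    rw [this, Cfsg.Agent.Lib.Helper34.extendByZero_coe]
  · intro a _ ha
    by_cases hmem : n⁻¹ * (a : X) * n ∈ Y
    · rw [Cfsg.Agent.Lib.Helper34.extendByZero_apply_mem Y ψ hmem]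
      have hsing := blockOf_eq_singleton_of_not_dvd hMp (⟨ψ, hψ⟩ : IrrCharacter ↥Y) hdeg
      apply eq_zero_of_blockOf_eq_singleton hMp (⟨ψ, hψ⟩ : IrrCharacter ↥Y) hsing
      have ho : orderOf (⟨n⁻¹ * (a : X) * n, hmem⟩ : ↥Y) = orderOf a := by
        rw [← Subgroup.orderOf_coe, ← Subgroup.orderOf_coe]
        simp only
        have : n⁻¹ * (a : X) * n = MulAut.conj n⁻¹ (a : X) := by simp
        rw [this, MulEquiv.orderOf_eq]
      rw [ho]
      obtain ⟨k, hk⟩ := (IsPGroup.iff_orderOf.mp hQ) a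
      rw [hk]
      have hk0 : k ≠ 0 := by
        rintro rfl
        rw [pow_zero, orderOf_eq_one_iff] at hk
        exact ha hk
      exact dvd_pow_self p hk0
    · exact Cfsg.Agent.Lib.Helper34.extendByZero_apply_not_mem Y ψ hmem
  · intro h; exact absurd (Finset.mem_univ _) h

end Main

end Cfsg.Agent.Lib.Helper84.GreenZero
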