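import Mathlib
import Cfsg.Agent.Lib.Helper84.Gallagher
import Cfsg.Agent.Lib.Helper84.Clifford
import Cfsg.Agent.Lib.Helper84.Frobenius
import Cfsg.Agent.Lib.Helper84.PResCount
import Cfsg.Agent.Lib.Helper34.Induction
import Cfsg.Agent.Lib.Helper83.Decompose
import Cfsg.Agent.Lib.Helper83.CharMisc
import Cfsg.Agent.Lib.Helper83.Quotient
import Cfsg.Agent.Lib.Helper83.Linear
import Cfsg.Agent.Lib.Helper22.BlockRegular
import Cfsg.Agent.Lib.Helper80.CharMisc
import Cfsg.Agent.S0856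
import Cfsg.Agent.S0887
import Cfsg.Agent.Lib.Helper70.IPDefs

/-!
# S4463 (Isaacs-Passman), pack K-IP, leaf L1: a normal subgroup with nonabelian quotient has
`2 * b(C) ≤ b(G)`
-/

set_option autoImplicit false

namespace Cfsg.Agent.Lib.Helper84.IP

open Cfsg Cfsg.Agent.Lib.Helper70.IP
open scoped ComplexConjugate

universe u

/-- If `θ` is a constituent of `χ|_N` and `χ 1 = θ 1`, then `χ|_N = θ`. -/
theorem restrict_eq_of_degree_eq {G : Type u} [Group G] [Fintype G] (N : Subgroup G) [Fintype N]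
    {χ : G → ℂ} (hχ : IsIrrCharacter G χ) (θ : IrrCharacter N)
    (hθ : classInner (fun n : N => χ n) (θ : N → ℂ) ≠ 0) (hdeg : χ 1 = (θ : N → ℂ) 1) :
    (fun n : N => χ n) = (θ : N → ℂ) := by
  classical
  have hχc := Cfsg.Agent.Lib.Helper83.isCharacter_of_irr hχ
  have hres : IsCharacter N (fun n : N => χ n) :=
    Cfsg.Agent.Lib.Helper83.isCharacter_restrict N hχc
  obtain ⟨d, ρ, hρ⟩ := Cfsg.Agent.Lib.Helper83.isCharacter_of_irr θ.2
  have hd : (θ : N → ℂ) 1 = d := by
    rw [← hρ]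
    exact Cfsg.Agent.Lib.Helper79.character_one_eq_dim ρ
  have hd0 : d ≠ 0 := by
    intro h0
    have := Cfsg.Agent.Lib.Helper84.irr_one_ne_zero (θ : N → ℂ) θ.2
    rw [hd, h0, Nat.cast_zero] at this
    exact this rfl
  obtain ⟨A', hA', hdecomp⟩ := Cfsg.Agent.Lib.Helper84.exists_char_sub hres θ
  obtain ⟨e, ρ', hρ'⟩ := hA'
  have hA'1 : A' 1 = e := by
    rw [← hρ']
    exact Cfsg.Agent.Lib.Helper79.character_one_eq_dim ρ'
  have hm : Cfsg.Agent.Lib.Helper83.irrMult (fun n : N => χ n) θ ≠ 0 := by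
    intro h0
    apply hθ
    rw [← Cfsg.Agent.Lib.Helper83.irrMult_cast hres θ, h0, Nat.cast_zero]
  have h1 := congrFun hdecomp 1
  simp only [Pi.add_apply, Pi.smul_apply, smul_eq_mul] at h1
  rw [hd, hA'1] at h1
  have h2 : χ ((1 : N) : G) = d := by
    rw [← hd, ← hdeg]
    rfl
  rw [h2] at h1
  have h3 : d = Cfsg.Agent.Lib.Helper83.irrMult (fun n : N => χ n) θ * d + e := by
    exact_mod_cast h1
  have hm1 : Cfsg.Agent.Lib.Helper83.irrMult (fun n : N => χ n) θ = 1 ∧ e = 0 := by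
    set m := Cfsg.Agent.Lib.Helper83.irrMult (fun n : N => χ n) θ with hmdef
    have hm1' : 1 ≤ m := Nat.one_le_iff_ne_zero.2 hm
    have hd1 : 1 ≤ d := Nat.one_le_iff_ne_zero.2 hd0
    constructor
    · by_contra hne
      have h2m : 2 ≤ m := by omega
      have : 2 * d ≤ m * d := Nat.mul_le_mul_right d h2m
      omega
    · by_contra hne
      have : d ≤ m * d := Nat.le_mul_of_pos_left d hm1'
      omega
  have hA'0 : A' = 0 := by
    apply Cfsg.Agent.Lib.Helper80.char_eq_zero_of_degree_zero ⟨e, ρ', hρ'⟩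
    rw [hA'1, hm1.2, Nat.cast_zero]
  rw [hdecomp, hm1.1, hA'0, Nat.cast_one, one_smul, add_zero]

/-- Gallagher: `χ|_K` irreducible, `β` irreducible with `K ≤ ker β`: `β * χ` irreducible. -/
theorem mul_irr_of_restrict_irr {G : Type u} [Group G] [Fintype G] (K : Subgroup G) [hK : K.Normal]
    {χ β : G → ℂ} (hχ : IsIrrCharacter G χ) (hβ : IsIrrCharacter G β)
    (hβK : ∀ k ∈ K, β k = β 1) (hres : IsIrrCharacter K (fun n : K => χ n)) :
    IsIrrCharacter G (β * χ) := by
  classical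
  haveI : Fintype K := Fintype.ofFinite _
  have hχc := Cfsg.Agent.Lib.Helper83.isCharacter_of_irr hχ
  have hβc := Cfsg.Agent.Lib.Helper83.isCharacter_of_irr hβ
  have hχcl : IsClassFunction G χ := Cfsg.Agent.Lib.Helper83.char_isClassFunction hχc
  have hβcl : IsClassFunction G β := Cfsg.Agent.Lib.Helper83.char_isClassFunction hβc
  have hone : IsIrrCharacter K (fun _ : K => (1 : ℂ)) := Cfsg.Agent.Lib.Helper83.isIrrCharacter_one
  have hprod : ((fun _ : K => (1 : ℂ)) * fun n : K => χ n) = fun n : K => χ n := by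
    funext n
    simp
  have hbij := Cfsg.Agent.S0856.result K (fun _ : K => (1 : ℂ)) (fun n : K => χ n) hone hres
    (fun _ _ => rfl)
    (fun g n => by
      have := hχcl (n : G) g
      simpa using this)
    (by rw [hprod]; exact hres) χ hχ (fun _ => rfl)
  have hmem : β ∈ {β : G → ℂ | Cfsg.IsIrrCharacter G β ∧
      Cfsg.classInner (Cfsg.indFun K (fun _ : K => (1 : ℂ))) β ≠ 0} := by
    refine ⟨hβ, ?_⟩
    rw [Cfsg.Agent.Lib.Helper34.classInner_indFun_left K _ β hβcl,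
      Cfsg.Agent.Lib.Helper34.classInner_def]
    have h1 : ∀ h : K, (1 : ℂ) * conj (β (h : G)) = conj (β 1) := by
      intro h
      rw [one_mul, hβK h h.2]
    rw [Finset.sum_congr rfl (fun h _ => h1 h), Finset.sum_const, Finset.card_univ,
      nsmul_eq_mul, ← Nat.card_eq_fintype_card]
    have hKne : (Nat.card K : ℂ) ≠ 0 := by exact_mod_cast Nat.card_pos.ne'
    rw [← mul_assoc, inv_mul_cancel₀ hKne, one_mul]
    intro h0
    have : β 1 = 0 := by
      have := congrArg conj h0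
      simpa using this
    exact Cfsg.Agent.Lib.Helper84.irr_one_ne_zero β hβ this
  exact (hbij.mapsTo hmem).1

/-- **L1 core**: `C ⊴ G` with `G ⧸ C` nonabelian: every `θ ∈ Irr(C)` has `2 θ(1) ≤ χ(1)` for some
`χ ∈ Irr(G)`. -/
theorem exists_irr_two_mul_le {G : Type u} [Group G] [Finite G] (C : Subgroup G) [hC : C.Normal]
    (hnc : ¬ (commutator G ≤ C)) (θ : IrrCharacter C) :
    ∃ χ : IrrCharacter G, 2 * charDegree (θ : C → ℂ) ≤ charDegree (χ : G → ℂ) := by
  classical
  letI : Fintype G := Fintype.ofFinite G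
  letI : Fintype C := Fintype.ofFinite C
  obtain ⟨χ, hχθ⟩ := Cfsg.Agent.Lib.Helper22.exists_irr_over C θ
  have hχc := Cfsg.Agent.Lib.Helper83.isCharacter_of_irr χ.2
  have hθc := Cfsg.Agent.Lib.Helper83.isCharacter_of_irr θ.2
  have hc : (χ : G → ℂ) 1 = (charDegree (χ : G → ℂ) : ℂ) :=
    (Cfsg.Agent.Lib.Helper83.charDegree_cast hχc).symm
  have hd : (θ : C → ℂ) 1 = (charDegree (θ : C → ℂ) : ℂ) :=
    (Cfsg.Agent.Lib.Helper83.charDegree_cast hθc).symm
  obtain ⟨hdvd, -⟩ := Cfsg.Agent.S0887.result C (χ : G → ℂ) χ.2 (θ : C → ℂ) θ.2 hχθ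
    (charDegree (χ : G → ℂ)) (charDegree (θ : C → ℂ)) hc hd
  have hdpos : 0 < charDegree (θ : C → ℂ) := Cfsg.Agent.Lib.Helper83.irr_charDegree_pos θ
  have hcpos : 0 < charDegree (χ : G → ℂ) := Cfsg.Agent.Lib.Helper83.irr_charDegree_pos χ
  obtain ⟨e, he⟩ := hdvd
  by_cases he2 : 2 ≤ e
  · refine ⟨χ, ?_⟩
    rw [he, mul_comm]
    exact Nat.mul_le_mul_left _ he2
  · -- `e = 1`: `χ` extends `θ`
    have he1 : e = 1 := by
      have : e ≠ 0 := by
        rintro rfl
        rw [mul_zero] at he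
        omega
      omega
    rw [he1, mul_one] at he
    have hdeg : (χ : G → ℂ) 1 = (θ : C → ℂ) 1 := by rw [hc, hd, he]
    have hreseq := restrict_eq_of_degree_eq C χ.2 θ hχθ hdeg
    have hres : IsIrrCharacter C (fun n : C => (χ : G → ℂ) n) := by
      rw [hreseq]; exact θ.2
    -- a nonlinear character of the quotient
    have hncomm : ¬ ∀ a b : G ⧸ C, a * b = b * a := by
      intro hcomm
      apply hnc
      rw [commutator_def, Subgroup.commutator_le]
      intro a _ b _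
      rw [← QuotientGroup.eq_one_iff, commutatorElement_def]
      simp only [QuotientGroup.mk_mul, QuotientGroup.mk_inv]
      rw [hcomm (a : G ⧸ C) (b : G ⧸ C)]
      group
    obtain ⟨β₀, hβ₀⟩ := Cfsg.Agent.Lib.Helper83.exists_nonlinear_of_not_comm hncomm
    set β : G → ℂ := fun g => (β₀ : G ⧸ C → ℂ) (QuotientGroup.mk g) with hβdef
    have hβ : IsIrrCharacter G β := Cfsg.Agent.Lib.Helper83.isIrrCharacter_inflate C β₀.2
    have hβ1 : β 1 = (β₀ : G ⧸ C → ℂ) 1 := by
      rw [hβdef]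
      simp only [QuotientGroup.mk_one]
    have hβK : ∀ k ∈ C, β k = β 1 := by
      intro k hk
      rw [hβ1, hβdef]
      simp only
      rw [(QuotientGroup.eq_one_iff k).mpr hk]
    have hβc := Cfsg.Agent.Lib.Helper83.isCharacter_of_irr hβ
    have hβcast := Cfsg.Agent.Lib.Helper83.charDegree_cast hβc
    have hβpos : 0 < charDegree β := Cfsg.Agent.Lib.Helper83.irr_charDegree_pos ⟨β, hβ⟩
    have hβne1 : charDegree β ≠ 1 := by
      intro h1
      apply hβ₀
      rw [← hβ1, ← hβcast, h1, Nat.cast_one]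
    have hβ2 : 2 ≤ charDegree β := by omega
    have hirr := mul_irr_of_restrict_irr C χ.2 hβ hβK hres
    have h3 : (β * (χ : G → ℂ)) 1 = ((charDegree β * charDegree (χ : G → ℂ) : ℕ) : ℂ) := by
      rw [Pi.mul_apply, ← hβcast, hc, Nat.cast_mul]
    have hdegprod : charDegree (β * (χ : G → ℂ)) = charDegree β * charDegree (χ : G → ℂ) :=
      Cfsg.Agent.Lib.Helper84.charDegree_eq_of_one h3
    refine ⟨⟨β * (χ : G → ℂ), hirr⟩, ?_⟩
    show 2 * charDegree (θ : C → ℂ) ≤ charDegree (β * (χ : G → ℂ))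
    rw [hdegprod, he]
    exact Nat.mul_le_mul_right _ hβ2

/-- 446308 IP-L1: `C` normal with `G ⧸ C` nonabelian: `2 b(C) ≤ b(G)`. -/
theorem two_mul_degLE_of_normal {G : Type u} [Group G] [Finite G] (b : ℕ) (hb : DegLE G b)
    (C : Subgroup G) [C.Normal] (hC : ¬ commutator G ≤ C) :
    ∀ θ : IrrCharacter C, 2 * charDegree (θ : C → ℂ) ≤ b := by
  intro θ
  obtain ⟨χ, hχ⟩ := exists_irr_two_mul_le C hC θ
  exact hχ.trans (hb χ)

end Cfsg.Agent.Lib.Helper84.IP
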