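import Mathlib
import Cfsg.Agent.Lib.Helper84.OddReal
import Cfsg.Agent.Lib.Helper84.LinearTwist

set_option autoImplicit false

namespace Cfsg.Agent.Lib.Helper84

open scoped ComplexConjugate
open Cfsg

section

universe u

variable {G : Type u} [Group G] [Fintype G] (N : Subgroup G) [hN : N.Normal]

theorem classInner_conj_conj'' {C : Type*} [Group C] [Fintype C] (φ ψ : C → ℂ) :
    classInner (fun g => conj (φ g)) (fun g => conj (ψ g)) = conj (classInner φ ψ) := by
  simp only [classInner, map_mul, map_inv₀, Complex.conj_natCast, map_sum, Complex.conj_conj]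

/-- **Parity lemma**: if `N` is normal of odd index and `Ψ` is a real-valued character of `G`,
then `[Ψ_N, 1_N] ≡ [Ψ, 1_G]` modulo `2`. -/
theorem parity_restrict_triv [Fintype N] (hodd : Odd N.index) {Ψ : G → ℂ} (hΨ : IsCharacter G Ψ)
    (hreal : ∀ g : G, (Ψ g).im = 0) :
    ∃ a b : ℕ, classInner (fun n : N => Ψ n) (fun _ : N => (1 : ℂ)) = a ∧
      classInner Ψ (fun _ : G => (1 : ℂ)) = b ∧ a % 2 = b % 2 := by
  classical
  have : Fintype (IrrCharacter G) := Fintype.ofFinite _
  have hdec := Cfsg.Agent.Lib.Helper83.char_eq_sum_irrMult hΨ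
  set m : IrrCharacter G → ℕ := fun β => Cfsg.Agent.Lib.Helper83.irrMult Ψ β with hm
  have h1N : IsCharacter N (fun _ : N => (1 : ℂ)) := Cfsg.Agent.Lib.Helper83.isCharacter_one
  have hr : ∀ β : IrrCharacter G, ∃ r : ℕ,
      classInner (fun n : N => (β : G → ℂ) n) (fun _ : N => (1 : ℂ)) = r := fun β =>
    Cfsg.Agent.Lib.Helper83.classInner_char_nat
      (Cfsg.Agent.Lib.Helper83.isCharacter_restrict N
        (Cfsg.Agent.Lib.Helper83.IrrCharacter_isCharacter β)) h1N
  choose r hr using hr
  set triv : IrrCharacter G := Cfsg.Agent.Lib.Helper83.trivChar G with htriv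
  have hΨconj : (fun g => conj (Ψ g)) = Ψ := by
    funext g
    exact Complex.conj_eq_iff_im.mpr (hreal g)
  -- symmetry of the multiplicities
  have hmbar : ∀ β : IrrCharacter G, m (conjIrr' β) = m β := by
    intro β
    have e1 : (m (conjIrr' β) : ℂ) = classInner Ψ ((conjIrr' β : IrrCharacter G) : G → ℂ) :=
      Cfsg.Agent.Lib.Helper83.irrMult_cast hΨ _
    have e2 : (m β : ℂ) = classInner Ψ (β : G → ℂ) := Cfsg.Agent.Lib.Helper83.irrMult_cast hΨ _
    have e3 : classInner Ψ ((conjIrr' β : IrrCharacter G) : G → ℂ) =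
        conj (classInner Ψ (β : G → ℂ)) := by
      have := classInner_conj_conj'' Ψ (β : G → ℂ)
      rw [hΨconj] at this
      exact this
    rw [e3, ← e2, Complex.conj_natCast] at e1
    exact_mod_cast e1
  have hrbar : ∀ β : IrrCharacter G, r (conjIrr' β) = r β := by
    intro β
    have e3 : classInner (fun n : N => ((conjIrr' β : IrrCharacter G) : G → ℂ) n)
        (fun _ : N => (1 : ℂ)) =
        conj (classInner (fun n : N => (β : G → ℂ) n) (fun _ : N => (1 : ℂ))) := by
      have := classInner_conj_conj'' (fun n : N => (β : G → ℂ) n) (fun _ : N => (1 : ℂ))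
      simp only [map_one] at this
      exact this
    rw [hr, hr, Complex.conj_natCast] at e3
    exact_mod_cast e3
  have hrtriv : r triv = 1 := by
    have := hr triv
    have h2 := Cfsg.Agent.Lib.Helper83.irr_inner_self (Cfsg.Agent.Lib.Helper83.trivChar N)
    have h3 : (fun n : N => (triv : G → ℂ) n) =
        ((Cfsg.Agent.Lib.Helper83.trivChar N : IrrCharacter N) : N → ℂ) := rfl
    rw [h3] at this
    have h4 : (fun _ : N => (1 : ℂ)) =
        ((Cfsg.Agent.Lib.Helper83.trivChar N : IrrCharacter N) : N → ℂ) := rfl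
    rw [h4, h2] at this
    exact_mod_cast this.symm
  refine ⟨∑ β : IrrCharacter G, m β * r β, m triv, ?_, ?_, ?_⟩
  · have hres : (fun n : N => Ψ n) =
        ∑ β : IrrCharacter G, (m β : ℂ) • (fun n : N => (β : G → ℂ) n) := by
      funext n
      conv_lhs => rw [hdec]
      simp [Finset.sum_apply, hm]
    rw [hres, Cfsg.Agent.Lib.Helper83.classInner_sum_left]
    push_cast
    refine Finset.sum_congr rfl fun β _ => ?_
    rw [Cfsg.Agent.Lib.Helper83.classInner_smul_left, hr]
  · exact (Cfsg.Agent.Lib.Helper83.irrMult_cast hΨ triv).symm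
  · have hz : ((∑ β : IrrCharacter G, m β * r β : ℕ) : ZMod 2) = (m triv : ZMod 2) := by
      rw [← Finset.add_sum_erase Finset.univ _ (Finset.mem_univ triv)]
      push_cast
      rw [hrtriv, Nat.cast_one, mul_one]
      have hzero : ∑ β ∈ Finset.univ.erase triv, ((m β : ZMod 2) * (r β : ZMod 2)) = 0 := by
        apply Finset.sum_involution (fun β _ => conjIrr' β)
        · intro β _
          rw [hmbar, hrbar]
          exact CharTwo.add_self_eq_zero _
        · intro β hβ hne hfix
          have hβreal := (conjIrr'_eq_iff β).mp hfix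
          have hrne : r β ≠ 0 := by
            intro h0
            apply hne
            rw [h0, Nat.cast_zero, mul_zero]
          have hne' : classInner (fun n : N => (β : G → ℂ) n) (fun _ : N => (1 : ℂ)) ≠ 0 := by
            rw [hr]
            exact_mod_cast hrne
          have hconst := irr_const_of_classInner_one_ne_zero N β.2 hne'
          have h1 := real_irr_eq_one_of_odd_index N hodd β hβreal hconst
          have : β = triv := Subtype.ext h1
          exact (Finset.ne_of_mem_erase hβ) this
        · intro β _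
          apply Subtype.ext; funext g
          simp [conjIrr'_apply]
        · intro β hβ
          apply Finset.mem_erase.mpr
          refine ⟨?_, Finset.mem_univ _⟩
          intro h
          apply Finset.ne_of_mem_erase hβ
          have h2 : conjIrr' (conjIrr' β) = conjIrr' triv := congrArg conjIrr' h
          have h3 : conjIrr' (conjIrr' β) = β := by
            apply Subtype.ext; funext g
            simp [conjIrr'_apply]
          have h4 : conjIrr' triv = triv := by
            apply Subtype.ext; funext g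
            simp [conjIrr'_apply, htriv, Cfsg.Agent.Lib.Helper83.trivChar_apply]
          rw [h3, h4] at h2
          exact h2
      rw [hzero, add_zero]
    exact (ZMod.natCast_eq_natCast_iff' _ _ 2).mp hz

/-- **Parity for pairs of real characters**: if `N` is normal of odd index and `χ₁, χ₂` are
real-valued irreducible characters of `G` then `[χ₁|_N, χ₂|_N] ≡ δ_{χ₁ χ₂}` modulo `2`. -/
theorem parity_real_pair [Fintype N] (hodd : Odd N.index) (χ₁ χ₂ : IrrCharacter G)
    (h1 : ∀ g : G, ((χ₁ : G → ℂ) g).im = 0) (h2 : ∀ g : G, ((χ₂ : G → ℂ) g).im = 0) :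
    ∃ a : ℕ, classInner (fun n : N => (χ₁ : G → ℂ) n) (fun n : N => (χ₂ : G → ℂ) n) = a ∧
      a % 2 = if χ₁ = χ₂ then 1 else 0 := by
  classical
  have hΨ : IsCharacter G ((χ₁ : G → ℂ) * (χ₂ : G → ℂ)) :=
    Cfsg.Agent.Lib.Helper83.isCharacter_mul (Cfsg.Agent.Lib.Helper83.IrrCharacter_isCharacter χ₁)
      (Cfsg.Agent.Lib.Helper83.IrrCharacter_isCharacter χ₂)
  have hΨreal : ∀ g : G, (((χ₁ : G → ℂ) * (χ₂ : G → ℂ)) g).im = 0 := by
    intro g
    rw [Pi.mul_apply, Complex.mul_im, h1 g, h2 g]
    ring
  obtain ⟨a, b, ha, hb, hab⟩ := parity_restrict_triv N hodd hΨ hΨreal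
  have hc2 : ∀ g : G, conj ((χ₂ : G → ℂ) g) = (χ₂ : G → ℂ) g := fun g =>
    Complex.conj_eq_iff_im.mpr (h2 g)
  refine ⟨a, ?_, ?_⟩
  · rw [← ha, Cfsg.Agent.Lib.Helper83.classInner_def, Cfsg.Agent.Lib.Helper83.classInner_def]
    congr 1
    refine Finset.sum_congr rfl fun n _ => ?_
    rw [Pi.mul_apply, map_one, mul_one, hc2]
  · rw [hab]
    have hb' : classInner ((χ₁ : G → ℂ) * (χ₂ : G → ℂ)) (fun _ : G => (1 : ℂ)) =
        classInner (χ₁ : G → ℂ) (χ₂ : G → ℂ) := by
      rw [Cfsg.Agent.Lib.Helper83.classInner_def, Cfsg.Agent.Lib.Helper83.classInner_def]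
      congr 1
      refine Finset.sum_congr rfl fun g _ => ?_
      rw [Pi.mul_apply, map_one, mul_one, hc2]
    rw [hb', Cfsg.Agent.Lib.Helper83.irr_orthonormal] at hb
    split_ifs with h
    · rw [if_pos h] at hb
      have : b = 1 := by exact_mod_cast hb.symm
      rw [this]
    · rw [if_neg h] at hb
      have : b = 0 := by exact_mod_cast hb.symm
      rw [this]

end

end Cfsg.Agent.Lib.Helper84
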