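import Mathlib

set_option autoImplicit false

namespace Cfsg.Agent.Lib.Helper84

/-- Counting a quotient through a surjection compatible with two equivalence relations. -/
theorem card_quot_congr {α β : Type*} (r : α → α → Prop) (s : β → β → Prop)
    (hs : Equivalence s) (f : α → β) (hsurj : Function.Surjective f)
    (h : ∀ a b, r a b ↔ s (f a) (f b)) : Nat.card (Quot r) = Nat.card (Quot s) := by
  apply Nat.card_congr
  refine Equiv.ofBijective (Quot.map f (fun a b hab => (h a b).1 hab)) ⟨?_, ?_⟩
  · intro a b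
    induction a using Quot.ind with | _ a => ?_
    induction b using Quot.ind with | _ b => ?_
    intro hab
    simp only [Quot.map] at hab
    have h1 : s (f a) (f b) := by
      have := Quot.eqvGen_exact hab
      rwa [hs.eqvGen_iff] at this
    exact Quot.sound ((h a b).2 h1)
  · intro b
    induction b using Quot.ind with | _ b => ?_
    obtain ⟨a, rfl⟩ := hsurj b
    exact ⟨Quot.mk r a, rfl⟩

section

variable {Γ X : Type*} [Group Γ] [MulAction Γ X] (c : X → X)

/-- If all orbits are odd and `c` is an involution commuting with the action,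
then `g • x = c x` forces `c x = x`. -/
theorem fixed_of_smul_eq_of_odd [Finite X] (hc : Function.Involutive c)
    (hcomm : ∀ (g : Γ) (x : X), c (g • x) = g • c x)
    (hodd : ∀ x : X, Odd (Nat.card (MulAction.orbit Γ x)))
    {g : Γ} {x : X} (h : g • x = c x) : c x = x := by
  classical
  have hmaps : ∀ y : MulAction.orbit Γ x, c y.1 ∈ MulAction.orbit Γ x := by
    rintro ⟨y, k, rfl⟩
    change c (k • x) ∈ MulAction.orbit Γ x
    rw [hcomm, ← h, ← mul_smul]
    exact MulAction.mem_orbit _ _
  let σ : Function.End (MulAction.orbit Γ x) := fun y => ⟨c y.1, hmaps y⟩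
  have hσ : σ ^ 2 ^ 1 = 1 := by
    rw [pow_one, pow_two]
    funext y
    exact Subtype.ext (hc y.1)
  have : Fintype (MulAction.orbit Γ x) := Fintype.ofFinite _
  have : Fact (Nat.Prime 2) := ⟨Nat.prime_two⟩
  have hmod := Equiv.Perm.card_fixedPoints_modEq (p := 2) (n := 1) hσ
  have hoddx := hodd x
  rw [Nat.card_eq_fintype_card] at hoddx
  have hfix : Fintype.card (Function.fixedPoints σ) ≠ 0 := by
    intro h0
    rw [h0] at hmod
    have := (Nat.modEq_zero_iff_dvd.mp hmod)
    exact (Nat.not_even_iff_odd.mpr hoddx) (even_iff_two_dvd.mpr this)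
  obtain ⟨⟨y, hy'⟩⟩ := Fintype.card_pos_iff.mp (Nat.pos_of_ne_zero hfix)
  change σ y = y at hy'
  obtain ⟨y, k, rfl⟩ := y
  have h1 : c (k • x) = k • x := congrArg Subtype.val hy'
  rw [hcomm] at h1
  exact smul_left_cancel k h1

/-- The relation "in the same orbit" on the fixed points of `c` is an equivalence relation. -/
theorem smulRel_equivalence :
    Equivalence (fun x y : {x : X // c x = x} => ∃ g : Γ, g • x.1 = y.1) := by
  refine ⟨fun x => ⟨1, one_smul _ _⟩, ?_, ?_⟩
  · rintro x y ⟨g, hg⟩
    exact ⟨g⁻¹, by rw [← hg, inv_smul_smul]⟩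
  · rintro x y z ⟨g, hg⟩ ⟨h, hh⟩
    exact ⟨h * g, by rw [mul_smul, hg, hh]⟩

/-- Burnside-type count of the orbits on the fixed points of a commuting involution. -/
theorem card_mul_card_quot_fixed [Finite Γ] [Finite X] (hc : Function.Involutive c)
    (hcomm : ∀ (g : Γ) (x : X), c (g • x) = g • c x)
    (hodd : ∀ x : X, Odd (Nat.card (MulAction.orbit Γ x))) :
    Nat.card (Quot (fun x y : {x : X // c x = x} => ∃ g : Γ, g • x.1 = y.1)) * Nat.card Γ =
      ∑ᶠ g : Γ, Nat.card {x : X // g • x = c x} := by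
  classical
  let S : SubMulAction Γ X :=
    { carrier := {x | c x = x}
      smul_mem' := by
        intro g x hx
        change c (g • x) = g • x
        rw [hcomm, hx] }
  have : Fintype Γ := Fintype.ofFinite _
  have : Fintype X := Fintype.ofFinite _
  have : Fintype S := Fintype.ofFinite _
  have : Fintype (Quotient (MulAction.orbitRel Γ S)) := Fintype.ofFinite _
  have hB := MulAction.sum_card_fixedBy_eq_card_orbits_mul_card_group Γ S
  have hq : Nat.card (Quot (fun x y : {x : X // c x = x} => ∃ g : Γ, g • x.1 = y.1)) =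
      Fintype.card (Quotient (MulAction.orbitRel Γ S)) := by
    rw [← Nat.card_eq_fintype_card]
    apply Nat.card_congr
    refine Quot.congr (Equiv.refl _) ?_
    intro a b
    change (∃ g : Γ, g • a.1 = b.1) ↔ (MulAction.orbitRel Γ S) a b
    rw [MulAction.orbitRel_apply, MulAction.mem_orbit_iff]
    constructor
    · rintro ⟨g, hg⟩
      refine ⟨g⁻¹, Subtype.ext ?_⟩
      change g⁻¹ • b.1 = a.1
      rw [← hg, inv_smul_smul]
    · rintro ⟨g, hg⟩
      refine ⟨g⁻¹, ?_⟩
      rw [← hg]
      change g⁻¹ • (g • b.1) = b.1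
      rw [inv_smul_smul]
  rw [hq, Nat.card_eq_fintype_card, ← hB, finsum_eq_sum_of_fintype]
  refine Finset.sum_congr rfl fun g _ => ?_
  rw [← Nat.card_eq_fintype_card]
  apply Nat.card_congr
  refine ⟨fun x => ⟨x.1.1, ?_⟩, fun x => ⟨⟨x.1, ?_⟩, ?_⟩, ?_, ?_⟩
  · have h1 : g • x.1 = x.1 := x.2
    have h2 : c x.1.1 = x.1.1 := x.1.2
    rw [h2]
    exact congrArg Subtype.val h1
  · exact fixed_of_smul_eq_of_odd c hc hcomm hodd x.2
  · have h2 : c x.1 = x.1 := fixed_of_smul_eq_of_odd c hc hcomm hodd x.2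
    change g • (⟨x.1, _⟩ : S) = ⟨x.1, _⟩
    apply Subtype.ext
    change g • x.1 = x.1
    rw [x.2, h2]
  · intro x; rfl
  · intro x; rfl

end

end Cfsg.Agent.Lib.Helper84
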