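import Mathlib

set_option autoImplicit false

namespace Cfsg.Agent.Lib.Helper84

/-- A self-map of a finite set whose `p`-th iterate is the identity has a fixed point when `p`
does not divide the cardinality of the set. -/
theorem exists_fixed_of_iterate {α : Type*} [Finite α] (σ : α → α) (p : ℕ) [Fact p.Prime]
    (hσ : ∀ a, σ^[p] a = a) (hcard : ¬ p ∣ Nat.card α) : ∃ a, σ a = a := by
  classical
  have : Fintype α := Fintype.ofFinite α
  let f : Function.End α := σ
  have hpow : ∀ n : ℕ, ∀ a, (f ^ n) a = σ^[n] a := by
    intro n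
    induction n with
    | zero => intro a; rfl
    | succ n ih =>
      intro a
      rw [pow_succ, Function.iterate_succ_apply]
      change (f ^ n) (σ a) = _
      exact ih (σ a)
  have h1 : f ^ p ^ 1 = 1 := by
    rw [pow_one]
    funext a
    rw [hpow]
    exact hσ a
  have h2 := Equiv.Perm.card_fixedPoints_modEq (f := f) h1
  by_contra hne
  push Not at hne
  have h3 : Fintype.card (Function.fixedPoints f) = 0 := by
    rw [Fintype.card_eq_zero_iff]
    exact ⟨fun x => hne x.1 x.2⟩
  rw [h3] at h2
  apply hcard
  rw [Nat.card_eq_fintype_card]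
  exact (Nat.modEq_zero_iff_dvd).1 h2

/-- Iterating conjugation by `g` on a normal subgroup is conjugation by `g ^ j`. -/
theorem conjNormal_iterate {G : Type*} [Group G] (H : Subgroup G) [H.Normal] (g : G) (j : ℕ)
    (k : H) : (fun h : H => (MulAut.conjNormal g : MulAut H) h)^[j] k =
      (MulAut.conjNormal (g ^ j) : MulAut H) k := by
  induction j generalizing k with
  | zero => simp
  | succ j ih =>
    rw [Function.iterate_succ_apply, ih, pow_succ, map_mul, MulAut.mul_apply]

/-- Let `y` be an element of finite order `n` coprime to `|H|`, where `H` is a finite normal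
subgroup; let `S` be a set of elements of `H` stable under conjugation by `y`, whose cardinality
divides `|H|`. Then for every prime `p` dividing `n`, the element `y ^ (n / p)` (of order `p`)
centralises some element of `S`. -/
theorem exists_fixed_conj_of_coprime {G : Type*} [Group G] (H : Subgroup G) [H.Normal] [Finite H]
    (y : G) (p : ℕ) [Fact p.Prime] (hp : p ∣ orderOf y) (hpH : ¬ p ∣ Nat.card H)
    (S : Set H) (hS : ∀ k ∈ S, (MulAut.conjNormal y : MulAut H) k ∈ S)
    (hcard : Nat.card S ∣ Nat.card H) :
    ∃ k ∈ S, y ^ (orderOf y / p) * (k : G) = (k : G) * y ^ (orderOf y / p) := by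
  classical
  set m := orderOf y / p with hm
  have hmp : m * p = orderOf y := Nat.div_mul_cancel hp
  let σ : S → S := fun k => ⟨(MulAut.conjNormal y : MulAut H) k.1, hS k.1 k.2⟩
  have hiter : ∀ (j : ℕ) (a : S), ((σ^[j] a : S) : H) = (MulAut.conjNormal (y ^ j) : MulAut H) a.1 := by
    intro j
    induction j with
    | zero => intro a; simp
    | succ j ih =>
      intro a
      rw [Function.iterate_succ_apply, ih, pow_succ, map_mul, MulAut.mul_apply]
  have hσ : ∀ a : S, (σ^[m])^[p] a = a := by
    intro a
    rw [← Function.iterate_mul, hmp]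
    apply Subtype.ext
    rw [hiter, pow_orderOf_eq_one, map_one, MulAut.one_apply]
  have hc : ¬ p ∣ Nat.card S := fun h => hpH (h.trans hcard)
  obtain ⟨a, ha⟩ := exists_fixed_of_iterate (σ^[m]) p hσ hc
  refine ⟨a.1, a.2, ?_⟩
  have h1 := hiter m a
  rw [ha] at h1
  have h2 := congrArg (Subtype.val : H → G) h1
  rw [MulAut.conjNormal_apply] at h2
  calc y ^ m * (a.1 : G) = y ^ m * (a.1 : G) * (y ^ m)⁻¹ * y ^ m := by group
    _ = (a.1 : G) * y ^ m := by rw [← h2]

end Cfsg.Agent.Lib.Helper84
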