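import Mathlib

set_option autoImplicit false

namespace Cfsg.Agent.Lib.Helper84

/-- The set of elements conjugating `a` to `b` (when nonempty) has cardinality dividing `|K|`. -/
theorem card_conj_transporter_dvd {K : Type*} [Group K] [Finite K] (a b : K)
    (h : ∃ c : K, c * a * c⁻¹ = b) : Nat.card {k : K // k * a * k⁻¹ = b} ∣ Nat.card K := by
  classical
  obtain ⟨c₀, hc₀⟩ := h
  let Z : Subgroup K := Subgroup.centralizer ({a} : Set K)
  have hZ : ∀ c : K, c ∈ Z ↔ a * c = c * a := by
    intro c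
    rw [Subgroup.mem_centralizer_iff]
    constructor
    · intro h; exact h a (Set.mem_singleton _)
    · intro h x hx
      rw [Set.mem_singleton_iff] at hx
      rw [hx]; exact h
  let e : Z ≃ {k : K // k * a * k⁻¹ = b} :=
    { toFun := fun c => ⟨c₀ * c.1, by
        have := (hZ c.1).mp c.2
        rw [mul_assoc c₀, ← this, ← hc₀]
        group⟩
      invFun := fun k => ⟨c₀⁻¹ * k.1, by
        rw [hZ]
        have hk : k.1 * a * k.1⁻¹ = b := k.2
        have : k.1 * a * k.1⁻¹ = c₀ * a * c₀⁻¹ := by rw [hk, hc₀]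
        calc a * (c₀⁻¹ * k.1) = c₀⁻¹ * (c₀ * a * c₀⁻¹) * k.1 := by group
          _ = c₀⁻¹ * k.1 * a := by rw [← this]; group⟩
      left_inv := by intro c; apply Subtype.ext; simp
      right_inv := by intro k; apply Subtype.ext; simp }
  rw [← Nat.card_congr e]
  exact Subgroup.card_subgroup_dvd_card Z

/-- The cardinality of a conjugacy class divides the group order. -/
theorem card_class_carrier_dvd {K : Type*} [Group K] [Finite K] (C : ConjClasses K) :
    Nat.card {c : K // ConjClasses.mk c = C} ∣ Nat.card K := by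
  obtain ⟨k₀, rfl⟩ := ConjClasses.mk_surjective C
  have h1 : {c : K | ConjClasses.mk c = ConjClasses.mk k₀} = MulAction.orbit (ConjAct K) k₀ := by
    rw [ConjAct.orbit_eq_carrier_conjClasses]
    ext c
    exact ConjClasses.mem_carrier_iff_mk_eq.symm
  change Nat.card ({c : K | ConjClasses.mk c = ConjClasses.mk k₀} : Set K) ∣ _
  rw [h1, Nat.card_coe_set_eq, ← MulAction.index_stabilizer]
  exact Subgroup.index_dvd_card _

/-- A `p`-group `P` normalising `K` and acting by conjugation on a `P`-stable set `S` of elements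
of `K` of cardinality prime to `p` fixes some element of `S`. -/
theorem exists_fixed_conj_pgroup {G : Type*} [Group G] (p : ℕ) [Fact p.Prime] (P K : Subgroup G)
    (hP : IsPGroup p P) (hnorm : ∀ x ∈ P, ∀ k ∈ K, x * k * x⁻¹ ∈ K) (S : Set K)
    (hS : ∀ x ∈ P, ∀ k ∈ S, ∀ k' : K, (k' : G) = x * k * x⁻¹ → k' ∈ S)
    (hcard : ¬ p ∣ Nat.card S) : ∃ k ∈ S, ∀ x ∈ P, x * (k : G) * x⁻¹ = k := by
  classical
  let act : P → S → S := fun x k =>
    ⟨⟨(x : G) * (k.1 : G) * (x : G)⁻¹, hnorm x x.2 k.1 k.1.2⟩, hS x x.2 k.1 k.2 _ rfl⟩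
  let _inst : MulAction P S :=
    { smul := act
      one_smul := by
        intro k
        apply Subtype.ext; apply Subtype.ext
        change ((1 : P) : G) * (k.1 : G) * ((1 : P) : G)⁻¹ = (k.1 : G)
        simp
      mul_smul := by
        intro x y k
        apply Subtype.ext; apply Subtype.ext
        change ((x * y : P) : G) * (k.1 : G) * ((x * y : P) : G)⁻¹ =
          (x : G) * ((y : G) * (k.1 : G) * (y : G)⁻¹) * (x : G)⁻¹
        simp [mul_assoc] }
  obtain ⟨k, hk⟩ := hP.nonempty_fixed_point_of_prime_not_dvd_card S hcard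
  refine ⟨k.1, k.2, fun x hx => ?_⟩
  have h1 : (⟨x, hx⟩ : P) • k = k := hk ⟨x, hx⟩
  exact congrArg (fun z : S => ((z : K) : G)) h1

end Cfsg.Agent.Lib.Helper84
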