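import Mathlib
import Cfsg.Prelude.Def_Blocks
import Cfsg.Prelude.Def_Transfer
import Cfsg.Agent.Lib.Helper83.Decompose
import Cfsg.Agent.Lib.Helper83.Quotient
import Cfsg.Agent.Lib.Helper83.Abelian
import Cfsg.Agent.Lib.Helper83.Completeness
import Cfsg.Agent.Lib.Helper83.LinearCount
import Cfsg.Agent.Lib.Helper84.LinearTwist
import Cfsg.Agent.Lib.Helper82.BlockOrth
import Cfsg.Agent.Lib.Helper21.BlockDegreeSum
import Cfsg.Agent.Lib.Helper81.ThirdMain
import Cfsg.Agent.Lib.Helper04.Focal
import Cfsg.Agent.Lib.Helper14.Tate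
import Cfsg.Agent.Lib.Helper03.PGroupFrattini
import Cfsg.Agent.Lib.Helper26.Rank2Solv

/-!
# Principal block with only linear characters of `p'`-degree: normal `p`-complement

If every irreducible character of degree prime to `p` in the principal `p`-block of `G` is
linear, then `G` has a normal `p`-complement.  The proof: weak block orthogonality and Brauer's
formula for the `p`-part of `∑_{χ ∈ B₀} χ(1)²` show that every linear character of a Sylow
`p`-subgroup `P` extends to `G`; hence `P ∩ G' = P'`, and Tate's theorem applies.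
-/

set_option autoImplicit false

namespace Cfsg.Agent.Lib.Helper84

open Cfsg
open scoped ComplexConjugate commutatorElement

universe u

section Linear

variable {G : Type u} [Group G] [Finite G]

/-- A character of degree one is irreducible. -/
theorem isIrrCharacter_of_linear {lam : G → ℂ} (hl : IsCharacter G lam) (h1 : lam 1 = 1) :
    IsIrrCharacter G lam := by
  classical
  have : Fintype G := Fintype.ofFinite G
  have h := isIrrCharacter_mul_linear hl h1
    (Cfsg.Agent.Lib.Helper83.isIrrCharacter_one (G := G))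
  have h2 : (fun _ : G => (1 : ℂ)) * lam = lam := by
    funext g; simp
  rwa [h2] at h

/-- The linear characters separate the elements outside the commutator subgroup. -/
theorem mem_commutator_of_linear_eq_one (x : G)
    (h : ∀ μ : IrrCharacter G, (μ : G → ℂ) 1 = 1 → (μ : G → ℂ) x = 1) :
    x ∈ commutator G := by
  classical
  by_contra hx
  have : Fintype (G ⧸ commutator G) := Fintype.ofFinite _
  have hx1 : (QuotientGroup.mk x : G ⧸ commutator G) ≠ 1 := by
    intro h1
    exact hx ((QuotientGroup.eq_one_iff x).mp h1)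
  have hcomm : ∀ a b : G ⧸ commutator G, a * b = b * a := by
    intro a b
    induction a using QuotientGroup.induction_on with
    | H a =>
      induction b using QuotientGroup.induction_on with
      | H b =>
        rw [← QuotientGroup.mk_mul, ← QuotientGroup.mk_mul, QuotientGroup.eq]
        have h3 : (a * b)⁻¹ * (b * a) = ⁅b⁻¹, a⁻¹⁆ := by
          simp [commutatorElement_def, mul_assoc]
        rw [h3]
        exact Subgroup.commutator_mem_commutator (Subgroup.mem_top _) (Subgroup.mem_top _)
  set f : G ⧸ commutator G → ℂ := fun a =>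
    (if a = (QuotientGroup.mk x : G ⧸ commutator G) then (1 : ℂ) else 0) -
      (if a = 1 then (1 : ℂ) else 0) with hf
  have hfc : IsClassFunction (G ⧸ commutator G) f := by
    intro g y
    have : y * g * y⁻¹ = g := by rw [hcomm y g, mul_inv_cancel_right]
    rw [this]
  have hzero : ∀ ψ : IrrCharacter (G ⧸ commutator G),
      classInner f (ψ : G ⧸ commutator G → ℂ) = 0 := by
    intro ψ
    have hψ1 : (ψ : G ⧸ commutator G → ℂ) 1 = 1 :=
      Cfsg.Agent.Lib.Helper83.irr_degree_one_of_comm hcomm ψ
    have hinfl := Cfsg.Agent.Lib.Helper83.isIrrCharacter_inflate (commutator G) ψ.2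
    have hval := h ⟨_, hinfl⟩ (by simpa using hψ1)
    have hval' : (ψ : G ⧸ commutator G → ℂ) (QuotientGroup.mk x) = 1 := hval
    rw [Cfsg.Agent.Lib.Helper83.classInner_def]
    have hsum : ∑ a : G ⧸ commutator G, f a * conj ((ψ : G ⧸ commutator G → ℂ) a) =
        conj ((ψ : G ⧸ commutator G → ℂ) (QuotientGroup.mk x)) -
          conj ((ψ : G ⧸ commutator G → ℂ) 1) := by
      simp only [hf, sub_mul, ite_mul, one_mul, zero_mul, Finset.sum_sub_distrib,
        Finset.sum_ite_eq', Finset.mem_univ, if_true]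
    rw [hsum, hval', hψ1, sub_self, mul_zero]
  have hf0 := Cfsg.Agent.Lib.Helper83.eq_zero_of_classInner_irr_eq_zero hfc hzero
  have h1 := congrFun hf0 (QuotientGroup.mk x)
  simp only [hf, if_true, if_neg hx1, sub_zero, Pi.zero_apply] at h1
  exact one_ne_zero h1

end Linear

section Block

variable {G : Type u} [Group G] [Finite G]

/-- If all irreducible characters of degree prime to `p` in the principal `p`-block are linear,
every linear character of a Sylow `p`-subgroup extends to a linear character of `G`. -/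
theorem exists_linear_extension_of_principalBlock (p : ℕ) [Fact p.Prime] (M : Ideal AlgInt)
    (hM : IsPModular p M)
    (hlin : ∀ χ : IrrCharacter G, χ ∈ principalBlock M G → ¬ p ∣ charDegree (χ : G → ℂ) →
      (χ : G → ℂ) 1 = 1)
    (P : Sylow p G) (μ : IrrCharacter (P : Subgroup G))
    (hμ : (μ : ↥(P : Subgroup G) → ℂ) 1 = 1) :
    ∃ χ : IrrCharacter G, (χ : G → ℂ) 1 = 1 ∧
      ∀ y : (P : Subgroup G), (χ : G → ℂ) y = (μ : ↥(P : Subgroup G) → ℂ) y := by
  classical
  have : Fintype G := Fintype.ofFinite G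
  have : Fintype (IrrCharacter G) := Fintype.ofFinite _
  have : Fintype (P : Subgroup G) := Fintype.ofFinite _
  have hp : p.Prime := Fact.out
  have hMprime : M.IsPrime := hM.2.1.isPrime
  set t : IrrCharacter G := Cfsg.Agent.Lib.Helper83.trivChar G with ht
  have hBeq : principalBlock M G = blockOf M (t : G → ℂ) :=
    Cfsg.Agent.Lib.Helper81.principalBlock_eq_blockOf_trivChar M
  have htB : t ∈ blockOf M (t : G → ℂ) := by
    rw [← hBeq]; exact Cfsg.Agent.Lib.Helper81.trivChar_mem_principalBlock hMprime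
  have hnat : ∀ χ : IrrCharacter G, ∃ n : ℕ,
      classInner (fun y : (P : Subgroup G) => (χ : G → ℂ) y) (μ : ↥(P : Subgroup G) → ℂ) = n :=
    fun χ => Cfsg.Agent.Lib.Helper83.classInner_char_nat
      (Cfsg.Agent.Lib.Helper83.isCharacter_restrict _
        (Cfsg.Agent.Lib.Helper83.IrrCharacter_isCharacter χ))
      (Cfsg.Agent.Lib.Helper83.IrrCharacter_isCharacter μ)
  choose n hn using hnat
  -- nonidentity elements of `P` are `p`-singular
  have hsing : ∀ y : (P : Subgroup G), y ≠ 1 → p ∣ orderOf ((y : G)⁻¹) := by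
    intro y hy
    rw [orderOf_inv, Subgroup.orderOf_coe]
    obtain ⟨k, hk⟩ := (IsPGroup.iff_orderOf.mp P.2) y
    rw [hk]
    have hk0 : k ≠ 0 := by
      rintro rfl
      rw [pow_zero, orderOf_eq_one_iff] at hk
      exact hy hk
    exact dvd_pow_self p hk0
  -- weak block orthogonality against the identity
  have horth : ∀ y : (P : Subgroup G), y ≠ 1 →
      ∑ χ : IrrCharacter G, (if χ ∈ blockOf M (t : G → ℂ) then
        (χ : G → ℂ) 1 * (χ : G → ℂ) y else 0) = 0 := by
    intro y hy
    have h1 := Cfsg.Agent.Lib.Helper82.sum_ite_block_eq_zero hM t (1 : G) ((y : G)⁻¹)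
      (by rw [orderOf_one]; exact hp.one_lt.ne' ∘ Nat.dvd_one.mp) (hsing y hy)
    refine Eq.trans (Finset.sum_congr rfl fun χ _ => ?_) h1
    split_ifs
    · rw [Cfsg.Agent.Lib.Helper83.char_inv
        (Cfsg.Agent.Lib.Helper83.IrrCharacter_isCharacter χ), Complex.conj_conj]
    · rfl
  -- the key identity
  have hcardP : (Nat.card (P : Subgroup G) : ℂ) ≠ 0 := by
    exact_mod_cast Nat.card_pos.ne'
  have key : Nat.card (P : Subgroup G) *
      (∑ χ : IrrCharacter G, if χ ∈ blockOf M (t : G → ℂ) then
        charDegree (χ : G → ℂ) * n χ else 0) =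
      ∑ χ : IrrCharacter G, if χ ∈ blockOf M (t : G → ℂ) then
        charDegree (χ : G → ℂ) ^ 2 else 0 := by
    apply Nat.cast_injective (R := ℂ)
    push_cast
    have hdeg : ∀ χ : IrrCharacter G, (charDegree (χ : G → ℂ) : ℂ) = (χ : G → ℂ) 1 :=
      fun χ => Cfsg.Agent.Lib.Helper83.charDegree_cast
        (Cfsg.Agent.Lib.Helper83.IrrCharacter_isCharacter χ)
    have hstep : ∀ χ : IrrCharacter G,
        (Nat.card (P : Subgroup G) : ℂ) * (n χ : ℂ) =
          ∑ y : (P : Subgroup G), (χ : G → ℂ) y * conj ((μ : ↥(P : Subgroup G) → ℂ) y) := by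
      intro χ
      rw [← hn χ, Cfsg.Agent.Lib.Helper83.classInner_def, ← mul_assoc,
        mul_inv_cancel₀ hcardP, one_mul]
    calc (Nat.card (P : Subgroup G) : ℂ) *
          ∑ χ : IrrCharacter G, (if χ ∈ blockOf M (t : G → ℂ) then
            (charDegree (χ : G → ℂ) : ℂ) * (n χ : ℂ) else 0)
        = ∑ χ : IrrCharacter G, (if χ ∈ blockOf M (t : G → ℂ) then
            (χ : G → ℂ) 1 * ∑ y : (P : Subgroup G),
              (χ : G → ℂ) y * conj ((μ : ↥(P : Subgroup G) → ℂ) y) else 0) := by
          rw [Finset.mul_sum]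
          refine Finset.sum_congr rfl fun χ _ => ?_
          split_ifs
          · rw [← hstep χ, hdeg χ]; ring
          · rw [mul_zero]
      _ = ∑ y : (P : Subgroup G), conj ((μ : ↥(P : Subgroup G) → ℂ) y) *
            ∑ χ : IrrCharacter G, (if χ ∈ blockOf M (t : G → ℂ) then
              (χ : G → ℂ) 1 * (χ : G → ℂ) y else 0) := by
          simp_rw [Finset.mul_sum]
          rw [Finset.sum_comm]
          refine Finset.sum_congr rfl fun χ _ => ?_
          split_ifs
          · refine Finset.sum_congr rfl fun y _ => ?_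
            ring
          · simp
      _ = conj ((μ : ↥(P : Subgroup G) → ℂ) 1) *
            ∑ χ : IrrCharacter G, (if χ ∈ blockOf M (t : G → ℂ) then
              (χ : G → ℂ) 1 * (χ : G → ℂ) ((1 : (P : Subgroup G)) : G) else 0) := by
          refine Finset.sum_eq_single (1 : (P : Subgroup G)) ?_ ?_
          · intro y _ hy
            rw [horth y hy, mul_zero]
          · intro h; exact absurd (Finset.mem_univ _) h
      _ = ∑ χ : IrrCharacter G, (if χ ∈ blockOf M (t : G → ℂ) then
            (charDegree (χ : G → ℂ) : ℂ) ^ 2 else 0) := by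
          rw [hμ, map_one, one_mul]
          refine Finset.sum_congr rfl fun χ _ => ?_
          split_ifs
          · rw [hdeg χ, Subgroup.coe_one, sq]
          · rfl
  -- the `p`-part of the degree sum
  have hfact := Cfsg.Agent.Lib.Helper21.factorization_sum_degree_sq hM t (by
    intro χ' _
    rw [ht, Cfsg.Agent.Lib.Helper83.charDegree_trivChar]
    simp)
  rw [ht, Cfsg.Agent.Lib.Helper83.charDegree_trivChar, ← ht] at hfact
  simp only [Nat.factorization_one, Finsupp.coe_zero, Pi.zero_apply, add_zero] at hfact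
  have hPcard : Nat.card (P : Subgroup G) = p ^ (Nat.card G).factorization p :=
    P.card_eq_multiplicity
  set S : ℕ := ∑ χ : IrrCharacter G, if χ ∈ blockOf M (t : G → ℂ) then
        charDegree (χ : G → ℂ) * n χ else 0 with hS
  set D : ℕ := ∑ χ : IrrCharacter G, if χ ∈ blockOf M (t : G → ℂ) then
        charDegree (χ : G → ℂ) ^ 2 else 0 with hD
  have hD0 : D ≠ 0 := by
    have hle : (if t ∈ blockOf M (t : G → ℂ) then charDegree (t : G → ℂ) ^ 2 else 0) ≤ D :=
      Finset.single_le_sum (f := fun χ : IrrCharacter G =>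
        if χ ∈ blockOf M (t : G → ℂ) then charDegree (χ : G → ℂ) ^ 2 else 0)
        (fun _ _ => Nat.zero_le _) (Finset.mem_univ t)
    rw [if_pos htB, ht, Cfsg.Agent.Lib.Helper83.charDegree_trivChar] at hle
    omega
  have hpS : ¬ p ∣ S := by
    intro hdvd
    have h1 : p ^ ((Nat.card G).factorization p + 1) ∣ D := by
      rw [← key, hPcard, pow_succ]
      exact Nat.mul_dvd_mul_left _ hdvd
    have h2 := (hp.pow_dvd_iff_le_factorization hD0).mp h1
    omega
  -- a member of the block with `p ∤ χ(1)` and nonzero multiplicity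
  have hex : ∃ χ : IrrCharacter G, χ ∈ blockOf M (t : G → ℂ) ∧
      ¬ p ∣ charDegree (χ : G → ℂ) * n χ := by
    by_contra hcon
    push Not at hcon
    apply hpS
    refine Finset.dvd_sum fun χ _ => ?_
    split_ifs with hχ
    · exact hcon χ hχ
    · exact dvd_zero p
  obtain ⟨χ, hχB, hχp⟩ := hex
  have hpdeg : ¬ p ∣ charDegree (χ : G → ℂ) := fun h => hχp (Dvd.dvd.mul_right h _)
  have hn0 : n χ ≠ 0 := by
    intro h0
    apply hχp
    rw [h0, mul_zero]
    exact dvd_zero p
  have hχ1 : (χ : G → ℂ) 1 = 1 := hlin χ (by rw [hBeq]; exact hχB) hpdeg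
  refine ⟨χ, hχ1, ?_⟩
  have hres : IsIrrCharacter (P : Subgroup G) (fun y : (P : Subgroup G) => (χ : G → ℂ) y) :=
    isIrrCharacter_of_linear
      (Cfsg.Agent.Lib.Helper83.isCharacter_restrict _
        (Cfsg.Agent.Lib.Helper83.IrrCharacter_isCharacter χ))
      (by rw [Subgroup.coe_one]; exact hχ1)
  have horthP := Cfsg.Agent.Lib.Helper83.irr_orthonormal
    (⟨_, hres⟩ : IrrCharacter (P : Subgroup G)) μ
  have hne : classInner (fun y : (P : Subgroup G) => (χ : G → ℂ) y)
      (μ : ↥(P : Subgroup G) → ℂ) ≠ 0 := by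
    rw [hn χ]; exact_mod_cast hn0
  have heq : (⟨_, hres⟩ : IrrCharacter (P : Subgroup G)) = μ := by
    by_contra hneq
    rw [if_neg hneq] at horthP
    exact hne horthP
  intro y
  have := congrArg (fun ψ : IrrCharacter (P : Subgroup G) => (ψ : ↥(P : Subgroup G) → ℂ) y) heq
  exact this

/-- If all irreducible characters of degree prime to `p` in the principal `p`-block are linear,
then `G` has a normal `p`-complement. -/
theorem hasNormalPComplement_of_principalBlock_linear (p : ℕ) [Fact p.Prime] (M : Ideal AlgInt)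
    (hM : IsPModular p M)
    (hlin : ∀ χ : IrrCharacter G, χ ∈ principalBlock M G → ¬ p ∣ charDegree (χ : G → ℂ) →
      (χ : G → ℂ) 1 = 1) :
    HasNormalPComplement p G := by
  classical
  have hp : p.Prime := Fact.out
  obtain ⟨P⟩ : Nonempty (Sylow p G) := inferInstance
  have hcomm_map : (commutator (P : Subgroup G)).map (P : Subgroup G).subtype =
      ⁅(P : Subgroup G), (P : Subgroup G)⁆ := Subgroup.map_subtype_commutator _
  have hfocal : commutator G ⊓ (P : Subgroup G) = ⁅(P : Subgroup G), (P : Subgroup G)⁆ := by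
    apply le_antisymm
    · rintro x ⟨hxG, hxP⟩
      have hmem : (⟨x, hxP⟩ : (P : Subgroup G)) ∈ commutator (P : Subgroup G) := by
        apply mem_commutator_of_linear_eq_one
        intro μ hμ
        obtain ⟨χ, hχ1, hχμ⟩ := exists_linear_extension_of_principalBlock p M hM hlin P μ hμ
        rw [← hχμ ⟨x, hxP⟩]
        have h1 := (Cfsg.Agent.Lib.Helper83.irr_linear_iff_commutator_le χ).mp hχ1 x hxG
        rw [h1, hχ1]
      rw [← hcomm_map]
      exact ⟨⟨x, hxP⟩, hmem, rfl⟩
    · apply le_inf
      · exact Subgroup.commutator_mono le_top le_top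
      · rw [← hcomm_map]
        exact Subgroup.map_subtype_le _
  obtain ⟨N, hNn, hNP, hNsup⟩ := (Cfsg.Agent.Lib.Helper04.focal_iff P).mpr hfocal
  have hfrat : N ⊓ (P : Subgroup G) ≤ (frattini (P : Subgroup G)).map (P : Subgroup G).subtype := by
    rw [hNP, ← hcomm_map]
    exact Subgroup.map_mono
      (Cfsg.Agent.Lib.Helper03.commutator_le_frattini_of_isPGroup P.2)
  obtain ⟨T, hTn, hTN, -, hT2, j, hj⟩ :=
    Cfsg.Agent.Lib.Helper14.tate_aux P (Nat.card N) N hNn rfl hfrat
  have hTcop : (Nat.card T).Coprime p := by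
    rw [Nat.coprime_comm, Nat.Prime.coprime_iff_not_dvd hp]
    intro hdvd
    obtain ⟨x, hx⟩ := exists_prime_orderOf_dvd_card' p hdvd
    have h1 := hT2 _ x.2
    rw [Subgroup.orderOf_coe, hx] at h1
    exact hp.one_lt.ne' ((Nat.coprime_self p).mp h1)
  have hNidx : ∃ i : ℕ, N.index = p ^ i := by
    have h1 : N.relIndex ((P : Subgroup G) ⊔ N) = N.relIndex (P : Subgroup G) :=
      Subgroup.relIndex_sup_right _ _
    rw [sup_comm, hNsup, Subgroup.relIndex_top_right] at h1
    have h2 : N.relIndex (P : Subgroup G) ∣ Nat.card (P : Subgroup G) :=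
      Subgroup.relIndex_dvd_card _ _
    rw [P.card_eq_multiplicity, ← h1] at h2
    exact (Nat.dvd_prime_pow hp).mp h2 |>.imp fun i hi => hi.2
  obtain ⟨i, hi⟩ := hNidx
  have hTidx : T.index = p ^ (j + i) := by
    rw [← Subgroup.relIndex_mul_index hTN, hj, hi, pow_add]
  exact Cfsg.Agent.Lib.Helper26.Rank2Solv.hasNormalPComplement_of T hTcop (j + i) hTidx

end Block

end Cfsg.Agent.Lib.Helper84
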