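/-
K-PrnA-MAIN (keystone 222209, architect helper44, pack S2222): the induction showing that an element of odd order
normalising a Sylow 2-subgroup of `Perm α` is trivial (parallel hand, helper84).
-/
import Cfsg.Agent.Lib.Helper44.PrnADefs

set_option autoImplicit false
set_option linter.unusedVariables false
set_option linter.unusedSectionVars false

namespace Cfsg.Agent.Lib.Helper84.PrnA

open Equiv Equiv.Perm Cfsg.Agent.Lib.Helper44.PrnA

universe u

section conj

variable {α : Type u} [Fintype α] [DecidableEq α]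

/-- conjugation by an element of the normaliser preserves `swapsIn` -/
theorem conj_mem_swapsIn (P : Subgroup (Perm α)) (h : Perm α)
    (hh : h ∈ Subgroup.normalizer ((P : Subgroup (Perm α)) : Set (Perm α))) (τ : Perm α)
    (hτ : τ ∈ swapsIn P) : h * τ * h⁻¹ ∈ swapsIn P := by
  rw [mem_swapsIn] at hτ ⊢
  refine ⟨(Subgroup.mem_normalizer_iff.mp hh τ).mp hτ.1, ?_⟩
  obtain ⟨a, b, hab, rfl⟩ := hτ.2
  exact ⟨h a, h b, fun e => hab (h.injective e), (Equiv.swap_apply_apply h a b).symm⟩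

/-- the permutation of `swapsIn P` induced by a normaliser element -/
noncomputable def conjPerm (P : Subgroup (Perm α))
    (h : ↥(Subgroup.normalizer ((P : Subgroup (Perm α)) : Set (Perm α)))) :
    Perm {τ : Perm α // τ ∈ swapsIn P} where
  toFun τ := ⟨h.1 * τ.1 * h.1⁻¹, conj_mem_swapsIn P h.1 h.2 τ.1 τ.2⟩
  invFun τ := ⟨h.1⁻¹ * τ.1 * h.1, by
    have := conj_mem_swapsIn P h.1⁻¹ (inv_mem h.2) τ.1 τ.2
    simpa using this⟩
  left_inv τ := by
    apply Subtype.ext
    show h.1⁻¹ * (h.1 * τ.1 * h.1⁻¹) * h.1 = τ.1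
    group
  right_inv τ := by
    apply Subtype.ext
    show h.1 * (h.1⁻¹ * τ.1 * h.1) * h.1⁻¹ = τ.1
    group

theorem conjPerm_apply_coe (P : Subgroup (Perm α))
    (h : ↥(Subgroup.normalizer ((P : Subgroup (Perm α)) : Set (Perm α))))
    (τ : {τ : Perm α // τ ∈ swapsIn P}) : ((conjPerm P h τ : {τ : Perm α // τ ∈ swapsIn P}) : Perm α) = h.1 * τ.1 * h.1⁻¹ := rfl

/-- the conjugation action as a homomorphism -/
noncomputable def conjHom (P : Subgroup (Perm α)) :
    ↥(Subgroup.normalizer ((P : Subgroup (Perm α)) : Set (Perm α))) →* Perm {τ : Perm α // τ ∈ swapsIn P} :=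
  MonoidHom.mk' (conjPerm P) (by
    intro a b
    ext τ : 1
    apply Subtype.ext
    show (a * b).1 * τ.1 * (a * b).1⁻¹ = a.1 * (b.1 * τ.1 * b.1⁻¹) * a.1⁻¹
    rw [Subgroup.coe_mul]
    group)

theorem conjHom_apply_coe (P : Subgroup (Perm α))
    (h : ↥(Subgroup.normalizer ((P : Subgroup (Perm α)) : Set (Perm α))))
    (τ : {τ : Perm α // τ ∈ swapsIn P}) : ((conjHom P h τ : {τ : Perm α // τ ∈ swapsIn P}) : Perm α) = h.1 * τ.1 * h.1⁻¹ := rfl

end conj

section main

theorem main_aux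
    (H1 : ∀ (β : Type u) [Fintype β] [DecidableEq β] (P : Sylow 2 (Perm β)) (h : Perm β),
      (∀ τ ∈ swapsIn (P : Subgroup (Perm β)), h * τ * h⁻¹ = τ) → h * h = 1)
    (H2 : ∀ (β : Type u) [Fintype β] [DecidableEq β] (P : Sylow 2 (Perm β)) (K : Subgroup (Perm β)),
      (∀ h ∈ K, ∀ τ ∈ swapsIn (P : Subgroup (Perm β)), h * τ * h⁻¹ = τ) →
      Nat.card K ≤ 2 ^ (Fintype.card β / 2))
    (H3 : ∀ (β : Type u) [Fintype β] [DecidableEq β] (P : Sylow 2 (Perm β)),
      (swapsIn (P : Subgroup (Perm β))).card = Fintype.card β / 2)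
    (H4 : ∀ n : ℕ, (n.factorial).factorization 2 = n / 2 + ((n / 2).factorial).factorization 2) :
    ∀ (n : ℕ) (α : Type u) [Fintype α] [DecidableEq α], Fintype.card α = n →
      ∀ (P : Sylow 2 (Perm α)) (g : Perm α),
        g ∈ Subgroup.normalizer ((P : Subgroup (Perm α)) : Set (Perm α)) → Odd (orderOf g) → g = 1 := by
  intro n
  induction n using Nat.strong_induction_on with
  | _ n ih =>
  intro α _ _ hn P g hg hodd
  rcases Nat.eq_zero_or_pos n with h0 | hpos
  · have : IsEmpty α := Fintype.card_eq_zero_iff.mp (hn.trans h0)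
    exact Subsingleton.elim _ _
  let φ := conjHom (P : Subgroup (Perm α))
  let ψ : ↥(P : Subgroup (Perm α)) →* Perm {τ : Perm α // τ ∈ swapsIn (P : Subgroup (Perm α))} :=
    φ.comp (Subgroup.inclusion Subgroup.le_normalizer)
  have hβ : Fintype.card {τ : Perm α // τ ∈ swapsIn (P : Subgroup (Perm α))} = n / 2 := by
    rw [Fintype.card_coe, H3 α P, hn]
  have hker : Nat.card ψ.ker ≤ 2 ^ (n / 2) := by
    have h1 : Nat.card (ψ.ker.map (P : Subgroup (Perm α)).subtype) = Nat.card ψ.ker :=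
      Subgroup.card_map_of_injective (Subgroup.subtype_injective _)
    rw [← h1, ← hn]
    apply H2 α P
    rintro h ⟨x, hx, rfl⟩ τ hτ
    have h2 : ψ x = 1 := hx
    have h3 := congrArg (fun e => ((e ⟨τ, hτ⟩ : {τ : Perm α // τ ∈ swapsIn (P : Subgroup (Perm α))}) :
      Perm α)) h2
    exact h3
  have hP : Nat.card (P : Subgroup (Perm α)) = 2 ^ (n / 2 + ((n / 2).factorial).factorization 2) := by
    rw [P.card_eq_multiplicity, Nat.card_perm, Nat.card_eq_fintype_card, hn, H4 n]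
  have hmul : Nat.card ψ.ker * Nat.card ψ.range = Nat.card (P : Subgroup (Perm α)) := by
    rw [← Subgroup.index_ker]; exact Subgroup.card_mul_index _
  have hpg : IsPGroup 2 ψ.range :=
    P.isPGroup'.of_surjective ψ.rangeRestrict ψ.rangeRestrict_surjective
  obtain ⟨k, hk⟩ := IsPGroup.iff_card.mp hpg
  have hdvd : 2 ^ k ∣ (n / 2).factorial := by
    have := Subgroup.card_subgroup_dvd_card ψ.range
    rw [hk, Nat.card_perm, Nat.card_eq_fintype_card, hβ] at this
    exact this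
  have hk_le : k ≤ ((n / 2).factorial).factorization 2 :=
    (Nat.prime_two.pow_dvd_iff_le_factorization (Nat.factorial_ne_zero _)).mp hdvd
  have hk_ge : ((n / 2).factorial).factorization 2 ≤ k := by
    have h1 : 2 ^ (n / 2 + ((n / 2).factorial).factorization 2) ≤ 2 ^ (n / 2) * 2 ^ k := by
      rw [← hP, ← hmul, hk]
      exact Nat.mul_le_mul_right _ hker
    rw [← pow_add] at h1
    have := (Nat.pow_le_pow_iff_right (by norm_num : 1 < 2)).mp h1
    omega
  have hkeq : k = ((n / 2).factorial).factorization 2 := le_antisymm hk_le hk_ge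
  have hcard' : Nat.card ψ.range =
      2 ^ (Nat.card (Perm {τ : Perm α // τ ∈ swapsIn (P : Subgroup (Perm α))})).factorization 2 := by
    rw [hk, hkeq, Nat.card_perm, Nat.card_eq_fintype_card, hβ]
  have hconj : ∀ (a : ↥(Subgroup.normalizer ((P : Subgroup (Perm α)) : Set (Perm α))))
      (y : Perm {τ : Perm α // τ ∈ swapsIn (P : Subgroup (Perm α))}), y ∈ ψ.range →
      φ a * y * (φ a)⁻¹ ∈ ψ.range := by
    rintro a y ⟨x, rfl⟩
    have hx' : a.1 * x.1 * a.1⁻¹ ∈ (P : Subgroup (Perm α)) :=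
      (Subgroup.mem_normalizer_iff.mp a.2 x.1).mp x.2
    refine ⟨⟨a.1 * x.1 * a.1⁻¹, hx'⟩, ?_⟩
    show φ (Subgroup.inclusion Subgroup.le_normalizer ⟨_, hx'⟩) =
      φ a * φ (Subgroup.inclusion Subgroup.le_normalizer x) * (φ a)⁻¹
    rw [← map_inv, ← map_mul, ← map_mul]
    congr 1
  have hnorm : φ ⟨g, hg⟩ ∈ Subgroup.normalizer
      (((Sylow.ofCard ψ.range hcard' :
        Sylow 2 (Perm {τ : Perm α // τ ∈ swapsIn (P : Subgroup (Perm α))})) :
        Subgroup (Perm {τ : Perm α // τ ∈ swapsIn (P : Subgroup (Perm α))})) :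
        Set (Perm {τ : Perm α // τ ∈ swapsIn (P : Subgroup (Perm α))})) := by
    rw [Subgroup.mem_normalizer_iff]
    intro y
    rw [Sylow.coe_ofCard]
    constructor
    · exact hconj ⟨g, hg⟩ y
    · intro hy
      have := hconj (⟨g, hg⟩⁻¹) _ hy
      rw [map_inv] at this
      simpa [mul_assoc] using this
  have hodd' : Odd (orderOf (φ ⟨g, hg⟩)) := by
    refine hodd.of_dvd_nat ?_
    have := orderOf_map_dvd φ ⟨g, hg⟩
    rwa [← Subgroup.orderOf_coe] at this
  have hone := ih (n / 2) (Nat.div_lt_self hpos (by norm_num)) _ hβ (Sylow.ofCard ψ.range hcard')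
    (φ ⟨g, hg⟩) hnorm hodd'
  have hcomm : ∀ τ ∈ swapsIn (P : Subgroup (Perm α)), g * τ * g⁻¹ = τ := by
    intro τ hτ
    have := congrArg (fun e => ((e ⟨τ, hτ⟩ : {τ : Perm α // τ ∈ swapsIn (P : Subgroup (Perm α))}) :
      Perm α)) hone
    exact this
  have hsq := H1 α P g hcomm
  have h2 : orderOf g ∣ 2 := orderOf_dvd_of_pow_eq_one (by rw [pow_two]; exact hsq)
  rcases (Nat.dvd_prime Nat.prime_two).mp h2 with h | h
  · exact orderOf_eq_one_iff.mp h
  · rw [h] at hodd; exact absurd hodd (by decide)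

/-- **K-PrnA-MAIN (222209)**, exact spec signature. -/
theorem eq_one_of_mem_normalizer_of_odd
    (H1 : ∀ (β : Type u) [Fintype β] [DecidableEq β] (P : Sylow 2 (Perm β)) (h : Perm β),
      (∀ τ ∈ swapsIn (P : Subgroup (Perm β)), h * τ * h⁻¹ = τ) → h * h = 1)
    (H2 : ∀ (β : Type u) [Fintype β] [DecidableEq β] (P : Sylow 2 (Perm β)) (K : Subgroup (Perm β)),
      (∀ h ∈ K, ∀ τ ∈ swapsIn (P : Subgroup (Perm β)), h * τ * h⁻¹ = τ) →
      Nat.card K ≤ 2 ^ (Fintype.card β / 2))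
    (H3 : ∀ (β : Type u) [Fintype β] [DecidableEq β] (P : Sylow 2 (Perm β)),
      (swapsIn (P : Subgroup (Perm β))).card = Fintype.card β / 2)
    (H4 : ∀ n : ℕ, (n.factorial).factorization 2 = n / 2 + ((n / 2).factorial).factorization 2)
    {α : Type u} [Fintype α] [DecidableEq α] (P : Sylow 2 (Perm α)) (g : Perm α)
    (hg : g ∈ Subgroup.normalizer ((P : Subgroup (Perm α)) : Set (Perm α)))
    (hodd : Odd (orderOf g)) : g = 1 :=
  main_aux H1 H2 H3 H4 _ α rfl P g hg hodd

end main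

end Cfsg.Agent.Lib.Helper84.PrnA
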