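/-
K-Ru-R4 (keystone 162804, S1628): the seven words of weight 8 of the code `spanU mod 2` do not give
vectors of norm 8.
-/
import Mathlib
import Cfsg.Prelude.Def_Spor_Ru
import Cfsg.Agent.Lib.Helper17.RuDefs
import Cfsg.Agent.Lib.Helper17.RuBasic

set_option autoImplicit false

namespace Cfsg.Agent.Lib.Helper84.RuL

open Cfsg.Spor Cfsg.Agent.Lib.Helper17.RuL

/-- the sign attached to a bit -/
def sg (b : Bool) : ℤ := if b then -1 else 1

/-- entry `8 n + t` of row `k` of `uTab` -/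
def tE (k n t : ℕ) : ℤ := (uTab.getD k []).getD (8 * n + t) 0

/-- the value of `beta x (uB k)` for the vector `x` with signs `b` on block `n`, zero elsewhere -/
def bVal (k n : ℕ) (b0 b1 b2 b3 b4 b5 b6 b7 : Bool) : ℤ :=
  sg b0 * tE k n 0 + sg b1 * tE k n 1 + sg b2 * tE k n 2 + sg b3 * tE k n 3 +
    sg b4 * tE k n 4 + sg b5 * tE k n 5 + sg b6 * tE k n 6 + sg b7 * tE k n 7

set_option maxRecDepth 100000 in
/-- the finite check: for each block and each sign pattern, some `beta x (uB k)`, `k ≤ 8`, is not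
divisible by `4` -/
theorem key : ∀ n : Fin 7, ∀ b0 b1 b2 b3 b4 b5 b6 b7 : Bool, ∃ k : Fin 9,
    bVal k.val n.val b0 b1 b2 b3 b4 b5 b6 b7 % 4 ≠ 0 := by
  decide +kernel

theorem eq_sg_of_sq {a : ℤ} (h : a = 1 ∨ a = -1) : a = sg (decide (a = -1)) := by
  rcases h with h | h
  · rw [h]; rfl
  · rw [h]; rfl

theorem uB_re (k : Fin 56) (n : Fin 7) (tt : Fin 4) :
    (uB k (n, tt)).re = tE k.val n.val (2 * tt.val) := rfl

theorem uB_im (k : Fin 56) (n : Fin 7) (tt : Fin 4) :
    (uB k (n, tt)).im = tE k.val n.val (2 * tt.val + 1) := by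
  show (uTab.getD k.val []).getD (8 * n.val + 2 * tt.val + 1) 0 =
    (uTab.getD k.val []).getD (8 * n.val + (2 * tt.val + 1)) 0
  rw [Nat.add_assoc]

theorem mem_block_iff (n : Fin 7) (pe : RuIdx × Fin 2) : pe ∈ block n ↔ pe.1.1 = n := by
  simp [block]

/-- **K-Ru-R4.** -/
theorem norm_ne_eight_of_block {x : RuVec} (hβ : ∀ k : Fin 56, (4 : ℤ) ∣ beta x (uB k)) (n : Fin 7)
    (hn : oddSet x = block n) : ruNorm x ≠ 8 := by
  intro h8
  rw [ruNorm_eq_sum_crd] at h8
  have hodd : ∀ pe ∈ block n, crd x pe % 2 = 1 := by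
    intro pe hpe
    rw [← hn] at hpe
    simpa [oddSet] using hpe
  have hnonneg : ∀ pe ∈ (Finset.univ : Finset (RuIdx × Fin 2)),
      0 ≤ crd x pe ^ 2 - (if pe ∈ block n then (1 : ℤ) else 0) := by
    intro pe _
    split_ifs with hpe
    · have h := hodd pe hpe
      have h0 : crd x pe ≠ 0 := by
        intro h0; rw [h0] at h; norm_num at h
      have : 0 < crd x pe ^ 2 := by positivity
      omega
    · have : 0 ≤ crd x pe ^ 2 := by positivity
      omega
  have hsum0 : ∑ pe : RuIdx × Fin 2,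
      (crd x pe ^ 2 - (if pe ∈ block n then (1 : ℤ) else 0)) = 0 := by
    rw [Finset.sum_sub_distrib, h8, Finset.sum_ite_mem, Finset.univ_inter, Finset.sum_const,
      card_block]
    norm_num
  have hall := (Finset.sum_eq_zero_iff_of_nonneg hnonneg).mp hsum0
  have hin : ∀ pe ∈ block n, crd x pe = 1 ∨ crd x pe = -1 := by
    intro pe hpe
    have h1 := hall pe (Finset.mem_univ _)
    rw [if_pos hpe] at h1
    have h2 : (crd x pe - 1) * (crd x pe + 1) = 0 := by linear_combination h1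
    rcases mul_eq_zero.mp h2 with h3 | h3
    · left; omega
    · right; omega
  have hout : ∀ pe, pe ∉ block n → crd x pe = 0 := by
    intro pe hpe
    have h1 := hall pe (Finset.mem_univ _)
    rw [if_neg hpe, sub_zero] at h1
    exact pow_eq_zero_iff (two_ne_zero) |>.mp h1
  -- the coordinates of `x`
  have hre : ∀ tt : Fin 4, (x (n, tt)).re = 1 ∨ (x (n, tt)).re = -1 := by
    intro tt
    have := hin ((n, tt), 0) ((mem_block_iff n _).mpr rfl)
    simpa [crd] using this
  have him : ∀ tt : Fin 4, (x (n, tt)).im = 1 ∨ (x (n, tt)).im = -1 := by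
    intro tt
    have := hin ((n, tt), 1) ((mem_block_iff n _).mpr rfl)
    simpa [crd] using this
  have hre0 : ∀ n' : Fin 7, n' ≠ n → ∀ tt : Fin 4, (x (n', tt)).re = 0 := by
    intro n' hn' tt
    have := hout ((n', tt), 0) (fun h => hn' ((mem_block_iff n _).mp h))
    simpa [crd] using this
  have him0 : ∀ n' : Fin 7, n' ≠ n → ∀ tt : Fin 4, (x (n', tt)).im = 0 := by
    intro n' hn' tt
    have := hout ((n', tt), 1) (fun h => hn' ((mem_block_iff n _).mp h))
    simpa [crd] using this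
  -- the value of `beta x (uB k)`
  have hbeta : ∀ k : Fin 56, beta x (uB k) =
      ∑ tt : Fin 4, ((x (n, tt)).re * tE k.val n.val (2 * tt.val) +
        (x (n, tt)).im * tE k.val n.val (2 * tt.val + 1)) := by
    intro k
    unfold beta
    rw [Fintype.sum_prod_type, Finset.sum_eq_single n]
    · refine Finset.sum_congr rfl fun tt _ => ?_
      rw [uB_re, uB_im]
    · intro n' _ hn'
      refine Finset.sum_eq_zero fun tt _ => ?_
      rw [hre0 n' hn' tt, him0 n' hn' tt, zero_mul, zero_mul, add_zero]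
    · intro h; exact absurd (Finset.mem_univ _) h
  obtain ⟨k, hk⟩ := key n (decide ((x (n, 0)).re = -1)) (decide ((x (n, 0)).im = -1))
    (decide ((x (n, 1)).re = -1)) (decide ((x (n, 1)).im = -1))
    (decide ((x (n, 2)).re = -1)) (decide ((x (n, 2)).im = -1))
    (decide ((x (n, 3)).re = -1)) (decide ((x (n, 3)).im = -1))
  have hk56 : k.val < 56 := by have := k.2; omega
  have h1 := hβ ⟨k.val, hk56⟩
  rw [hbeta, Fin.sum_univ_four] at h1
  apply hk
  apply Int.emod_eq_zero_of_dvd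
  have e3 : ((3 : Fin 4) : ℕ) = 3 := rfl
  simp only [Fin.val_zero, Fin.val_one, Fin.val_two, e3, Nat.mul_zero, Nat.mul_one,
    Nat.zero_add] at h1
  unfold bVal
  rw [← eq_sg_of_sq (hre 0), ← eq_sg_of_sq (him 0), ← eq_sg_of_sq (hre 1), ← eq_sg_of_sq (him 1),
    ← eq_sg_of_sq (hre 2), ← eq_sg_of_sq (him 2), ← eq_sg_of_sq (hre 3), ← eq_sg_of_sq (him 3)]
  have e : (x (n, 0)).re * tE k.val n.val 0 + (x (n, 0)).im * tE k.val n.val 1 +
      (x (n, 1)).re * tE k.val n.val 2 + (x (n, 1)).im * tE k.val n.val 3 +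
      (x (n, 2)).re * tE k.val n.val 4 + (x (n, 2)).im * tE k.val n.val 5 +
      (x (n, 3)).re * tE k.val n.val 6 + (x (n, 3)).im * tE k.val n.val 7 =
      (x (n, 0)).re * tE k.val n.val 0 + (x (n, 0)).im * tE k.val n.val (0 + 1) +
      ((x (n, 1)).re * tE k.val n.val 2 + (x (n, 1)).im * tE k.val n.val (2 + 1)) +
      ((x (n, 2)).re * tE k.val n.val (2 * 2) + (x (n, 2)).im * tE k.val n.val (2 * 2 + 1)) +
      ((x (n, 3)).re * tE k.val n.val (2 * 3) + (x (n, 3)).im * tE k.val n.val (2 * 3 + 1)) := by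
    ring
  rw [e]
  exact h1

end Cfsg.Agent.Lib.Helper84.RuL
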