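import Mathlib
import Cfsg.Agent.Lib.Helper40.NilCovDefs

/-!
# S3894 leaves R2a, R2b: the lines fixed by the regular unipotent `1 + shift`
-/

set_option autoImplicit false

namespace Cfsg.Agent.Lib.Helper84.S3894

open Matrix Cfsg.Agent.Lib.Helper40.NilCov

variable {F : Type*} [Field F]

theorem shift_mulVec_apply (n : ℕ) (v : Fin n → F) (i : Fin n) :
    (shift n F *ᵥ v) i = if h : (i : ℕ) + 1 < n then v ⟨i + 1, h⟩ else 0 := by
  rw [Matrix.mulVec, dotProduct]
  split_ifs with h
  · rw [Finset.sum_eq_single (⟨i + 1, h⟩ : Fin n)]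
    · simp [shift]
    · intro j _ hj
      have : ¬ ((i : ℕ) + 1 = (j : ℕ)) := fun e => hj (Fin.ext e.symm)
      simp [shift, this]
    · intro h'; exact absurd (Finset.mem_univ _) h'
  · apply Finset.sum_eq_zero
    intro j _
    have hj := j.2
    have : ¬ ((i : ℕ) + 1 = (j : ℕ)) := by omega
    simp [shift, this]

theorem vecMul_shift_apply (n : ℕ) (φ : Fin n → F) (j : Fin n) :
    (φ ᵥ* shift n F) j =
      if h : 0 < (j : ℕ) then φ ⟨j - 1, lt_of_le_of_lt (Nat.sub_le _ _) j.2⟩ else 0 := by
  rw [Matrix.vecMul, dotProduct]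
  split_ifs with h
  · rw [Finset.sum_eq_single (⟨j - 1, lt_of_le_of_lt (Nat.sub_le _ _) j.2⟩ : Fin n)]
    · have : ((j : ℕ) - 1 + 1 = (j : ℕ)) := by omega
      simp [shift, this]
    · intro i _ hi
      have : ¬ ((i : ℕ) + 1 = (j : ℕ)) := by
        intro e
        apply hi
        apply Fin.ext
        simp only []
        omega
      simp [shift, this]
    · intro h'; exact absurd (Finset.mem_univ _) h'
  · apply Finset.sum_eq_zero
    intro i _
    have : ¬ ((i : ℕ) + 1 = (j : ℕ)) := by omega
    simp [shift, this]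

/-- K-S3894-R2a.  The only line fixed by `1 + shift` is `F e_0`. -/
theorem shift_fixesLine (n : ℕ) (v : Fin n → F) (h : FixesLine (1 + shift n F) v) :
    ∀ i : Fin n, (i : ℕ) ≠ 0 → v i = 0 := by
  obtain ⟨c, hc⟩ := h
  have hrow : ∀ i : Fin n, v i + (shift n F *ᵥ v) i = c * v i := by
    intro i
    have := congrFun hc i
    rw [Matrix.add_mulVec, Matrix.one_mulVec] at this
    simpa using this
  by_cases hc1 : c = 1
  · intro i hi
    have hi2 := i.2
    have hj : (i : ℕ) - 1 < n := by omega
    have h1 := hrow ⟨i - 1, hj⟩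
    have h2 : (i : ℕ) - 1 + 1 < n := by omega
    rw [shift_mulVec_apply, hc1, one_mul, dif_pos h2] at h1
    have e : (⟨(i : ℕ) - 1 + 1, h2⟩ : Fin n) = i := Fin.ext (by simp only []; omega)
    rw [e] at h1
    exact left_eq_add.mp h1.symm
  · have key : ∀ k : ℕ, ∀ i : Fin n, (i : ℕ) + k + 1 = n → v i = 0 := by
      intro k
      induction k with
      | zero =>
        intro i hi
        have h1 := hrow i
        have h2 : ¬ ((i : ℕ) + 1 < n) := by omega
        rw [shift_mulVec_apply, dif_neg h2, add_zero] at h1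
        have h3 : (1 - c) * v i = 0 := by linear_combination h1
        rcases mul_eq_zero.mp h3 with h4 | h4
        · exact absurd (sub_eq_zero.mp h4).symm hc1
        · exact h4
      | succ k ih =>
        intro i hi
        have h1 := hrow i
        have h2 : (i : ℕ) + 1 < n := by omega
        rw [shift_mulVec_apply, dif_pos h2, ih ⟨i + 1, h2⟩ (by simp only []; omega),
          add_zero] at h1
        have h3 : (1 - c) * v i = 0 := by linear_combination h1
        rcases mul_eq_zero.mp h3 with h4 | h4
        · exact absurd (sub_eq_zero.mp h4).symm hc1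
        · exact h4
    intro i _
    have hi2 := i.2
    exact key (n - 1 - i) i (by omega)

/-- K-S3894-R2b.  The only row-line fixed by `1 + shift` is `F e_{n-1}ᵀ`. -/
theorem shift_fixesRow (n : ℕ) (φ : Fin n → F) (h : FixesRow (1 + shift n F) φ) :
    ∀ i : Fin n, (i : ℕ) + 1 ≠ n → φ i = 0 := by
  obtain ⟨c, hc⟩ := h
  have hrow : ∀ j : Fin n, φ j + (φ ᵥ* shift n F) j = c * φ j := by
    intro j
    have := congrFun hc j
    rw [Matrix.vecMul_add, Matrix.vecMul_one] at this
    simpa using this
  by_cases hc1 : c = 1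
  · intro i hi
    have hi2 := i.2
    have hj : (i : ℕ) + 1 < n := by omega
    have h1 := hrow ⟨i + 1, hj⟩
    have h2 : 0 < (i : ℕ) + 1 := by omega
    rw [vecMul_shift_apply, hc1, one_mul, dif_pos h2] at h1
    have e : (⟨(i : ℕ) + 1 - 1, lt_of_le_of_lt (Nat.sub_le _ _) hj⟩ : Fin n) = i :=
      Fin.ext (by simp only []; omega)
    rw [e] at h1
    exact left_eq_add.mp h1.symm
  · have key : ∀ k : ℕ, ∀ i : Fin n, (i : ℕ) = k → φ i = 0 := by
      intro k
      induction k with
      | zero =>
        intro i hi
        have h1 := hrow i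
        have h2 : ¬ (0 < (i : ℕ)) := by omega
        rw [vecMul_shift_apply, dif_neg h2, add_zero] at h1
        have h3 : (1 - c) * φ i = 0 := by linear_combination h1
        rcases mul_eq_zero.mp h3 with h4 | h4
        · exact absurd (sub_eq_zero.mp h4).symm hc1
        · exact h4
      | succ k ih =>
        intro i hi
        have h1 := hrow i
        have h2 : 0 < (i : ℕ) := by omega
        rw [vecMul_shift_apply, dif_pos h2, ih ⟨i - 1, lt_of_le_of_lt (Nat.sub_le _ _) i.2⟩
          (by simp only []; omega), add_zero] at h1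
        have h3 : (1 - c) * φ i = 0 := by linear_combination h1
        rcases mul_eq_zero.mp h3 with h4 | h4
        · exact absurd (sub_eq_zero.mp h4).symm hc1
        · exact h4
    intro i _
    exact key i i rfl

end Cfsg.Agent.Lib.Helper84.S3894
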