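import Mathlib

/-!
K-S4751-E2b (keystone 47517, architect helper82), auxiliary form: `exists_complement_center` with K-S4751-E2a as an
explicit hypothesis.  Pure group theory.
-/

set_option autoImplicit false
universe u

namespace Cfsg.Agent.Lib.Helper84.S4751E2b

/-- `G ⧸ N` is not abelian: `N` a normal four-group with `N ⊓ Z(G) = ⊥` and `|G : C_G(N)| = 6`. -/
theorem exists_not_comm_quotient {G : Type u} [Group G] [Finite G] (N : Subgroup G) [N.Normal]
    (hN : Nat.card N = 4) (hexp : ∀ x ∈ N, x * x = 1)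
    (hNZ : N ⊓ Subgroup.center G = ⊥)
    (hidx : (Subgroup.centralizer (N : Set G)).index = 6) :
    ∃ a b : G ⧸ N, a * b ≠ b * a := by
  by_contra hab
  push Not at hab
  -- `N` is abelian
  have hinv : ∀ x ∈ N, x⁻¹ = x := fun x hx => inv_eq_of_mul_eq_one_left (hexp x hx)
  have hNcomm : ∀ a ∈ N, ∀ b ∈ N, a * b = b * a := by
    intro a ha b hb
    have h1 := hexp (a * b) (N.mul_mem ha hb)
    have h2 : a * b = (a * b)⁻¹ := (hinv _ (N.mul_mem ha hb)).symm
    rw [h2, mul_inv_rev, hinv a ha, hinv b hb]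
  -- an element `t ∉ C` with `t² ∈ C`
  have : Fact (Nat.Prime 2) := ⟨Nat.prime_two⟩
  have hcardQ : Nat.card (G ⧸ Subgroup.centralizer (N : Set G)) = 6 := by
    rw [← Subgroup.index_eq_card]; exact hidx
  obtain ⟨q, hq⟩ := exists_prime_orderOf_dvd_card' (G := G ⧸ Subgroup.centralizer (N : Set G)) 2
    (by rw [hcardQ]; norm_num)
  obtain ⟨t, rfl⟩ := QuotientGroup.mk_surjective q
  have htC : t ∉ Subgroup.centralizer (N : Set G) := by
    intro h
    have : ((t : G) : G ⧸ Subgroup.centralizer (N : Set G)) = 1 := (QuotientGroup.eq_one_iff t).2 h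
    rw [this, orderOf_one] at hq
    omega
  have ht2C : t * t ∈ Subgroup.centralizer (N : Set G) := by
    have h1 : ((t : G) : G ⧸ Subgroup.centralizer (N : Set G)) ^ 2 = 1 := by
      rw [← hq]; exact pow_orderOf_eq_one _
    rw [pow_two, ← QuotientGroup.mk_mul] at h1
    exact (QuotientGroup.eq_one_iff (t * t)).1 h1
  -- `x ∈ N` moved by `t`
  have hex : ∃ x ∈ N, x * t ≠ t * x := by
    by_contra hne
    push Not at hne
    exact htC (Subgroup.mem_centralizer_iff.2 (fun h hh => hne h hh))
  obtain ⟨x, hxN, hxt⟩ := hex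
  have hx'N : t * x * t⁻¹ ∈ N := ‹N.Normal›.conj_mem x hxN t
  set z := x * (t * x * t⁻¹) with hz
  have hzN : z ∈ N := N.mul_mem hxN hx'N
  have hz1 : z ≠ 1 := by
    intro h
    have h1 : t * x * t⁻¹ = x⁻¹ := (inv_eq_of_mul_eq_one_right h).symm
    rw [hinv x hxN] at h1
    apply hxt
    have := congrArg (fun y => y * t) h1
    simp only [inv_mul_cancel_right] at this
    exact this.symm
  -- `t` fixes `z`
  have htt : t * t * x = x * (t * t) := ((Subgroup.mem_centralizer_iff.1 ht2C) x hxN).symm
  have htz : t * z * t⁻¹ = z := by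
    have h1 : t * z * t⁻¹ = (t * x * t⁻¹) * (t * (t * x * t⁻¹) * t⁻¹) := by
      rw [hz]; group
    have h2 : t * (t * x * t⁻¹) * t⁻¹ = x := by
      have : t * (t * x * t⁻¹) * t⁻¹ = (t * t * x) * (t⁻¹ * t⁻¹) := by group
      rw [this, htt]; group
    rw [h1, h2, hz]
    exact hNcomm _ hx'N _ hxN
  -- the fixed subgroup `F`
  set F : Subgroup G := N ⊓ Subgroup.centralizer ({t} : Set G) with hF
  have hmemF : ∀ y, y ∈ F ↔ y ∈ N ∧ t * y * t⁻¹ = y := by
    intro y
    rw [hF, Subgroup.mem_inf, Subgroup.mem_centralizer_iff]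
    constructor
    · rintro ⟨hy, hc⟩
      refine ⟨hy, ?_⟩
      have := hc t (Set.mem_singleton t)
      rw [this]; group
    · rintro ⟨hy, hc⟩
      refine ⟨hy, ?_⟩
      intro h hh
      rw [Set.mem_singleton_iff] at hh
      subst hh
      have := congrArg (fun w => w * h) hc
      simp only [inv_mul_cancel_right] at this
      exact this
  have hzF : z ∈ F := (hmemF z).2 ⟨hzN, htz⟩
  have hxF : x ∉ F := by
    intro h
    have h1 := ((hmemF x).1 h).2
    apply hxt
    have := congrArg (fun w => w * t) h1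
    simp only [inv_mul_cancel_right] at this
    exact this.symm
  have hFle : F ≤ N := inf_le_left
  have hFcard : Nat.card F = 2 := by
    have hdvd : Nat.card F ∣ Nat.card N := Subgroup.card_dvd_of_le hFle
    rw [hN] at hdvd
    have h1 : Nat.card F ≠ 1 := by
      intro h
      have := Subgroup.eq_bot_of_card_eq F h
      rw [this, Subgroup.mem_bot] at hzF
      exact hz1 hzF
    have h4 : Nat.card F ≠ 4 := by
      intro h
      have : F = N := Subgroup.eq_of_le_of_card_ge hFle (by rw [h, hN])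
      rw [this] at hxF
      exact hxF hxN
    have hle : Nat.card F ≤ 4 := Nat.le_of_dvd (by norm_num) hdvd
    have hpos : 0 < Nat.card F := Nat.card_pos
    interval_cases hc : Nat.card F
    · exact absurd rfl h1
    · rfl
    · omega
    · exact absurd rfl h4
  -- every conjugate of `z` is `z`
  have hconj : ∀ s : G, s * z * s⁻¹ = z := by
    intro s
    -- `s t = t s m`, `m ∈ N`
    have hm : (t * s)⁻¹ * (s * t) ∈ N := by
      have := hab (QuotientGroup.mk t) (QuotientGroup.mk s)
      rw [← QuotientGroup.mk_mul, ← QuotientGroup.mk_mul] at this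
      exact QuotientGroup.eq.1 this
    set m := (t * s)⁻¹ * (s * t) with hmdef
    have hn : s * m * s⁻¹ ∈ N := ‹N.Normal›.conj_mem m hm s
    set n := s * m * s⁻¹ with hndef
    have hst : s * t * s⁻¹ = t * n := by
      rw [hndef, hmdef]; group
    set w := s * z * s⁻¹ with hw
    have hwN : w ∈ N := ‹N.Normal›.conj_mem z hzN s
    have hw1 : w ≠ 1 := by
      intro h
      apply hz1
      have := congrArg (fun y => s⁻¹ * y * s) h
      simp only [hw] at this
      have h2 : s⁻¹ * (s * z * s⁻¹) * s = z := by group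
      rw [h2] at this
      rw [this]; group
    have h1 : (s * t * s⁻¹) * w * (s * t * s⁻¹)⁻¹ = w := by
      have : (s * t * s⁻¹) * w * (s * t * s⁻¹)⁻¹ = s * (t * z * t⁻¹) * s⁻¹ := by
        rw [hw]; group
      rw [this, htz]
    rw [hst] at h1
    have h2 : n * w * n⁻¹ = w := by
      rw [hNcomm n hn w hwN]; group
    have h3 : t * w * t⁻¹ = w := by
      have : t * n * w * (t * n)⁻¹ = t * (n * w * n⁻¹) * t⁻¹ := by group
      rw [this, h2] at h1
      exact h1
    have hwF : w ∈ F := (hmemF w).2 ⟨hwN, h3⟩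
    obtain ⟨y, -, hy⟩ := (Nat.card_eq_two_iff' (1 : F)).1 hFcard
    have e1 : (⟨w, hwF⟩ : F) = y := hy _ (by
      intro h; apply hw1; exact congrArg Subtype.val h)
    have e2 : (⟨z, hzF⟩ : F) = y := hy _ (by
      intro h; apply hz1; exact congrArg Subtype.val h)
    exact congrArg Subtype.val (e1.trans e2.symm)
  have hzZ : z ∈ Subgroup.center G := by
    rw [Subgroup.mem_center_iff]
    intro g
    have := hconj g
    have h2 := congrArg (fun y => y * g) this
    simp only [inv_mul_cancel_right] at h2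
    exact h2
  have : z ∈ N ⊓ Subgroup.center G := ⟨hzN, hzZ⟩
  rw [hNZ, Subgroup.mem_bot] at this
  exact hz1 this

/-- **K-S4751-E2b**, with E2a as a hypothesis. -/
theorem exists_complement_center_aux {G : Type u} [Group G] [Finite G]
    (E2a : ∀ {Q : Type u} [Group Q] [Finite Q] (A : Subgroup Q), A ≤ Subgroup.center Q →
      Odd (Nat.card A) → A.index = 6 → (∃ a b : Q, a * b ≠ b * a) →
      ∃ K : Subgroup Q, Nat.card K = 6 ∧ K ⊓ A = ⊥)
    (N : Subgroup G) [N.Normal]
    (hN : Nat.card N = 4) (hexp : ∀ x ∈ N, x * x = 1)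
    (hC : Subgroup.centralizer (N : Set G) = N ⊔ Subgroup.center G)
    (hNZ : N ⊓ Subgroup.center G = ⊥) (hodd : Odd (Nat.card (Subgroup.center G)))
    (hidx : (Subgroup.centralizer (N : Set G)).index = 6) :
    ∃ H : Subgroup G, N ≤ H ∧ Nat.card H = 24 ∧ H ⊓ Subgroup.center G = ⊥ ∧
      H ⊔ Subgroup.center G = ⊤ := by
  have hf : Function.Surjective (QuotientGroup.mk' N) := QuotientGroup.mk'_surjective N
  set A : Subgroup (G ⧸ N) := (Subgroup.center G).map (QuotientGroup.mk' N) with hA
  have hAc : A ≤ Subgroup.center (G ⧸ N) := by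
    rintro _ ⟨z, hz, rfl⟩
    rw [Subgroup.mem_center_iff]
    intro q
    obtain ⟨g, rfl⟩ := hf q
    rw [← map_mul, ← map_mul, Subgroup.mem_center_iff.1 hz g]
  have hAodd : Odd (Nat.card A) := by
    have hd : Nat.card A ∣ Nat.card (Subgroup.center G) := Subgroup.card_map_dvd _ _
    exact hodd.of_dvd_nat hd
  have hAidx : A.index = 6 := by
    rw [← Subgroup.index_comap_of_surjective A hf, hA, QuotientGroup.comap_map_mk', ← hC]
    exact hidx
  obtain ⟨K, hK6, hKA⟩ := E2a A hAc hAodd hAidx (exists_not_comm_quotient N hN hexp hNZ hidx)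
  refine ⟨K.comap (QuotientGroup.mk' N), QuotientGroup.le_comap_mk' N K, ?_, ?_, ?_⟩
  · have h1 : Nat.card (K.comap (QuotientGroup.mk' N)) * (K.comap (QuotientGroup.mk' N)).index
        = Nat.card G := Subgroup.card_mul_index _
    rw [Subgroup.index_comap_of_surjective K hf] at h1
    have h2 : Nat.card G = Nat.card (G ⧸ N) * Nat.card N :=
      Subgroup.card_eq_card_quotient_mul_card_subgroup N
    have h3 : Nat.card K * K.index = Nat.card (G ⧸ N) := Subgroup.card_mul_index K
    have hidxpos : 0 < K.index := Nat.pos_of_ne_zero Subgroup.index_ne_zero_of_finite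
    rw [h2, ← h3, hK6, hN] at h1
    have h4 : Nat.card (K.comap (QuotientGroup.mk' N)) * K.index = 24 * K.index := by
      rw [h1]; ring
    exact Nat.eq_of_mul_eq_mul_right hidxpos h4
  · rw [eq_bot_iff]
    rintro h ⟨hh, hz⟩
    have h1 : (QuotientGroup.mk' N) h ∈ K ⊓ A := ⟨hh, Subgroup.mem_map_of_mem _ hz⟩
    rw [hKA, Subgroup.mem_bot] at h1
    have hhN : h ∈ N := (QuotientGroup.eq_one_iff h).1 h1
    have h2 : h ∈ N ⊓ Subgroup.center G := ⟨hhN, hz⟩
    rwa [hNZ] at h2
  · have hAn : A.Normal := ⟨fun a ha g => by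
      have h1 := Subgroup.mem_center_iff.1 (hAc ha) g
      have : g * a * g⁻¹ = a := by rw [h1]; group
      rw [this]; exact ha⟩
    have hKAtop : K ⊔ A = ⊤ := by
      have h1 : A.relIndex (K ⊔ A) = A.relIndex K := Subgroup.relIndex_sup_right K A
      have h2 : A.relIndex K = Nat.card K := by
        rw [← Subgroup.inf_relIndex_right, inf_comm, hKA, Subgroup.relIndex_bot_left]
      have h3 : A.relIndex (K ⊔ A) * (K ⊔ A).index = A.index :=
        Subgroup.relIndex_mul_index le_sup_right
      rw [h1, h2, hK6, hAidx] at h3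
      have h4 : (K ⊔ A).index = 1 := by omega
      exact Subgroup.index_eq_one.1 h4
    have hmap : Subgroup.map (QuotientGroup.mk' N)
        (K.comap (QuotientGroup.mk' N) ⊔ Subgroup.center G) = ⊤ := by
      rw [Subgroup.map_sup, Subgroup.map_comap_eq_self_of_surjective hf, ← hA, hKAtop]
    have h5 := QuotientGroup.comap_map_mk' N (K.comap (QuotientGroup.mk' N) ⊔ Subgroup.center G)
    rw [hmap, Subgroup.comap_top] at h5
    have h6 : N ⊔ (K.comap (QuotientGroup.mk' N) ⊔ Subgroup.center G)
        = K.comap (QuotientGroup.mk' N) ⊔ Subgroup.center G :=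
      sup_eq_right.2 (le_trans (QuotientGroup.le_comap_mk' N K) le_sup_left)
    rw [h6] at h5
    exact h5.symm

end Cfsg.Agent.Lib.Helper84.S4751E2b
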