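import Mathlib
import Cfsg.Agent.Lib.Helper89.OmegaFix

/-!
K-S5289-C3 (keystone 52898, architect helper89): the nonabelian group of order `p³` generated by elements of order `p`
(`p` odd) has exponent `p`.
-/

set_option autoImplicit false

namespace Cfsg.Agent.Lib.Helper84.S5289

open scoped commutatorElement

/-- All elements of `closure {x, y, z}` have `p`-th power `1`. -/
theorem pow_eq_one_of_typeC3 {Ω : Type*} [Group Ω] {p : ℕ} [Fact p.Prime] (hp2 : p ≠ 2)
    {x y z : Ω} (hx : x ^ p = 1) (hy : y ^ p = 1)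
    (hz : z ^ p = 1) (hxz : x * z = z * x) (hyz : y * z = z * y) (hrel : x⁻¹ * y * x = y * z) :
    ∀ u ∈ Subgroup.closure ({x, y, z} : Set Ω), u ^ p = 1 := by
  have hp : p.Prime := Fact.out
  -- `z` commutes with the closure
  have hzc : ∀ u ∈ Subgroup.closure ({x, y, z} : Set Ω), Commute z u := by
    intro u hu
    induction hu using Subgroup.closure_induction with
    | mem g hg =>
      rcases hg with rfl | rfl | rfl
      · exact hxz.symm
      · exact hyz.symm
      · exact Commute.refl _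
    | one => exact Commute.one_right _
    | mul a b _ _ ha hb => exact ha.mul_right hb
    | inv a _ ha => exact ha.inv_right
  have hZc : ∀ w ∈ Subgroup.zpowers z, ∀ u ∈ Subgroup.closure ({x, y, z} : Set Ω), Commute w u := by
    rintro w ⟨k, rfl⟩ u hu
    exact (hzc u hu).zpow_left k
  have hZp : ∀ w ∈ Subgroup.zpowers z, w ^ p = 1 := by
    rintro w ⟨k, rfl⟩
    rw [← zpow_natCast, ← zpow_mul, mul_comm, zpow_mul, zpow_natCast, hz, one_zpow]
  -- generators' commutators
  have hyx : ⁅y, x⁆ = z := by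
    have h1 : y * x = x * (y * z) := by rw [← hrel]; group
    calc ⁅y, x⁆ = y * x * y⁻¹ * x⁻¹ := commutatorElement_def _ _
      _ = x * (y * z) * y⁻¹ * x⁻¹ := by rw [h1]
      _ = x * (z * y) * y⁻¹ * x⁻¹ := by rw [hyz]
      _ = (x * z) * x⁻¹ := by group
      _ = z * x * x⁻¹ := by rw [hxz]
      _ = z := by group
  have hxy : ⁅x, y⁆ = z⁻¹ := by rw [← commutatorElement_inv, hyx]
  have hzm : z ∈ Subgroup.zpowers z := Subgroup.mem_zpowers z
  -- all commutators lie in `zpowers z`
  have hcomm : ∀ a ∈ Subgroup.closure ({x, y, z} : Set Ω), ∀ b ∈ Subgroup.closure ({x, y, z} : Set Ω),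
      ⁅a, b⁆ ∈ Subgroup.zpowers z := by
    intro a ha b hb
    induction ha, hb using Subgroup.closure_induction₂ with
    | mem g h hg hh =>
      rcases hg with rfl | rfl | rfl <;> rcases hh with rfl | rfl | rfl
      · rw [commutatorElement_self]; exact one_mem _
      · rw [hxy]; exact inv_mem hzm
      · rw [commutatorElement_eq_one_iff_commute.2 hxz]; exact one_mem _
      · rw [hyx]; exact hzm
      · rw [commutatorElement_self]; exact one_mem _
      · rw [commutatorElement_eq_one_iff_commute.2 hyz]; exact one_mem _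
      · rw [commutatorElement_eq_one_iff_commute.2 hxz.symm]; exact one_mem _
      · rw [commutatorElement_eq_one_iff_commute.2 hyz.symm]; exact one_mem _
      · rw [commutatorElement_self]; exact one_mem _
    | one_left g hg => rw [commutatorElement_one_left]; exact one_mem _
    | one_right g hg => rw [commutatorElement_one_right]; exact one_mem _
    | mul_left a b c ha hb hc h1 h2 =>
      -- ⁅a*b, c⁆ = a * ⁅b,c⁆ * a⁻¹ * ⁅a,c⁆
      have e : ⁅a * b, c⁆ = a * ⁅b, c⁆ * a⁻¹ * ⁅a, c⁆ := by
        simp only [commutatorElement_def]; group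
      have hcm : a * ⁅b, c⁆ * a⁻¹ = ⁅b, c⁆ := by
        have := (hZc _ h2 a ha).eq
        rw [← this]; group
      rw [e, hcm]
      exact mul_mem h2 h1
    | mul_right b c a hb hc ha h1 h2 =>
      -- ⁅a, b*c⁆ = ⁅a,b⁆ * b * ⁅a,c⁆ * b⁻¹
      have e : ⁅a, b * c⁆ = ⁅a, b⁆ * (b * ⁅a, c⁆ * b⁻¹) := by
        simp only [commutatorElement_def]; group
      have hcm : b * ⁅a, c⁆ * b⁻¹ = ⁅a, c⁆ := by
        have := (hZc _ h2 b hb).eq
        rw [← this]; group
      rw [e, hcm]
      exact mul_mem h1 h2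
    | inv_left a b ha hb h =>
      have e : ⁅a⁻¹, b⁆ = a⁻¹ * ⁅a, b⁆⁻¹ * a := by
        simp only [commutatorElement_def]; group
      have hcm : a⁻¹ * ⁅a, b⁆⁻¹ * a = ⁅a, b⁆⁻¹ := by
        have := (hZc _ (inv_mem h) a ha).eq
        rw [mul_assoc, this]; group
      rw [e, hcm]
      exact inv_mem h
    | inv_right a b ha hb h =>
      have e : ⁅a, b⁻¹⁆ = b⁻¹ * ⁅a, b⁆⁻¹ * b := by
        simp only [commutatorElement_def]; group
      have hcm : b⁻¹ * ⁅a, b⁆⁻¹ * b = ⁅a, b⁆⁻¹ := by
        have := (hZc _ (inv_mem h) b hb).eq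
        rw [mul_assoc, this]; group
      rw [e, hcm]
      exact inv_mem h
  have hdvd : p ∣ p.choose 2 := by
    have h2 : 2 < p := lt_of_le_of_ne hp.two_le (Ne.symm hp2)
    exact Nat.Prime.dvd_choose_self hp (by norm_num) h2
  intro u hu
  induction hu using Subgroup.closure_induction with
  | mem g hg =>
    rcases hg with rfl | rfl | rfl
    · exact hx
    · exact hy
    · exact hz
  | one => exact one_pow _
  | mul a b ha hb iha ihb =>
    have hc := hcomm b hb a ha
    have h1 : Commute ⁅b, a⁆ a := hZc _ hc a ha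
    have h2 : Commute ⁅b, a⁆ b := hZc _ hc b hb
    rw [Cfsg.Agent.Lib.Helper89.mul_pow_of_comm_central a b h1 h2 p, iha, ihb]
    obtain ⟨t, ht⟩ := hdvd
    rw [ht, pow_mul, hZp _ hc, one_pow, mul_one, mul_one]
  | inv a ha iha => rw [inv_pow, iha, inv_one]

/-- **K-S5289-C3** -/
theorem exponent_of_typeC3 {Ω : Type*} [Group Ω] {S : Subgroup Ω} [Finite S] {p : ℕ} [Fact p.Prime] (hp2 : p ≠ 2)
    {x y z : Ω} (hgen : Subgroup.closure ({x, y, z} : Set Ω) = S) (hx : x ^ p = 1) (hy : y ^ p = 1)
    (hz : z ^ p = 1) (hxz : x * z = z * x) (hyz : y * z = z * y) (hrel : x⁻¹ * y * x = y * z)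
    (hcard : Nat.card S = p ^ 3) : Monoid.exponent ↥S = p := by
  have hp : p.Prime := Fact.out
  have hpow : ∀ u : S, u ^ p = 1 := by
    intro u
    have hu : (u : Ω) ∈ Subgroup.closure ({x, y, z} : Set Ω) := by rw [hgen]; exact u.2
    have := pow_eq_one_of_typeC3 hp2 hx hy hz hxz hyz hrel (u : Ω) hu
    exact Subtype.ext (by simpa using this)
  have hdvd : Monoid.exponent ↥S ∣ p := Monoid.exponent_dvd_of_forall_pow_eq_one hpow
  rcases (Nat.dvd_prime hp).1 hdvd with h1 | h1
  · exfalso
    have hss : Subsingleton S := Monoid.exp_eq_one_iff.1 h1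
    have : Nat.card S = 1 := Nat.card_unique
    rw [hcard] at this
    have h2 : 1 < p ^ 3 := Nat.one_lt_pow (by norm_num) hp.one_lt
    omega
  · exact h1

end Cfsg.Agent.Lib.Helper84.S5289
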