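/-
K-SLU-10 (keystone 598210, S5982): the single-block derangement for the unitary similarity group.
`r` odd, `r ∤ q - 1`, `i = ord_r(q) ≤ n`: an element of order `r` of `SL_n(q)` with a single
irreducible block has no `GL`-conjugate in `CU(h)`, provided `GU_n(q₀)` has no element of order `r`
with `dim [V, y] = i`.
-/
import Mathlib
import Cfsg.Prelude.Def_Classical
import Cfsg.Prelude.Def_LieClassical
import Cfsg.Prelude.Def_GeometricClasses
import Cfsg.Agent.Lib.Helper49.SLUDefs
import Cfsg.Agent.Lib.Helper49.SimDerange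
import Cfsg.Agent.S2568

set_option autoImplicit false

namespace Cfsg.Agent.Lib.Helper84.SLU

open Polynomial Module Matrix Cfsg.Agent.Lib.Helper49 Cfsg.Agent.Lib.Helper49.SLU

variable {F : Type*} [Field F] [Fintype F]

/-- the multiplier of a similarity of order dividing `k` is a `k`-th root of unity -/
theorem herm_mult_pow_eq_one {n : ℕ} (hn : 1 ≤ n) (q₀ : ℕ) (y : GL (Fin n) F) (c : F)
    (hc : ∀ u v, Cfsg.hermForm n F q₀ ((y : Matrix (Fin n) (Fin n) F) *ᵥ u)
      ((y : Matrix (Fin n) (Fin n) F) *ᵥ v) = c * Cfsg.hermForm n F q₀ u v)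
    (k : ℕ) (hyk : y ^ k = 1) : c ^ k = 1 := by
  have hpow : ∀ j : ℕ, ∀ u v, Cfsg.hermForm n F q₀
      (((y ^ j : GL (Fin n) F) : Matrix (Fin n) (Fin n) F) *ᵥ u)
      (((y ^ j : GL (Fin n) F) : Matrix (Fin n) (Fin n) F) *ᵥ v) =
        c ^ j * Cfsg.hermForm n F q₀ u v := by
    intro j
    induction j with
    | zero =>
      intro u v
      simp
    | succ j ih =>
      intro u v
      rw [pow_succ', Units.val_mul, ← Matrix.mulVec_mulVec, ← Matrix.mulVec_mulVec, hc, ih,
        pow_succ', mul_assoc]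
  have h1 := hpow k (Pi.single (⟨0, by omega⟩ : Fin n) (1 : F))
    (Pi.single (⟨0, by omega⟩ : Fin n) (1 : F))
  rw [hyk, Units.val_one, Matrix.one_mulVec] at h1
  have h2 : Cfsg.hermForm n F q₀ (Pi.single (⟨0, by omega⟩ : Fin n) (1 : F))
      (Pi.single (⟨0, by omega⟩ : Fin n) (1 : F)) = 1 := by
    unfold Cfsg.hermForm
    rw [Finset.sum_eq_single (⟨0, by omega⟩ : Fin n)]
    · simp
    · intro b _ hb
      simp [hb]
    · intro h; exact absurd (Finset.mem_univ _) h
  rw [h2, mul_one] at h1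
  exact h1.symm

theorem derange_block_u {p : ℕ} [Fact p.Prime] [CharP F p] {q₀ : ℕ}
    (hF : Fintype.card F = q₀ ^ 2) (n : ℕ) (hn : 1 ≤ n) (r : ℕ) [Fact r.Prime] (hr2 : r ≠ 2)
    (hrp : r ≠ p) (hrq : ¬ r ∣ Fintype.card F - 1) (i : ℕ)
    (hi : i = orderOf ((q₀ ^ 2 : ℕ) : ZMod r)) (hin : i ≤ n)
    (hGU : ∀ y : GL (Fin n) F, y ∈ Cfsg.GU n F q₀ → y ^ r = 1 → y ≠ 1 →
      Module.finrank F (LinearMap.range
        (Matrix.toLin' ((y : Matrix (Fin n) (Fin n) F) - 1))) = i → False) :
    ∃ x : GL (Fin n) F, x ∈ Cfsg.Geo.specialLinear (Fin n) F ∧ x ^ r = 1 ∧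
      (∀ z : F, (x : Matrix (Fin n) (Fin n) F) ≠ z • (1 : Matrix (Fin n) (Fin n) F)) ∧
      ∀ g : GL (Fin n) F, g⁻¹ * x * g ∉ CUh n F q₀ := by
  classical
  have hr : r.Prime := Fact.out
  have hp : p.Prime := Fact.out
  obtain ⟨f', _, hqf⟩ := FiniteField.card F p
  rw [hF] at hqf
  have hK : Fintype.card F = p ^ (f' : ℕ) := by rw [hF, hqf]
  have hi' : i = orderOf ((p ^ (f' : ℕ) : ℕ) : ZMod r) := by rw [hi, hqf]
  have D := Cfsg.Agent.S2568.factorData hK r i hrp hi'
  have hne : (UniqueFactorizationMonoid.normalizedFactors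
      (Polynomial.cyclotomic r F)).toFinset.Nonempty := by
    rw [Finset.nonempty_iff_ne_empty]
    intro hempty
    have h1 := D.prod
    rw [hempty, Finset.prod_empty, mul_one] at h1
    have h2 := congrArg Polynomial.natDegree h1
    have e1 : (Polynomial.X - 1 : Polynomial F).natDegree = 1 := by
      rw [← Polynomial.C_1]; exact Polynomial.natDegree_X_sub_C 1
    have e2 : (Polynomial.X ^ r - 1 : Polynomial F).natDegree = r := by
      rw [← Polynomial.C_1]; exact Polynomial.natDegree_X_pow_sub_C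
    rw [e1, e2] at h2
    have := hr.two_le
    omega
  have hipos : 1 ≤ i := D.hi
  set PP := (UniqueFactorizationMonoid.normalizedFactors (Polynomial.cyclotomic r F)).toFinset
    with hPP
  obtain ⟨P₀, hP₀⟩ := hne
  let a : PP → ℕ := fun P => if P = ⟨P₀, hP₀⟩ then 1 else 0
  have hsum : ∑ P, a P = 1 := by
    rw [Finset.sum_ite_eq' Finset.univ (⟨P₀, hP₀⟩ : PP) (fun _ => 1)]
    simp
  obtain ⟨x, hxr, hκ⟩ := D.exists_realize hr.pos n a (by rw [hsum, mul_one]; exact hin)
  have hκ₀ : kdim (Matrix.toLin' (x : Matrix (Fin n) (Fin n) F)) P₀ = i := by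
    have := hκ ⟨P₀, hP₀⟩
    simp only [a, if_true, mul_one] at this
    exact this
  have hgr : (x : Matrix (Fin n) (Fin n) F) ^ r = 1 := by
    rw [← Units.val_pow_eq_pow_val, hxr, Units.val_one]
  have hdet : (x : Matrix (Fin n) (Fin n) F).det = 1 := by
    apply root_eq_one_of_not_dvd hr hrq
    rw [← Matrix.det_pow, hgr, Matrix.det_one]
  -- the fixed space of `x` has dimension `n - i`
  have hfix : kdim (Matrix.toLin' (x : Matrix (Fin n) (Fin n) F)) (X - 1) + i = n := by
    have h1 := D.finrank_eq (Matrix.toLin' (x : Matrix (Fin n) (Fin n) F))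
      (aeval_toLin'_pow_sub_one x r hxr)
    rw [Module.finrank_fin_fun] at h1
    have h2 : ∑ P ∈ PP, kdim (Matrix.toLin' (x : Matrix (Fin n) (Fin n) F)) P = i := by
      rw [← Finset.sum_coe_sort PP
        (fun P => kdim (Matrix.toLin' (x : Matrix (Fin n) (Fin n) F)) P)]
      rw [Finset.sum_congr rfl (fun P _ => hκ P), ← Finset.mul_sum, hsum, mul_one]
    omega
  have hxns : ∀ z : F, (x : Matrix (Fin n) (Fin n) F) ≠ z • (1 : Matrix (Fin n) (Fin n) F) := by
    intro z hz
    have h1 : (z ^ r) • (1 : Matrix (Fin n) (Fin n) F) = 1 := by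
      have h0 := hgr
      rw [hz, _root_.smul_pow, one_pow] at h0
      exact h0
    have h2 : z ^ r = 1 := by
      have := congrFun (congrFun h1 ⟨0, by omega⟩) ⟨0, by omega⟩
      simpa using this
    have h3 := root_eq_one_of_not_dvd hr hrq z h2
    rw [h3, one_smul] at hz
    rw [hz, kdim_toLin'_one P₀ (D.X_sub_one_not_dvd hP₀)] at hκ₀
    omega
  refine ⟨x, ?_, hxr, hxns, ?_⟩
  · unfold Cfsg.Geo.specialLinear
    rw [MonoidHom.mem_ker]
    apply Units.ext
    rw [Matrix.GeneralLinearGroup.val_det_apply, hdet]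
    rfl
  · intro g hy
    obtain ⟨c, hc⟩ := hy
    set y : GL (Fin n) F := g⁻¹ * x * g with hydef
    have hyr : y ^ r = 1 := by
      have h0 : y = g⁻¹ * x * (g⁻¹)⁻¹ := by rw [hydef, inv_inv]
      rw [h0, conj_pow, hxr, mul_one, mul_inv_cancel]
    have hcr : (c : F) ^ r = 1 := herm_mult_pow_eq_one hn q₀ y (c : F) hc r hyr
    have hc1 : (c : F) = 1 := root_eq_one_of_not_dvd hr hrq (c : F) hcr
    have hyGU : y ∈ Cfsg.GU n F q₀ := by
      intro u v
      have := hc u v
      rw [hc1, one_mul] at this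
      exact this
    have hy1 : y ≠ 1 := by
      intro h1
      have hx1 : x = 1 := by
        have : x = g * y * g⁻¹ := by rw [hydef]; group
        rw [this, h1]; group
      apply hxns 1
      rw [hx1, one_smul]; rfl
    have hconj : IsConj x y := by
      rw [isConj_iff]
      exact ⟨g⁻¹, by rw [hydef, inv_inv]⟩
    have hkd : kdim (Matrix.toLin' (y : Matrix (Fin n) (Fin n) F)) (X - 1) =
        kdim (Matrix.toLin' (x : Matrix (Fin n) (Fin n) F)) (X - 1) :=
      (kdim_eq_of_isConj x y hconj (X - 1)).symm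
    have hrank : Module.finrank F (LinearMap.range
        (Matrix.toLin' ((y : Matrix (Fin n) (Fin n) F) - 1))) = i := by
      have h1 := LinearMap.finrank_range_add_finrank_ker
        (Matrix.toLin' ((y : Matrix (Fin n) (Fin n) F) - 1))
      rw [Module.finrank_fin_fun] at h1
      have h2 : Module.finrank F (LinearMap.ker
          (Matrix.toLin' ((y : Matrix (Fin n) (Fin n) F) - 1))) =
          kdim (Matrix.toLin' (y : Matrix (Fin n) (Fin n) F)) (X - 1) := by
        unfold kdim
        have e : aeval (Matrix.toLin' (y : Matrix (Fin n) (Fin n) F)) (X - 1 : F[X]) =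
            Matrix.toLin' ((y : Matrix (Fin n) (Fin n) F) - 1) := by
          simp only [map_sub, aeval_X, map_one, Matrix.toLin'_one]
          rfl
        rw [e]
      rw [h2, hkd] at h1
      omega
    exact hGU y hyGU hyr hy1 hrank

end Cfsg.Agent.Lib.Helper84.SLU
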