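import Mathlib
import Cfsg.Prelude.Def_GeometricClasses
import Cfsg.Agent.Lib.Helper51.SUMax2
import Cfsg.Agent.Lib.Helper63.SUMaxN6

/-!
# K-SU4-C (keystone 578403, architect helper53, row S5784)

`SU_4(q)` does not normalise an absolutely irreducible `r`-subgroup of `GL_4(q²)`: the case `n = 4` of helper63's
`Cfsg.Agent.Lib.Helper63.SUMax.su_not_le_normalizer_pgroup_of_five_le`.  In dimension `4` the rank argument alone does not
exclude a twisted commutation `h c = ζ c h`, `ζ ≠ 1`, of `c = t g t⁻¹ g⁻¹` (`t` a unitary transvection with centre `p`); then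
`F⁴ = ker (c - 1) ⊕ ⟨p, g p⟩`, `c` is the scalar `ζ⁻¹` on `⟨p, g p⟩`, and the explicit value of `c p` gives `ζ = 1`.
-/

set_option autoImplicit false

namespace Cfsg.Agent.Lib.Helper84.SU4

open Cfsg Cfsg.Geo Matrix Cfsg.Agent.Lib.Helper08 Cfsg.Agent.Lib.Helper51 Cfsg.Agent.Lib.Helper63.SUMax
open scoped Matrix MatrixGroups commutatorElement

variable {F : Type*} [Field F] [Fintype F] {q : ℕ}

local notation "hh" => hform (Fin 4) F q
local notation "M4" => Matrix (Fin 4) (Fin 4) F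

/-- the inverse of a unitary transvection acts as the transvection with the opposite parameter -/
theorem inv_qrefl_mulVec (t : GL (Fin 4) F) (p : Fin 4 → F) (a : F) (hp : hh p p = 0)
    (ht : (t : M4) = qrefl q p a) (u : Fin 4 → F) :
    ((t⁻¹ : GL (Fin 4) F) : M4) *ᵥ u = u - (a * hh u p) • p := by
  have h1 : (t : M4) *ᵥ (u - (a * hh u p) • p) = u := by
    rw [ht, qrefl_mulVec, hform_sub_left, hform_smul_left, hp, mul_zero, sub_zero]
    abel
  have h2 := gl_inv_act' t (u - (a * hh u p) • p)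
  rw [h1] at h2
  exact h2

/-- the value of `c = t g t⁻¹ g⁻¹` on a vector -/
theorem comm_mulVec (g t : GL (Fin 4) F) (p : Fin 4 → F) (a : F) (hp : hh p p = 0)
    (ht : (t : M4) = qrefl q p a) (v : Fin 4 → F) :
    ((t * g * t⁻¹ * g⁻¹ : GL (Fin 4) F) : M4) *ᵥ v =
      v - (a * hh (((g⁻¹ : GL (Fin 4) F) : M4) *ᵥ v) p) • ((g : M4) *ᵥ p) +
        (a * hh (v - (a * hh (((g⁻¹ : GL (Fin 4) F) : M4) *ᵥ v) p) • ((g : M4) *ᵥ p)) p) • p := by
  rw [Units.val_mul, Units.val_mul, Units.val_mul, ← Matrix.mulVec_mulVec, ← Matrix.mulVec_mulVec,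
    ← Matrix.mulVec_mulVec, inv_qrefl_mulVec t p a hp ht, Matrix.mulVec_sub, Matrix.mulVec_smul,
    gl_act_inv' g v, ht, qrefl_mulVec]

/-- the core of the case `n = 4`: a twisted commutation `h c = ζ c h` with `ζ ≠ 1` is impossible -/
theorem false_of_twisted (g t : GL (Fin 4) F) (p : Fin 4 → F) (a : F) (hp : hh p p = 0)
    (ht : (t : M4) = qrefl q p a) (H : M4) (hH : Function.Injective (Matrix.mulVecLin H)) (ζ : F) (hζ : ζ ≠ 1)
    (hHC : H * ((t * g * t⁻¹ * g⁻¹ : GL (Fin 4) F) : M4) =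
      ζ • (((t * g * t⁻¹ * g⁻¹ : GL (Fin 4) F) : M4) * H)) : False := by
  classical
  obtain ⟨W₀, hW₀, hfix⟩ := exists_fixed_space (q := q) g t p a ht
  set C : M4 := ((t * g * t⁻¹ * g⁻¹ : GL (Fin 4) F) : M4) with hC
  have h2 := two_mul_finrank_le C H hH ζ hζ hHC W₀ hfix
  have hdim : Module.finrank F W₀ = 2 := by omega
  -- the image of `W₀`
  set E : Submodule F (Fin 4 → F) := W₀.map (Matrix.mulVecLin H) with hE
  have hEdim : Module.finrank F E = 2 := by
    rw [hE, ← hdim]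
    exact (Submodule.equivMapOfInjective (Matrix.mulVecLin H) hH W₀).finrank_eq.symm
  have hErel : ∀ e ∈ E, e = ζ • (C *ᵥ e) := by
    rintro e ⟨w, hw, rfl⟩
    rw [Matrix.mulVecLin_apply]
    have e1 : (H * C) *ᵥ w = H *ᵥ w := by rw [← Matrix.mulVec_mulVec, hfix w hw]
    have e2 : (ζ • (C * H)) *ᵥ w = ζ • (C *ᵥ (H *ᵥ w)) := by
      rw [Matrix.smul_mulVec, ← Matrix.mulVec_mulVec]
    rw [← e2, ← hHC, e1]
  -- `E` lies in the span of `p` and `g p`
  set W : Submodule F (Fin 4 → F) := Submodule.span F (Set.range ![p, (g : M4) *ᵥ p]) with hW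
  have hpW : p ∈ W := Submodule.subset_span ⟨0, rfl⟩
  have hgpW : (g : M4) *ᵥ p ∈ W := Submodule.subset_span ⟨1, rfl⟩
  have hCW : ∀ v : Fin 4 → F, C *ᵥ v - v ∈ W := by
    intro v
    rw [hC, comm_mulVec g t p a hp ht v]
    have : v - (a * hh (((g⁻¹ : GL (Fin 4) F) : M4) *ᵥ v) p) • ((g : M4) *ᵥ p) +
        (a * hh (v - (a * hh (((g⁻¹ : GL (Fin 4) F) : M4) *ᵥ v) p) • ((g : M4) *ᵥ p)) p) • p - v =
        (-(a * hh (((g⁻¹ : GL (Fin 4) F) : M4) *ᵥ v) p)) • ((g : M4) *ᵥ p) +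
        (a * hh (v - (a * hh (((g⁻¹ : GL (Fin 4) F) : M4) *ᵥ v) p) • ((g : M4) *ᵥ p)) p) • p := by
      module
    rw [this]
    exact W.add_mem (W.smul_mem _ hgpW) (W.smul_mem _ hpW)
  have hEW : E ≤ W := by
    intro e he
    have h1 := hErel e he
    have h3 : (1 - ζ) • (C *ᵥ e) ∈ W := by
      have : (1 - ζ) • (C *ᵥ e) = C *ᵥ e - e := by
        calc (1 - ζ) • (C *ᵥ e) = C *ᵥ e - ζ • (C *ᵥ e) := by rw [sub_smul, one_smul]
          _ = C *ᵥ e - e := by rw [← h1]
      rw [this]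
      exact hCW e
    have hne : (1 - ζ) ≠ 0 := fun h => hζ (sub_eq_zero.mp h).symm
    have h4 : C *ᵥ e ∈ W := by
      have := W.smul_mem (1 - ζ)⁻¹ h3
      rwa [smul_smul, inv_mul_cancel₀ hne, one_smul] at this
    rw [h1]
    exact W.smul_mem _ h4
  have hWdim : Module.finrank F W ≤ 2 := by
    have h : Module.finrank F W ≤ Fintype.card (Fin 2) :=
      finrank_range_le_card (R := F) ![p, (g : M4) *ᵥ p]
    rwa [Fintype.card_fin] at h
  have hEWeq : E = W := by
    apply Submodule.eq_of_le_of_finrank_le hEW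
    rw [hEdim]
    exact hWdim
  have hWdim2 : Module.finrank F W = 2 := by rw [← hEWeq, hEdim]
  -- `p` and `g p` are independent
  have hind : LinearIndependent F ![p, (g : M4) *ᵥ p] := by
    rw [linearIndependent_iff_card_eq_finrank_span, Set.finrank]
    rw [← hW, hWdim2]
    rfl
  -- evaluate at `p`
  have hpE : p ∈ E := by rw [hEWeq]; exact hpW
  have h5 := hErel p hpE
  rw [hC, comm_mulVec g t p a hp ht p] at h5
  set β : F := a * hh (((g⁻¹ : GL (Fin 4) F) : M4) *ᵥ p) p with hβ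
  set α : F := a * hh ((g : M4) *ᵥ p) p with hα
  have h6 : a * hh (p - β • ((g : M4) *ᵥ p)) p = - (α * β) := by
    rw [hform_sub_left, hform_smul_left, hp, zero_sub, hα]
    ring
  rw [h6] at h5
  have h7 : (1 - ζ * (1 - α * β)) • p + (ζ * β) • ((g : M4) *ᵥ p) = 0 := by
    have : (1 - ζ * (1 - α * β)) • p + (ζ * β) • ((g : M4) *ᵥ p) =
        p - ζ • (p - β • ((g : M4) *ᵥ p) + (-(α * β)) • p) := by module
    rw [this, ← h5, sub_self]
  have h8 := LinearIndependent.pair_iff.mp hind _ _ h7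
  obtain ⟨h9, h10⟩ := h8
  have hζ0 : ζ ≠ 0 := by
    rintro rfl
    rw [zero_mul, sub_zero] at h9
    exact one_ne_zero h9
  have hβ0 : β = 0 := by
    rcases mul_eq_zero.mp h10 with h | h
    · exact absurd h hζ0
    · exact h
  rw [hβ0, mul_zero, sub_zero, mul_one] at h9
  exact hζ (sub_eq_zero.mp h9).symm

/-- a unitary transvection normalising `R` commutes with an element of the second centre, in dimension `4` -/
theorem comm_of_second_center_four (R : Subgroup (GL (Fin 4) F))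
    (hscal : ∀ z ∈ R, (∀ x ∈ R, z * x = x * z) → ∃ c : F, (z : M4) = c • (1 : M4))
    (g : GL (Fin 4) F) (hgR : g ∈ R)
    (hg2 : ∀ h ∈ R, ∃ ζ : F, (h : M4) * (g : M4) = ζ • ((g : M4) * (h : M4)))
    (t : GL (Fin 4) F) (htN : t ∈ Subgroup.normalizer (R : Set (GL (Fin 4) F)))
    (p : Fin 4 → F) (a : F) (hp : hh p p = 0) (ht : (t : M4) = qrefl q p a) :
    t * g = g * t := by
  obtain ⟨W₀, hW₀, hfix⟩ := exists_fixed_space (q := q) g t p a ht
  obtain ⟨c, hc⟩ : ∃ c : GL (Fin 4) F, c = t * g * t⁻¹ * g⁻¹ := ⟨_, rfl⟩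
  rw [← hc] at hfix
  have hcR : c ∈ R := by
    rw [hc]
    exact R.mul_mem ((Subgroup.mem_normalizer_iff.mp htN g).mp hgR) (R.inv_mem hgR)
  set G : M4 := (g : M4) with hG
  set Gi : M4 := ((g⁻¹ : GL (Fin 4) F) : M4) with hGi
  set T : M4 := (t : M4) with hT
  set Ti : M4 := ((t⁻¹ : GL (Fin 4) F) : M4) with hTi
  have hGGi : G * Gi = 1 := by rw [hG, hGi, ← Units.val_mul, mul_inv_cancel, Units.val_one]
  have hGiG : Gi * G = 1 := by rw [hG, hGi, ← Units.val_mul, inv_mul_cancel, Units.val_one]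
  have hcval : (c : M4) = T * G * Ti * Gi := by
    rw [hc, Units.val_mul, Units.val_mul, Units.val_mul]
  -- every `h ∈ R` commutes with `c` up to a scalar
  have hc2 : ∀ h ∈ R, ∃ ζ : F, (h : M4) * (c : M4) = ζ • ((c : M4) * (h : M4)) := by
    intro h hhR
    obtain ⟨ζ₁, hζ₁⟩ := hg2 h hhR
    have hh'R : t⁻¹ * h * t ∈ R := by
      have h1 := (Subgroup.mem_normalizer_iff.mp (Subgroup.inv_mem _ htN) h).mp hhR
      rwa [inv_inv] at h1
    obtain ⟨ζ₂, hζ₂⟩ := hg2 _ hh'R
    set H : M4 := (h : M4) with hH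
    set H' : M4 := ((t⁻¹ * h * t : GL (Fin 4) F) : M4) with hH'
    have f3 : T * H' = H * T := by
      rw [hT, hH', hH, ← Units.val_mul, ← Units.val_mul]
      congr 1
      group
    have f4 : H' * Ti = Ti * H := by
      rw [hTi, hH', hH, ← Units.val_mul, ← Units.val_mul]
      congr 1
      group
    have hζ₁0 : ζ₁ ≠ 0 := by
      rintro rfl
      rw [zero_smul] at hζ₁
      have h1 : H * G * Gi = 0 := by rw [hζ₁, Matrix.zero_mul]
      rw [Matrix.mul_assoc, hGGi, Matrix.mul_one] at h1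
      have h2 : (h : M4) * ((h⁻¹ : GL (Fin 4) F) : M4) = 1 := by
        rw [← Units.val_mul, mul_inv_cancel, Units.val_one]
      rw [← hH, h1, Matrix.zero_mul] at h2
      have := congrFun (congrFun h2 (0 : Fin 4)) (0 : Fin 4)
      simp at this
    have f1' : H * Gi = ζ₁⁻¹ • (Gi * H) := by
      have h1 : Gi * (H * G) * Gi = ζ₁ • (H * Gi) := by
        rw [hζ₁, Matrix.mul_smul, Matrix.smul_mul, ← Matrix.mul_assoc, hGiG, Matrix.one_mul]
      rw [Matrix.mul_assoc, Matrix.mul_assoc, hGGi, Matrix.mul_one] at h1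
      rw [h1, smul_smul, inv_mul_cancel₀ hζ₁0, one_smul]
    refine ⟨ζ₂ * ζ₁⁻¹, ?_⟩
    rw [hcval]
    calc H * (T * G * Ti * Gi) = (H * T) * G * Ti * Gi := by simp only [Matrix.mul_assoc]
      _ = T * (H' * G) * Ti * Gi := by rw [← f3]; simp only [Matrix.mul_assoc]
      _ = ζ₂ • (T * G * (H' * Ti) * Gi) := by
        rw [hζ₂]
        simp only [Matrix.mul_assoc, Matrix.mul_smul, Matrix.smul_mul]
      _ = ζ₂ • (T * G * Ti * (H * Gi)) := by rw [f4]; simp only [Matrix.mul_assoc]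
      _ = (ζ₂ * ζ₁⁻¹) • (T * G * Ti * Gi * H) := by
        rw [f1']
        simp only [Matrix.mul_assoc, Matrix.mul_smul, smul_smul]
  -- the scalars are all `1`
  have hcomm : ∀ h ∈ R, c * h = h * c := by
    intro h hhR
    obtain ⟨ζ, hζ⟩ := hc2 h hhR
    by_cases hζ1 : ζ = 1
    · rw [hζ1, one_smul] at hζ
      apply Units.ext
      rw [Units.val_mul, Units.val_mul, hζ]
    · exfalso
      have hinj : Function.Injective (Matrix.mulVecLin (h : M4)) := by
        intro x y hxy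
        rw [Matrix.mulVecLin_apply, Matrix.mulVecLin_apply] at hxy
        have := congrArg (fun v => ((h⁻¹ : GL (Fin 4) F) : M4) *ᵥ v) hxy
        simp only [gl_inv_act'] at this
        exact this
      rw [hc] at hζ
      exact false_of_twisted g t p a hp ht (h : M4) hinj ζ hζ1 hζ
  obtain ⟨lam, hlam⟩ := hscal c hcR hcomm
  -- a nonzero fixed vector
  have hpos : 0 < Module.finrank F W₀ := by omega
  obtain ⟨v, hv0⟩ := Module.finrank_pos_iff_exists_ne_zero.mp hpos
  have h1 := hfix v v.2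
  rw [hlam, Matrix.smul_mulVec, Matrix.one_mulVec] at h1
  have hlam1 : lam = 1 := by
    have h2 : (lam - 1) • (v : Fin 4 → F) = 0 := by rw [sub_smul, one_smul, h1, sub_self]
    rcases smul_eq_zero.mp h2 with h3 | h3
    · exact sub_eq_zero.mp h3
    · exact absurd (Subtype.ext h3) hv0
  have hc1 : c = 1 := by
    apply Units.ext
    rw [hlam, hlam1, one_smul, Units.val_one]
  have h2 : t * g * t⁻¹ = g := by
    have := congrArg (· * g) hc1
    simpa [hc] using this
  calc t * g = t * g * t⁻¹ * t := by group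
    _ = g * t := by rw [h2]

/-- `SU_4(q)` does not normalise an absolutely irreducible `r`-subgroup of `GL_4(q²)` -/
theorem su4_not_le_normalizer_pgroup (hF : Fintype.card F = q ^ 2) {r : ℕ}
    (R : Subgroup (GL (Fin 4) F)) (hrP : r.Prime) (hRp : IsPGroup r R)
    (habs : ActsAbsolutelyIrreducibly (matrixSet R)) :
    ¬ GU 4 F q ⊓ specialLinear (Fin 4) F ≤ subgroupNormalizer R := by
  classical
  intro hle
  have hscal : ∀ z ∈ R, (∀ x ∈ R, z * x = x * z) → ∃ c : F, (z : M4) = c • (1 : M4) := by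
    intro z hz hzc
    apply habs.2
    rintro s ⟨x, hx, rfl⟩
    have h1 := congrArg (fun y : GL (Fin 4) F => (y : M4)) (hzc x hx)
    simpa only [Units.val_mul] using h1
  have hna : ∃ x y : R, x * y ≠ y * x := by
    by_contra hcon
    push Not at hcon
    have hall : ∀ g ∈ R, ∃ c : F, (g : M4) = c • (1 : M4) :=
      fun g hg => hscal g hg (fun x hx => congrArg Subtype.val (hcon ⟨g, hg⟩ ⟨x, hx⟩))
    obtain ⟨c, hc⟩ := habs.2 (Matrix.single (0 : Fin 4) (1 : Fin 4) (1 : F)) (by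
      rintro s ⟨g, hg, rfl⟩
      obtain ⟨c, hc⟩ := hall g hg
      simp only [hc, Matrix.mul_smul, Matrix.smul_mul, Matrix.mul_one, Matrix.one_mul])
    have h1 := congrFun (congrFun hc (0 : Fin 4)) (1 : Fin 4)
    have hne : (0 : Fin 4) ≠ 1 := by decide
    simp [hne] at h1
  obtain ⟨g', ⟨x', hgx'⟩, hg2'⟩ := exists_second_center hrP hRp hna
  obtain ⟨g, hg⟩ : ∃ g : GL (Fin 4) F, g = (g' : GL (Fin 4) F) := ⟨_, rfl⟩
  have hgR : g ∈ R := by rw [hg]; exact g'.2
  have hg2 : ∀ h ∈ R, ∃ ζ : F, (h : M4) * (g : M4) = ζ • ((g : M4) * (h : M4)) := by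
    intro h hhR
    obtain ⟨z, hz⟩ : ∃ z : GL (Fin 4) F, z = h * g * h⁻¹ * g⁻¹ := ⟨_, rfl⟩
    have hzc : ∀ x ∈ R, z * x = x * z := by
      intro x hx
      rw [hz, hg]
      exact congrArg Subtype.val (hg2' ⟨h, hhR⟩ ⟨x, hx⟩)
    have hzR : z ∈ R := by
      rw [hz]
      exact R.mul_mem (R.mul_mem (R.mul_mem hhR hgR) (R.inv_mem hhR)) (R.inv_mem hgR)
    obtain ⟨ζ, hζ⟩ := hscal z hzR hzc
    refine ⟨ζ, ?_⟩
    have e : h * g = z * (g * h) := by rw [hz]; group
    have h1 := congrArg (fun y : GL (Fin 4) F => (y : M4)) e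
    simp only [Units.val_mul] at h1
    rw [h1, hζ, Matrix.smul_mul, Matrix.one_mul]
  -- every transvection commutes with `g`
  have hT : ∀ (p : Fin 4 → F) (a : F), hh p p = 0 → a + a ^ q = 0 →
      qrefl q p a * (g : M4) = (g : M4) * qrefl q p a := by
    intro p a hp ha
    have hti : IsIsoMat q (qrefl q p a) := qrefl_iso_skew hF p hp a ha
    obtain ⟨t, htv⟩ : ∃ t : GL (Fin 4) F, (t : M4) = qrefl q p a :=
      ⟨(hti.isUnit hF).unit, rfl⟩
    have htSU : t ∈ GU 4 F q ⊓ specialLinear (Fin 4) F :=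
      (mem_GUSL_iff t).mpr ⟨by rw [htv]; exact hti, by rw [htv, det_qrefl', hp, mul_zero, add_zero]⟩
    have htN : t ∈ Subgroup.normalizer (R : Set (GL (Fin 4) F)) := hle htSU
    have h1 := comm_of_second_center_four R hscal g hgR hg2 t htN p a hp htv
    have h2 := congrArg (fun y : GL (Fin 4) F => (y : M4)) h1
    simp only [Units.val_mul] at h2
    rw [← htv]
    exact h2
  -- every isotropic vector is an eigenvector of `g`
  have heig : ∀ z : Fin 4 → F, hh z z = 0 → ∃ c : F, (g : M4) *ᵥ z = c • z := by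
    intro z hz
    by_cases hz0 : z = 0
    · exact ⟨0, by rw [hz0, Matrix.mulVec_zero, smul_zero]⟩
    obtain ⟨s, hs0, hs⟩ := exists_skew_ne_zero hF
    obtain ⟨x, -, hxz, -⟩ := exists_isotropic_two hF (by omega) z z hz0 hz0
    have h1 := congrArg (fun M : M4 => M *ᵥ x) (hT z s hz hs)
    simp only [← Matrix.mulVec_mulVec, qrefl_mulVec] at h1
    rw [Matrix.mulVec_add, Matrix.mulVec_smul] at h1
    have h2 : (s * hh ((g : M4) *ᵥ x) z) • z = (s * hh x z) • ((g : M4) *ᵥ z) := add_left_cancel h1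
    refine ⟨(s * hh x z)⁻¹ * (s * hh ((g : M4) *ᵥ x) z), ?_⟩
    rw [mul_smul, h2, smul_smul, inv_mul_cancel₀ (mul_ne_zero hs0 hxz), one_smul]
  obtain ⟨c, hc⟩ := scalar_of_isotropic_eigen hF (by omega) (g : M4) heig
  apply hgx'
  apply Subtype.ext
  apply Units.ext
  rw [Subgroup.coe_mul, Subgroup.coe_mul, Units.val_mul, Units.val_mul, ← hg, hc, Matrix.smul_mul,
    Matrix.mul_smul, Matrix.one_mul, Matrix.mul_one]

/-- **K-SU4-C** -/
theorem su4_not_le_subgroupNormalizer (hF : Fintype.card F = q ^ 2) {r : ℕ}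
    (R : Subgroup (GL (Fin 4) F)) (hR : IsSymplecticTypeGroup r R) (habs : ActsAbsolutelyIrreducibly (matrixSet R)) :
    ¬ GU 4 F q ⊓ specialLinear (Fin 4) F ≤ subgroupNormalizer R :=
  su4_not_le_normalizer_pgroup hF R hR.prime hR.pGroup habs

end Cfsg.Agent.Lib.Helper84.SU4
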