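import Cfsg.Agent.Lib.Helper44.SpUDefs

/-!
# K-SpU2-E1 (helper84, for helper44's pack S5665): one step of the spreading of `XS M`

`w ∈ XS M`, `u` hermitian-isotropic with `f w (δ u) = 0`, `f w u ≠ 0`, and all unitary transvections in
`M`: then `u ∈ XS M`.
-/

set_option autoImplicit false
set_option linter.unusedSimpArgs false
set_option linter.unusedVariables false
set_option linter.unusedSectionVars false

namespace Cfsg.Agent.Lib.Helper84.SpU

open Matrix Cfsg.Agent.Lib.Helper18 Cfsg.Agent.Lib.Helper11.SpMax Cfsg.Agent.Lib.Helper44.SpU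

variable {F : Type*} [Field F] [Fintype F] {m : ℕ}

local notation "V" => (Fin m ⊕ Fin m → F)
local notation "ff" => Cfsg.sympForm m F
local notation "GLm" => Matrix.GeneralLinearGroup (Fin m ⊕ Fin m) F
local notation "Mat" => Matrix (Fin m ⊕ Fin m) (Fin m ⊕ Fin m) F

/-- KEYSTONE 566511 K-SpU2-E1. -/
theorem XS_step (U : SData m F) (M : Subgroup GLm) (hM : M ≤ Cfsg.spGL m F)
    (hH : ∀ (u : V) (c : F), KI U u → ut U u c ∈ M) (w u : V) (hw : w ∈ XS m M) (hu : KI U u)
    (h1 : ff w (U.δ *ᵥ u) = 0) (h2 : ff w u ≠ 0) : u ∈ XS m M := by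
  -- `ut u 1` maps `w` to `w + f(w,u) u`
  have hact : (ut U u 1).1 *ᵥ w = w + (ff w u) • u := by
    unfold ut
    rw [gl_mul_act, tg_act m (U.δ *ᵥ u) (-(1 / U.d)) w, h1, mul_zero, zero_smul, add_zero, tg_act,
      one_mul]
  have hw' : w + (ff w u) • u ∈ XS m M := by
    rw [← hact]
    exact XS_act m M hM _ (hH u 1 hu) w hw
  have hne : ff (w + (ff w u) • u) w ≠ 0 := by
    rw [sf_add_left, sf_smul_left, sf_self, zero_add, sf_swap m u w]
    intro h
    apply h2
    have h3 : ff w u * ff w u = 0 := by linear_combination -h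
    exact mul_self_eq_zero.mp h3
  have h3 := XS_hyp m M hM w (w + (ff w u) • u) hw hw' hne (-1)
  have h4 : w + (ff w u) • u + (-1 : F) • w = (ff w u) • u := by
    rw [neg_one_smul]
    abel
  rw [h4] at h3
  have h5 := XS_smul m M (ff w u)⁻¹ _ h3
  rwa [smul_smul, inv_mul_cancel₀ h2, one_smul] at h5

end Cfsg.Agent.Lib.Helper84.SpU
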