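import Cfsg.Agent.Lib.Helper44.SpUTools

/-!
# K-SpU2-E3 (helper84, for helper44's pack S5665): from the hermitian-isotropic vectors to all vectors

If all hermitian-isotropic vectors lie in `XS M` then every vector does: a non-isotropic `y` is the sum of
two isotropic vectors `y - u₂`, `u₂` with `f (y - u₂) u₂ ≠ 0`.
-/

set_option autoImplicit false
set_option linter.unusedSimpArgs false
set_option linter.unusedVariables false
set_option linter.unusedSectionVars false

namespace Cfsg.Agent.Lib.Helper84.SpU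

open Matrix Cfsg.Agent.Lib.Helper18 Cfsg.Agent.Lib.Helper11.SpMax Cfsg.Agent.Lib.Helper44.SpU

variable {F : Type*} [Field F] [Fintype F] {m : ℕ}

local notation "V" => (Fin m ⊕ Fin m → F)
local notation "ff" => Cfsg.sympForm m F
local notation "GLm" => Matrix.GeneralLinearGroup (Fin m ⊕ Fin m) F
local notation "Mat" => Matrix (Fin m ⊕ Fin m) (Fin m ⊕ Fin m) F

/-- KEYSTONE 566513 K-SpU2-E3. -/
theorem XS_all_of_KI (U : SData m F) (hm : 7 ≤ m) (M : Subgroup GLm) (hM : M ≤ Cfsg.spGL m F)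
    (hKI : ∀ u : V, KI U u → u ∈ XS m M) : ∀ y : V, y ∈ XS m M := by
  intro y
  by_cases hy : KI U y
  · exact hKI y hy
  have hn : ff y (U.δ *ᵥ y) ≠ 0 := hy
  set n : F := ff y (U.δ *ᵥ y) with hndef
  have h2 : (2 : F) ≠ 0 := U.two
  have hd : U.d ≠ 0 := U.d_ne_zero
  -- the auxiliary vector
  have ha : U.δ *ᵥ y ∉ Submodule.span F
      ((({(2 / n) • y - U.δ *ᵥ y} : Finset V)) : Set V) := by
    rw [Finset.coe_singleton]
    intro hmem
    obtain ⟨t, ht⟩ := Submodule.mem_span_singleton.mp hmem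
    have h3 : ff y (t • ((2 / n) • y - U.δ *ᵥ y)) = n := by rw [ht]
    rw [sf_smul_right, sf_sub_right, sf_smul_right, sf_self, mul_zero, zero_sub, ← hndef] at h3
    have ht1 : t = -1 := by
      have : (t + 1) * n = 0 := by linear_combination -h3
      rcases mul_eq_zero.mp this with h | h
      · linear_combination h
      · exact absurd h hn
    rw [ht1, neg_one_smul, neg_sub] at ht
    have h4 : (2 / n) • y = 0 := by
      have : U.δ *ᵥ y - (2 / n) • y = U.δ *ᵥ y := ht
      have h5 : (2 / n) • y = U.δ *ᵥ y - (U.δ *ᵥ y - (2 / n) • y) := by abel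
      rw [h5, this, sub_self]
    have hy0 : y = 0 := by
      rcases smul_eq_zero.mp h4 with h | h
      · exact absurd h (div_ne_zero h2 hn)
      · exact h
    apply hn
    rw [hndef, hy0, Matrix.mulVec_zero, sf_self]
  obtain ⟨u₂, hu₂, hS, hau⟩ := exists_KI U hm {(2 / n) • y - U.δ *ᵥ y}
    (by rw [Finset.card_singleton]; omega) (U.δ *ᵥ y) ha
  have hS' := hS _ (Finset.mem_singleton_self _)
  rw [sf_sub_left, sf_smul_left, hau] at hS'
  -- `f y (δ u₂) = n / 2`
  have h6 : ff y (U.δ *ᵥ u₂) = n / 2 := by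
    have : 2 / n * ff y (U.δ *ᵥ u₂) = 1 := by linear_combination hS'
    field_simp at this ⊢
    linear_combination this
  -- `f y u₂ = -1/d`
  have h7 : ff y u₂ ≠ 0 := by
    intro h
    rw [U.ff_δδ, h, mul_zero, neg_zero] at hau
    exact zero_ne_one hau
  -- `y - u₂` is isotropic
  have h8 : KI U (y - u₂) := by
    unfold KI
    rw [Matrix.mulVec_sub, sf_sub_left, sf_sub_right, sf_sub_right, ← hndef, h6,
      U.ff_δ_symm u₂ y, h6]
    have : ff u₂ (U.δ *ᵥ u₂) = 0 := hu₂
    rw [this]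
    field_simp
    ring
  have h9 : ff (y - u₂) u₂ ≠ 0 := by
    rw [sf_sub_left, sf_self, sub_zero]
    exact h7
  have h10 := XS_hyp m M hM u₂ (y - u₂) (hKI u₂ hu₂) (hKI _ h8) h9 1
  rwa [one_smul, sub_add_cancel] at h10

end Cfsg.Agent.Lib.Helper84.SpU
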