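import Mathlib
import Cfsg.Prelude.Def_LieExceptional

/-!
# K-StO pack (S2547), abstract leaf A5: a (B,N)-pair restricts to a normal subgroup `H` with `H T = G`
-/

set_option autoImplicit false
set_option linter.unusedSectionVars false
set_option linter.unusedVariables false

namespace Cfsg.Agent.Lib.Helper84.StO

open Cfsg

section A5

variable {G : Type*} [Group G] (P : Cfsg.BNPair G) (H : Subgroup G) [H.Normal]

/-- `T = B ⊓ N` is normalised by `N` -/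
theorem a5_T_conj (n : G) (hn : n ∈ P.N) (t : G) (ht : t ∈ P.B ⊓ P.N) :
    n * t * n⁻¹ ∈ P.B ⊓ P.N :=
  ⟨P.conj_mem n hn t ht, P.N.mul_mem (P.N.mul_mem hn ht.2) (P.N.inv_mem hn)⟩

theorem a5_T_conj' (n : G) (hn : n ∈ P.N) (t : G) (ht : t ∈ P.B ⊓ P.N) :
    n⁻¹ * t * n ∈ P.B ⊓ P.N := by
  have := a5_T_conj P n⁻¹ (P.N.inv_mem hn) t ht
  rwa [inv_inv] at this

theorem a5_N_le_normalizer : P.N ≤ Subgroup.normalizer (P.B ⊓ P.N : Subgroup G) := by
  intro n hn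
  rw [Subgroup.mem_normalizer_iff]
  intro t
  constructor
  · intro ht
    exact a5_T_conj P n hn t ht
  · intro ht
    have := a5_T_conj' P n hn _ ht
    have e : n⁻¹ * (n * t * n⁻¹) * n = t := by group
    rwa [e] at this

/-- every element is `h * t` -/
theorem a5_dec (hHT : H ⊔ (P.B ⊓ P.N) = ⊤) (g : G) :
    ∃ h ∈ H, ∃ t ∈ P.B ⊓ P.N, g = h * t := by
  have hg : g ∈ ((H ⊔ (P.B ⊓ P.N) : Subgroup G) : Set G) := by
    rw [hHT]; exact Subgroup.mem_top g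
  rw [Subgroup.normal_mul] at hg
  obtain ⟨h, hh, t, ht, e⟩ := Set.mem_mul.1 hg
  exact ⟨h, hh, t, ht, e.symm⟩

theorem a5_decB (hHT : H ⊔ (P.B ⊓ P.N) = ⊤) (b : G) (hb : b ∈ P.B) :
    ∃ h ∈ P.B ⊓ H, ∃ t ∈ P.B ⊓ P.N, b = h * t := by
  obtain ⟨h, hh, t, ht, e⟩ := a5_dec P H hHT b
  refine ⟨h, ⟨?_, hh⟩, t, ht, e⟩
  have : h = b * t⁻¹ := by rw [e]; group
  rw [this]
  exact P.B.mul_mem hb (P.B.inv_mem ht.1)

theorem a5_decN (hHT : H ⊔ (P.B ⊓ P.N) = ⊤) (n : G) (hn : n ∈ P.N) :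
    ∃ h ∈ P.N ⊓ H, ∃ t ∈ P.B ⊓ P.N, n = h * t := by
  obtain ⟨h, hh, t, ht, e⟩ := a5_dec P H hHT n
  refine ⟨h, ⟨?_, hh⟩, t, ht, e⟩
  have : h = n * t⁻¹ := by rw [e]; group
  rw [this]
  exact P.N.mul_mem hn (P.N.inv_mem ht.2)

/-- `A ≤ N(A ⊓ H)` for `H` normal -/
theorem a5_le_normalizer_inf (A : Subgroup G) : A ≤ Subgroup.normalizer (A ⊓ H : Subgroup G) := by
  intro a ha
  rw [Subgroup.mem_normalizer_iff]
  intro x
  constructor
  · rintro ⟨h1, h2⟩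
    exact ⟨A.mul_mem (A.mul_mem ha h1) (A.inv_mem ha), ‹H.Normal›.conj_mem x h2 a⟩
  · rintro ⟨h1, h2⟩
    have e : x = a⁻¹ * (a * x * a⁻¹) * a := by group
    rw [e]
    refine ⟨A.mul_mem (A.mul_mem (A.inv_mem ha) h1) ha, ?_⟩
    have := ‹H.Normal›.conj_mem _ h2 a⁻¹
    rwa [inv_inv] at this

/-- `H = (B ⊓ H) ⊔ (N ⊓ H)` -/
theorem a5_H_le (hHT : H ⊔ (P.B ⊓ P.N) = ⊤) : H ≤ (P.B ⊓ H) ⊔ (P.N ⊓ H) := by
  set K : Subgroup G := (P.B ⊓ H) ⊔ (P.N ⊓ H) with hK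
  have hKH : K ≤ H := sup_le inf_le_right inf_le_right
  have hTK : (P.B ⊓ P.N : Subgroup G) ≤ Subgroup.normalizer K := by
    refine le_trans ?_ (Subgroup.normalizer_inf_normalizer_le_normalizer_sup _ _)
    exact le_inf (le_trans inf_le_left (a5_le_normalizer_inf H P.B))
      (le_trans inf_le_right (a5_le_normalizer_inf H P.N))
  have hBK : P.B ≤ K ⊔ (P.B ⊓ P.N) := by
    intro b hb
    obtain ⟨h, hh, t, ht, e⟩ := a5_decB P H hHT b hb
    rw [e]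
    exact Subgroup.mul_mem_sup (Subgroup.mem_sup_left hh) ht
  have hNK : P.N ≤ K ⊔ (P.B ⊓ P.N) := by
    intro n hn
    obtain ⟨h, hh, t, ht, e⟩ := a5_decN P H hHT n hn
    rw [e]
    exact Subgroup.mul_mem_sup (Subgroup.mem_sup_right hh) ht
  have htop : K ⊔ (P.B ⊓ P.N) = ⊤ := by
    rw [eq_top_iff, ← P.sup_eq_top]
    exact sup_le hBK hNK
  intro h hh
  have hmem : h ∈ ((K ⊔ (P.B ⊓ P.N) : Subgroup G) : Set G) := by
    rw [htop]; exact Subgroup.mem_top h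
  rw [Subgroup.coe_mul_of_right_le_normalizer_left K _ hTK] at hmem
  obtain ⟨k, hk, t, ht, e⟩ := Set.mem_mul.1 hmem
  have htH : t ∈ H := by
    have : t = k⁻¹ * h := by rw [← e]; group
    rw [this]
    exact H.mul_mem (H.inv_mem (hKH hk)) hh
  rw [← e]
  exact K.mul_mem hk (Subgroup.mem_sup_left ⟨ht.1, htH⟩)

/-- transfer of a double coset decomposition to `H` -/
theorem a5_dc (hHT : H ⊔ (P.B ⊓ P.N) = ⊤) (x m b1 b2 : G) (hx : x ∈ H) (hm : m ∈ P.N)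
    (hmH : m ∈ H) (hb1 : b1 ∈ P.B) (hb2 : b2 ∈ P.B) (e : x = b1 * m * b2) :
    ∃ c1 ∈ P.B ⊓ H, ∃ c2 ∈ P.B ⊓ H, x = c1 * m * c2 := by
  obtain ⟨h1, hh1, u1, hu1, e1⟩ := a5_decB P H hHT b1 hb1
  have hu : m⁻¹ * u1 * m ∈ P.B ⊓ P.N := a5_T_conj' P m hm u1 hu1
  have e2 : x = h1 * m * (m⁻¹ * u1 * m * b2) := by rw [e, e1]; group
  refine ⟨h1, hh1, m⁻¹ * u1 * m * b2, ⟨P.B.mul_mem hu.1 hb2, ?_⟩, e2⟩
  have e3 : m⁻¹ * u1 * m * b2 = m⁻¹ * h1⁻¹ * x := by rw [e2]; group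
  rw [e3]
  exact H.mul_mem (H.mul_mem (H.inv_mem hmH) (H.inv_mem hh1.2)) hx

end A5

open Classical in
/-- **K-StO leaf A5** -/
theorem exists_bnPair_subgroupOf {G : Type*} [Group G] [Finite G] (P : Cfsg.BNPair G)
    (H : Subgroup G) [H.Normal] (hHT : H ⊔ (P.B ⊓ P.N) = ⊤) :
    ∃ P' : Cfsg.BNPair ↥H, P'.B = P.B.subgroupOf H ∧ P'.N = P.N.subgroupOf H := by
  -- the choice of `t_s`
  have hex : ∀ s : G, ∃ t : G, s ∈ P.S → (t ∈ P.B ⊓ P.N ∧ s * t ∈ H) := by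
    intro s
    obtain ⟨h, hh, t, ht, e⟩ := a5_dec P H hHT s
    refine ⟨t⁻¹, fun _ => ⟨(P.B ⊓ P.N).inv_mem ht, ?_⟩⟩
    have : s * t⁻¹ = h := by rw [e]; group
    rw [this]; exact hh
  choose τ hτ using hex
  have hτT : ∀ s ∈ P.S, τ s ∈ P.B ⊓ P.N := fun s hs => (hτ s hs).1
  have hτH : ∀ s ∈ P.S, s * τ s ∈ H := fun s hs => (hτ s hs).2
  have hSN : ∀ s ∈ P.S, s ∈ P.N := fun s hs => P.subset hs
  have hs'N : ∀ s ∈ P.S, s * τ s ∈ P.N := fun s hs => P.N.mul_mem (hSN s hs) (hτT s hs).2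
  let S' : Set ↥H := {x | ∃ s ∈ P.S, (x : G) = s * τ s}
  -- closure of `S'` lies in `N`
  have hS'N : Subgroup.closure S' ≤ P.N.subgroupOf H := by
    rw [Subgroup.closure_le]
    rintro x ⟨s, hs, e⟩
    change (x : G) ∈ P.N
    rw [e]; exact hs'N s hs
  refine ⟨{ B := P.B.subgroupOf H
            N := P.N.subgroupOf H
            S := S'
            sup_eq_top := ?_
            conj_mem := ?_
            subset := ?_
            sq_mem := ?_
            inj := ?_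
            closure_sup := ?_
            mul_mem_union := ?_
            conj_ne := ?_ }, rfl, rfl⟩
  · -- sup_eq_top
    rw [← Subgroup.inf_subgroupOf_right P.B H, ← Subgroup.inf_subgroupOf_right P.N H,
      ← Subgroup.subgroupOf_sup inf_le_right inf_le_right, Subgroup.subgroupOf_eq_top]
    exact a5_H_le P H hHT
  · -- conj_mem
    intro n hn t ht
    exact P.conj_mem (n : G) hn (t : G) ⟨ht.1, ht.2⟩
  · -- subset
    rintro x ⟨s, hs, e⟩
    change (x : G) ∈ P.N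
    rw [e]; exact hs'N s hs
  · -- sq_mem
    rintro x ⟨s, hs, e⟩
    change ((x * x : ↥H) : G) ∈ P.B
    rw [Subgroup.coe_mul, e]
    have h1 : s⁻¹ * τ s * s ∈ P.B ⊓ P.N := a5_T_conj' P s (hSN s hs) _ (hτT s hs)
    have e2 : s * τ s * (s * τ s) = s * s * (s⁻¹ * τ s * s) * τ s := by group
    rw [e2]
    exact P.B.mul_mem (P.B.mul_mem (P.sq_mem s hs) h1.1) (hτT s hs).1
  · -- inj
    rintro x ⟨s, hs, e⟩ y ⟨s', hs', e'⟩ hxy
    have hxy' : ((x⁻¹ * y : ↥H) : G) ∈ P.B := hxy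
    rw [Subgroup.coe_mul, Subgroup.coe_inv, e, e'] at hxy'
    have e2 : s⁻¹ * s' = τ s * ((s * τ s)⁻¹ * (s' * τ s')) * (τ s')⁻¹ := by group
    have : s⁻¹ * s' ∈ P.B := by
      rw [e2]
      exact P.B.mul_mem (P.B.mul_mem (hτT s hs).1 hxy') (P.B.inv_mem (hτT s' hs').1)
    have hss : s = s' := P.inj s hs s' hs' this
    apply Subtype.ext
    rw [e, e', hss]
  · -- closure_sup
    apply le_antisymm
    · exact sup_le hS'N inf_le_right
    · intro n hn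
      have hnN : (n : G) ∈ P.N := hn
      -- the subgroup `C` of `G`
      set C : Subgroup G := (Subgroup.closure S').map H.subtype with hC
      have hCN : C ≤ P.N := by
        rintro _ ⟨k, hk, rfl⟩
        exact hS'N hk
      have hCnorm : C ≤ Subgroup.normalizer (P.B ⊓ P.N : Subgroup G) :=
        le_trans hCN (a5_N_le_normalizer P)
      have hSC : P.S ⊆ ((C ⊔ (P.B ⊓ P.N) : Subgroup G) : Set G) := by
        intro s hs
        have e : s = (s * τ s) * (τ s)⁻¹ := by group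
        rw [e]
        refine Subgroup.mul_mem_sup ?_ ((P.B ⊓ P.N).inv_mem (hτT s hs))
        refine ⟨⟨s * τ s, hτH s hs⟩, Subgroup.subset_closure ⟨s, hs, rfl⟩, rfl⟩
      have hNle : P.N ≤ C ⊔ (P.B ⊓ P.N) := by
        have h0 : Subgroup.closure P.S ⊔ (P.B ⊓ P.N) ≤ C ⊔ (P.B ⊓ P.N) :=
          sup_le ((Subgroup.closure_le _).2 hSC) le_sup_right
        rwa [P.closure_sup] at h0
      have hmem : (n : G) ∈ ((C ⊔ (P.B ⊓ P.N) : Subgroup G) : Set G) := hNle hnN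
      rw [Subgroup.coe_mul_of_left_le_normalizer_right C _ hCnorm] at hmem
      obtain ⟨k, hk, t, ht, e⟩ := Set.mem_mul.1 hmem
      obtain ⟨k', hk', rfl⟩ := hk
      have htH : t ∈ H := by
        have : t = (k' : G)⁻¹ * (n : G) := by rw [← e]; simp
        rw [this]
        exact H.mul_mem (H.inv_mem k'.2) n.2
      have en : n = k' * ⟨t, htH⟩ := Subtype.ext e.symm
      rw [en]
      exact Subgroup.mul_mem_sup hk' ⟨ht.1, ht.2⟩
  · -- mul_mem_union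
    rintro x ⟨s, hs, e⟩ n hn b hb
    have hnN : (n : G) ∈ P.N := hn
    have hbB : (b : G) ∈ P.B := hb
    have hx0 : ((x * b * n : ↥H) : G) = s * (τ s * b) * n := by
      rw [Subgroup.coe_mul, Subgroup.coe_mul, e]; group
    have key := P.mul_mem_union s hs (n : G) hnN (τ s * b) (P.B.mul_mem (hτT s hs).1 hbB)
    rw [← hx0] at key
    rcases key with key | key
    · left
      obtain ⟨b1, hb1, b2, hb2, e1⟩ := DoubleCoset.mem_doubleCoset.1 key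
      have hu : (n : G)⁻¹ * (τ s)⁻¹ * n ∈ P.B ⊓ P.N :=
        a5_T_conj' P n hnN _ ((P.B ⊓ P.N).inv_mem (hτT s hs))
      have e2 : ((x * b * n : ↥H) : G) =
          b1 * ((x : G) * n) * ((n : G)⁻¹ * (τ s)⁻¹ * n * b2) := by
        rw [e1, e]; group
      obtain ⟨c1, hc1, c2, hc2, e3⟩ := a5_dc P H hHT _ ((x : G) * n) b1 _ (x * b * n).2
        (P.N.mul_mem (by rw [e]; exact hs'N s hs) hnN) (H.mul_mem x.2 n.2) hb1
        (P.B.mul_mem hu.1 hb2) e2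
      refine DoubleCoset.mem_doubleCoset.2 ⟨⟨c1, hc1.2⟩, hc1.1, ⟨c2, hc2.2⟩, hc2.1, ?_⟩
      exact Subtype.ext e3
    · right
      obtain ⟨b1, hb1, b2, hb2, e1⟩ := DoubleCoset.mem_doubleCoset.1 key
      obtain ⟨c1, hc1, c2, hc2, e3⟩ := a5_dc P H hHT _ (n : G) b1 b2 (x * b * n).2
        hnN n.2 hb1 hb2 e1
      refine DoubleCoset.mem_doubleCoset.2 ⟨⟨c1, hc1.2⟩, hc1.1, ⟨c2, hc2.2⟩, hc2.1, ?_⟩
      exact Subtype.ext e3
  · -- conj_ne
    rintro x ⟨s, hs, e⟩ heq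
    apply P.conj_ne s hs
    have hsub : (fun b : G => s * b * s) '' (P.B : Set G) ⊆ (P.B : Set G) := by
      rintro _ ⟨b, hb, rfl⟩
      obtain ⟨h, hh, u, hu, eb⟩ := a5_decB P H hHT b hb
      -- `h' = τ⁻¹ h τ`
      have hh' : (τ s)⁻¹ * h * τ s ∈ P.B ⊓ H := by
        refine ⟨P.B.mul_mem (P.B.mul_mem (P.B.inv_mem (hτT s hs).1) hh.1) (hτT s hs).1, ?_⟩
        have := ‹H.Normal›.conj_mem h hh.2 (τ s)⁻¹
        rwa [inv_inv] at this
      -- `x h' x ∈ B ⊓ H`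
      have h1 : (x : G) * ((τ s)⁻¹ * h * τ s) * x ∈ P.B := by
        have hmem : (x * ⟨(τ s)⁻¹ * h * τ s, hh'.2⟩ * x : ↥H) ∈
            ((P.B.subgroupOf H : Subgroup ↥H) : Set ↥H) := by
          rw [← heq]
          exact ⟨⟨(τ s)⁻¹ * h * τ s, hh'.2⟩, hh'.1, rfl⟩
        exact hmem
      have hxN : (x : G) ∈ P.N := by rw [e]; exact hs'N s hs
      have h2 : (x : G)⁻¹ * ((τ s)⁻¹ * u) * x ∈ P.B ⊓ P.N :=
        a5_T_conj' P x hxN _ ((P.B ⊓ P.N).mul_mem ((P.B ⊓ P.N).inv_mem (hτT s hs)) hu)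
      have e2 : s * b * s = ((x : G) * ((τ s)⁻¹ * h * τ s) * x) *
          ((x : G)⁻¹ * ((τ s)⁻¹ * u) * x) * (τ s)⁻¹ := by
        rw [eb, e]; group
      change s * b * s ∈ P.B
      rw [e2]
      exact P.B.mul_mem (P.B.mul_mem h1 h2.1) (P.B.inv_mem (hτT s hs).1)
    have hinj : Function.Injective (fun b : G => s * b * s) := by
      intro a b hab
      have : s * a * s = s * b * s := hab
      exact mul_left_cancel (mul_right_cancel this)
    have hfin : (P.B : Set G).Finite := Set.toFinite _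
    refine Set.eq_of_subset_of_ncard_le hsub ?_ hfin
    rw [Set.ncard_image_of_injective _ hinj]

end Cfsg.Agent.Lib.Helper84.StO
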