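import Mathlib
import Cfsg.Prelude.Def_Blocks
import Cfsg.Agent.S0906
import Cfsg.Agent.S0964
import Cfsg.Agent.S0966
import Cfsg.Agent.S0970
import Cfsg.Agent.Lib.Helper22.BlockRegular
import Cfsg.Agent.Lib.Helper82.BlockBasic
import Cfsg.Agent.Lib.Helper82.CharBasic
import Cfsg.Agent.Lib.Helper83.Constituent
import Cfsg.Agent.Lib.Helper83.Linear
import Cfsg.Agent.Lib.Helper83.Quotient
import Cfsg.Agent.Lib.Helper85.Clifford
import Cfsg.Agent.Lib.Helper85.CliffordCorr

/-!
# An invariant block of a normal subgroup of `p`-power index has an invariant character of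
height zero

Let `N ⊴ L` with `L/N` a `p`-group and `b` an `L`-invariant block of `N`.  By Fong's theorem
(S0970) the unique block `B` of `L` covering `b` satisfies `d(B) = d(b) + ν_p |L : N|`, so the
minimal `p`-parts of the degrees in `B` and in `b` agree; Clifford's theorem then forces a
constituent of a height-zero character of `B` to be `L`-invariant of height zero.
-/

set_option autoImplicit false

namespace Cfsg.Agent.Lib.Helper84

open Cfsg
open scoped ComplexConjugate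

universe u

theorem exists_invariant_height_zero {L : Type u} [Group L] [Fintype L] (p : ℕ) [Fact p.Prime]
    (M : Ideal AlgInt) (hM : IsPModular p M) (N : Subgroup L) [hN : N.Normal] [Fintype N]
    (hidx : ∃ k : ℕ, N.index = p ^ k) (b : Set (IrrCharacter N)) (hb : IsPBlock M b)
    (hinv : ∀ g : L, ∀ θ ∈ b, ∀ θ' : IrrCharacter N,
      (∀ n : N, (θ' : N → ℂ) n = (θ : N → ℂ) ⟨g * n * g⁻¹, hN.conj_mem n n.2 g⟩) → θ' ∈ b) :
    ∃ θ ∈ b, blockHeight p b (θ : N → ℂ) = 0 ∧
      ∀ (g : L) (n : N), (θ : N → ℂ) ⟨g * n * g⁻¹, hN.conj_mem n n.2 g⟩ = (θ : N → ℂ) n := by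
  classical
  have hp : p.Prime := Fact.out
  have hMprime : M.IsPrime := hM.2.1.isPrime
  have : Fintype (IrrCharacter L) := Fintype.ofFinite _
  obtain ⟨θ₀, hbeq⟩ := hb
  have hb' : IsPBlock M b := ⟨θ₀, hbeq⟩
  have hθ₀b : θ₀ ∈ b := by
    rw [hbeq]; exact Cfsg.Agent.Lib.Helper82.mem_blockOf_self hMprime θ₀
  obtain ⟨χ₀, hχ₀⟩ := Cfsg.Agent.Lib.Helper22.exists_irr_over N θ₀
  set B : Set (IrrCharacter L) := blockOf M (χ₀ : L → ℂ) with hBdef
  have hB : IsPBlock M B := ⟨χ₀, rfl⟩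
  have hχ₀B : χ₀ ∈ B := Cfsg.Agent.Lib.Helper82.mem_blockOf_self hMprime χ₀
  have hcov : ∃ χ ∈ B, ∃ θ ∈ b,
      classInner (fun n : N => (χ : L → ℂ) n) (θ : N → ℂ) ≠ 0 :=
    ⟨χ₀, hχ₀B, θ₀, hθ₀b, hχ₀⟩
  obtain ⟨B₁, -, huniq⟩ := Cfsg.Agent.S0966.result p M hM N hidx b hb'
  have hBB₁ : B = B₁ := huniq B ⟨hB, hcov⟩
  have hmax : ∀ B' : Set (IrrCharacter L), IsPBlock M B' →
      (∃ χ ∈ B', ∃ θ ∈ b, classInner (fun n : N => (χ : L → ℂ) n) (θ : N → ℂ) ≠ 0) →
      blockDefect p B' ≤ blockDefect p B := by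
    intro B' hB' hcov'
    rw [huniq B' ⟨hB', hcov'⟩, ← hBB₁]
  obtain ⟨g₀, hg₀⟩ := Cfsg.Agent.S0906.result p M hM B hB
  obtain ⟨P⟩ : Nonempty (Sylow p (Subgroup.centralizer ({g₀} : Set L))) := inferInstance
  have hP : IsDefectGroup p M B ((P : Subgroup (Subgroup.centralizer ({g₀} : Set L))).map
      (Subgroup.centralizer ({g₀} : Set L)).subtype) := ⟨g₀, hg₀, P, rfl⟩
  obtain ⟨-, -, hdef⟩ := Cfsg.Agent.S0970.result p M hM N b hb' hinv B hB hcov hmax _ hP
  -- the least `p`-exponents of degrees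
  set sB : ℕ := sInf ((fun χ : IrrCharacter L => (charDegree (χ : L → ℂ)).factorization p) '' B)
    with hsB
  set sb : ℕ := sInf ((fun θ : IrrCharacter N => (charDegree (θ : N → ℂ)).factorization p) '' b)
    with hsb
  have hdvdL : ∀ χ : IrrCharacter L, (charDegree (χ : L → ℂ)).factorization p ≤
      (Nat.card L).factorization p := fun χ =>
    (Nat.factorization_le_iff_dvd (Cfsg.Agent.Lib.Helper83.irr_charDegree_pos χ).ne'
      Nat.card_pos.ne').mpr (Cfsg.Agent.Lib.Helper83.irr_charDegree_dvd_card χ) p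
  have hdvdN : ∀ θ : IrrCharacter N, (charDegree (θ : N → ℂ)).factorization p ≤
      (Nat.card N).factorization p := fun θ =>
    (Nat.factorization_le_iff_dvd (Cfsg.Agent.Lib.Helper83.irr_charDegree_pos θ).ne'
      Nat.card_pos.ne').mpr (Cfsg.Agent.Lib.Helper83.irr_charDegree_dvd_card θ) p
  have hsB_le : sB ≤ (Nat.card L).factorization p :=
    (Nat.sInf_le (Set.mem_image_of_mem _ hχ₀B)).trans (hdvdL χ₀)
  have hsb_le : sb ≤ (Nat.card N).factorization p :=
    (Nat.sInf_le (Set.mem_image_of_mem _ hθ₀b)).trans (hdvdN θ₀)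
  have hcardL : (Nat.card L).factorization p =
      (Nat.card N).factorization p + N.index.factorization p := by
    rw [← N.card_mul_index, Nat.factorization_mul Nat.card_pos.ne'
      (Subgroup.index_ne_zero_of_finite), Finsupp.add_apply]
  have hs : sB = sb := by
    unfold blockDefect at hdef
    rw [← hsB, ← hsb] at hdef
    omega
  -- a character of `B` of least `p`-exponent
  have hneB : ((fun χ : IrrCharacter L => (charDegree (χ : L → ℂ)).factorization p) '' B).Nonempty :=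
    ⟨_, χ₀, hχ₀B, rfl⟩
  obtain ⟨χ, hχB, hχs⟩ := Nat.sInf_mem hneB
  have hχs' : (charDegree (χ : L → ℂ)).factorization p = sB := hχs
  -- a constituent of its restriction
  have hχc := Cfsg.Agent.Lib.Helper83.IrrCharacter_isCharacter χ
  obtain ⟨θ, hθ⟩ := Cfsg.Agent.Lib.Helper83.exists_constituent
    (Cfsg.Agent.Lib.Helper83.isCharacter_restrict N hχc)
    (by
      have h1 := Cfsg.Agent.Lib.Helper82.IsIrrCharacter.apply_one_ne_zero χ.2
      simpa using h1)
  have hθb : θ ∈ b := by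
    obtain ⟨g, θ', hθ', hconj⟩ := Cfsg.Agent.S0964.result p M hM N B hB b hb' χ₀ hχ₀B θ₀ hθ₀b hχ₀
      χ hχB θ hθ
    exact hinv g θ' hθ' θ hconj
  have hθs : sb ≤ (charDegree (θ : N → ℂ)).factorization p := Nat.sInf_le (Set.mem_image_of_mem _ hθb)
  -- Clifford: degrees
  obtain ⟨m, hm⟩ := Cfsg.Agent.Lib.Helper83.classInner_char_nat
    (Cfsg.Agent.Lib.Helper83.isCharacter_restrict N hχc)
    (Cfsg.Agent.Lib.Helper83.IrrCharacter_isCharacter θ)
  have hm0 : m ≠ 0 := by
    rintro rfl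
    apply hθ
    rw [hm, Nat.cast_zero]
  have hcl := Cfsg.Agent.Lib.Helper85.clifford_finset hN χ.2 θ.2 hθ
  have hcl1 := congrFun hcl 1
  simp only [Pi.smul_apply, Finset.sum_apply, smul_eq_mul] at hcl1
  have hconj1 : ∀ ψ ∈ Finset.univ.image
      (fun g : L => Cfsg.Agent.Lib.Helper85.conjFun hN (θ : N → ℂ) g),
      ψ 1 = (θ : N → ℂ) 1 := by
    intro ψ hψ
    rw [Finset.mem_image] at hψ
    obtain ⟨g, -, rfl⟩ := hψ
    rw [Cfsg.Agent.Lib.Helper85.conjFun_apply]
    have h1 : (⟨g * ((1 : N) : L) * g⁻¹, hN.conj_mem (1 : N) (1 : N).2 g⟩ : N) = 1 :=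
      Subtype.ext (by simp)
    rw [h1]
  rw [Finset.sum_congr rfl hconj1, Finset.sum_const, nsmul_eq_mul,
    Cfsg.Agent.Lib.Helper85.card_conj_orbit_eq_index hN, hm] at hcl1
  set t : ℕ := (Cfsg.Agent.Lib.Helper85.conjStab hN (θ : N → ℂ)).index with ht
  have hdeg : charDegree (χ : L → ℂ) = m * (t * charDegree (θ : N → ℂ)) := by
    apply Nat.cast_injective (R := ℂ)
    rw [Cfsg.Agent.Lib.Helper83.charDegree_cast hχc]
    push_cast
    rw [Cfsg.Agent.Lib.Helper83.charDegree_cast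
      (Cfsg.Agent.Lib.Helper83.IrrCharacter_isCharacter θ)]
    simpa using hcl1
  -- `t` is a power of `p`
  have hNle : N ≤ Cfsg.Agent.Lib.Helper85.conjStab hN (θ : N → ℂ) :=
    Cfsg.Agent.Lib.Helper85.le_conjStab hN
      (Cfsg.Agent.Lib.Helper83.char_isClassFunction
        (Cfsg.Agent.Lib.Helper83.IrrCharacter_isCharacter θ))
  obtain ⟨k, hk⟩ := hidx
  have htdvd : t ∣ p ^ k := by
    rw [← hk]; exact Subgroup.index_dvd_of_le hNle
  obtain ⟨j, -, hj⟩ := (Nat.dvd_prime_pow hp).mp htdvd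
  have hθpos := Cfsg.Agent.Lib.Helper83.irr_charDegree_pos θ
  have hfac : (charDegree (χ : L → ℂ)).factorization p =
      m.factorization p + (j + (charDegree (θ : N → ℂ)).factorization p) := by
    rw [hdeg, hj, Nat.factorization_mul hm0 (Nat.mul_ne_zero (pow_ne_zero _ hp.ne_zero) hθpos.ne'),
      Finsupp.add_apply, Nat.factorization_mul (pow_ne_zero _ hp.ne_zero) hθpos.ne',
      Finsupp.add_apply, hp.factorization_pow, Finsupp.single_eq_same]
  have hj0 : j = 0 := by omega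
  have hθs' : (charDegree (θ : N → ℂ)).factorization p = sb := by omega
  refine ⟨θ, hθb, ?_, ?_⟩
  · unfold blockHeight
    rw [← hsb, hθs', Nat.sub_self]
  · have ht1 : t = 1 := by rw [hj, hj0, pow_zero]
    have htop : Cfsg.Agent.Lib.Helper85.conjStab hN (θ : N → ℂ) = ⊤ :=
      Subgroup.index_eq_one.mp ht1
    intro g n
    have hg : g ∈ Cfsg.Agent.Lib.Helper85.conjStab hN (θ : N → ℂ) := by
      rw [htop]; exact Subgroup.mem_top g
    rw [Cfsg.Agent.Lib.Helper85.mem_conjStab] at hg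
    have := congrFun hg n
    rwa [Cfsg.Agent.Lib.Helper85.conjFun_apply] at this

end Cfsg.Agent.Lib.Helper84
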