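import Mathlib
import Cfsg.Agent.Lib.Helper62.Small120

/-!
# S2929 leaf K-SylAlt-P4: a perfect permutation group acts trivially on invariant sets of size `≤ 4`
-/

set_option autoImplicit false

namespace Cfsg.Agent.Lib.Helper84.SylAlt

open Equiv Equiv.Perm

/-- The derived series of a perfect group is constantly `⊤`. -/
theorem derivedSeries_eq_top_of_perfect {P : Type*} [Group P] (hP : commutator P = ⊤) (n : ℕ) :
    derivedSeries P n = ⊤ := by
  induction n with
  | zero => rfl
  | succ n ih =>
    rw [derivedSeries_succ, ih]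
    exact hP

/-- A homomorphism from a perfect group to a solvable group is trivial. -/
theorem hom_eq_one_of_perfect_of_solvable {P S : Type*} [Group P] [Group S]
    (hP : commutator P = ⊤) [hS : Group.IsSolvable S] (f : P →* S) (x : P) : f x = 1 := by
  obtain ⟨n, hn⟩ := hS.solvable
  have h1 := map_derivedSeries_le_derivedSeries f n
  rw [derivedSeries_eq_top_of_perfect hP n, hn] at h1
  have h2 : f x ∈ (⊤ : Subgroup P).map f := ⟨x, Subgroup.mem_top x, rfl⟩
  exact (Subgroup.mem_bot).mp (h1 h2)

section Perm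
variable {α : Type*} [Fintype α] [DecidableEq α]

/-- **K-SylAlt-P4.** A perfect permutation group acts trivially on every invariant set with at most 4
points. -/
theorem fix_of_perfect_of_ncard_le_four (K : Subgroup (Perm α)) (hK : ⁅K, K⁆ = K) (Δ : Set α)
    (hΔ : ∀ k ∈ K, ∀ x ∈ Δ, k x ∈ Δ) (hcard : Δ.ncard ≤ 4) : ∀ k ∈ K, ∀ x ∈ Δ, k x = x := by
  classical
  have hiff : ∀ k ∈ K, ∀ x, k x ∈ Δ ↔ x ∈ Δ := by
    intro k hk x
    refine ⟨fun h => ?_, hΔ k hk x⟩
    have := hΔ k⁻¹ (K.inv_mem hk) (k x) h
    simpa using this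
  -- the restriction homomorphism
  let φ : ↥K →* Perm ↥Δ :=
    { toFun := fun k => Perm.subtypePerm (k : Perm α) (fun x => hiff k k.2 x)
      map_one' := by
        ext x
        rfl
      map_mul' := by
        intro a b
        ext x
        rfl }
  -- `K` is perfect
  have hperf : commutator ↥K = ⊤ := by
    have h1 : (commutator ↥K).map K.subtype = (⊤ : Subgroup ↥K).map K.subtype := by
      rw [Subgroup.map_subtype_commutator, hK, ← MonoidHom.range_eq_map, Subgroup.range_subtype]
    exact Subgroup.map_injective K.subtype_injective h1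
  -- `Perm Δ` is solvable
  have hsolv : Group.IsSolvable (Perm ↥Δ) := by
    have hc : Nat.card (Perm ↥Δ) < 60 := by
      rw [Nat.card_perm, Nat.card_coe_set_eq]
      calc (Δ.ncard).factorial ≤ (4).factorial := Nat.factorial_le hcard
        _ < 60 := by decide
    exact Cfsg.Agent.Lib.Helper62.Small120.solvable_of_card_lt_sixty _ hc (Perm ↥Δ) rfl
  intro k hk x hx
  have h1 := hom_eq_one_of_perfect_of_solvable hperf φ ⟨k, hk⟩
  have h2 : (φ ⟨k, hk⟩) ⟨x, hx⟩ = ⟨x, hx⟩ := by rw [h1]; rfl
  exact congrArg Subtype.val h2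

end Perm

end Cfsg.Agent.Lib.Helper84.SylAlt
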