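import Mathlib
import Cfsg.Prelude.Def_BrauerPairs
import Cfsg.Agent.S0887
import Cfsg.Agent.Lib.Helper80.IndDegree
import Cfsg.Agent.Lib.Helper82.Fong
import Cfsg.Agent.Lib.Helper83.Quotient
import Cfsg.Agent.Lib.Helper83.Abelian
import Cfsg.Agent.Lib.Helper04.RelSylSurj
import Cfsg.Agent.Lib.Helper04.CoprimeDegree
import Cfsg.Agent.Lib.Helper85.Ramification
import Cfsg.Agent.Lib.Helper21.Osima
import Cfsg.Agent.Lib.Helper81.BPBase
import Cfsg.Agent.Lib.Helper82.CharBasic

/-!
# Tools for Brauer pairs carrying a weight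

* `factorization_constituent_ge`: `ν_p(χ(1)) ≤ ν_p(ϑ(1)) + ν_p |X : N|` for a constituent `ϑ` of
  the restriction of `χ` to the normal subgroup `N`.
* `isIrrCharacter_comp_of_cover`: a character of `L` with the normal subgroup `N` in its kernel
  restricts irreducibly along any homomorphism `K → L` whose image covers `L` modulo `N`.
* `exists_constituent_mem_of_blockCoeff`: if the idempotent of the block `F` of `T` is the
  idempotent of the set `e` of characters of the subgroup `K ≤ T`, every member of `F` has a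
  constituent in `e`.
-/

set_option autoImplicit false
set_option linter.unusedSectionVars false
set_option linter.style.haveILetI false

namespace Cfsg.Agent.Lib.Helper84

open Cfsg
open scoped ComplexConjugate

universe u

theorem factorization_constituent_ge {X : Type u} [Group X] [Fintype X] (p : ℕ)
    (N : Subgroup X) [N.Normal] [Fintype N] (χ : IrrCharacter X) (ϑ : IrrCharacter N)
    (hcon : classInner (fun n : N => (χ : X → ℂ) n) (ϑ : N → ℂ) ≠ 0) :
    (charDegree (χ : X → ℂ)).factorization p ≤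
      (charDegree (ϑ : N → ℂ)).factorization p + N.index.factorization p := by
  obtain ⟨c, hc0, hc1, -, hc2⟩ := Cfsg.Agent.Lib.Helper04.exists_nat_degree χ
  obtain ⟨d, hd0, hd1, -, hd2⟩ := Cfsg.Agent.Lib.Helper04.exists_nat_degree ϑ
  obtain ⟨hdc, hcd⟩ := Cfsg.Agent.S0887.result N (χ : X → ℂ) χ.2 (ϑ : N → ℂ) ϑ.2 hcon c d hc1 hd1
  rw [hc2, hd2]
  have hq0 : c / d ≠ 0 := by
    intro h
    have := Nat.div_mul_cancel hdc
    rw [h, zero_mul] at this
    omega
  have hi0 : N.index ≠ 0 := Subgroup.index_ne_zero_of_finite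
  have h1 : c = d * (c / d) := (Nat.mul_div_cancel' hdc).symm
  have h2 : c.factorization p = d.factorization p + (c / d).factorization p := by
    conv_lhs => rw [h1]
    rw [Nat.factorization_mul hd0.ne' hq0, Finsupp.add_apply]
  have h3 : (c / d).factorization p ≤ N.index.factorization p :=
    (Nat.factorization_le_iff_dvd hq0 hi0).2 hcd p
  omega

theorem isIrrCharacter_comp_of_cover {L K : Type u} [Group L] [Finite L] [Group K] [Finite K]
    (N : Subgroup L) [N.Normal] (ι : K →* L)
    (hcov : ∀ l : L, ∃ n ∈ N, ∃ k : K, l = n * ι k)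
    (ϑ : IrrCharacter L) (hker : ∀ n ∈ N, (ϑ : L → ℂ) n = (ϑ : L → ℂ) 1) :
    IsIrrCharacter K (fun k => (ϑ : L → ℂ) (ι k)) := by
  have hsurj : Function.Surjective (QuotientGroup.mk' N) := QuotientGroup.mk'_surjective N
  obtain ⟨β, hβ⟩ := Cfsg.Agent.Lib.Helper04.exists_irr_of_surjective (QuotientGroup.mk' N) hsurj ϑ
    (fun a ha => hker a (by
      have : a ∈ (QuotientGroup.mk' N).ker := ha
      rwa [QuotientGroup.ker_mk'] at this))
  have hfun : (fun k => (ϑ : L → ℂ) (ι k)) =
      fun k => (β : L ⧸ N → ℂ) (((QuotientGroup.mk' N).comp ι) k) := by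
    funext k
    exact (hβ (ι k)).symm
  rw [hfun]
  apply Cfsg.Agent.Lib.Helper85.isIrrCharacter_comp_surjective _ _ β.2
  intro y
  obtain ⟨l, rfl⟩ := hsurj y
  obtain ⟨n, hn, k, rfl⟩ := hcov l
  refine ⟨k, ?_⟩
  show (QuotientGroup.mk' N) (ι k) = (QuotientGroup.mk' N) (n * ι k)
  rw [map_mul]
  have : (QuotientGroup.mk' N) n = 1 := by
    rw [← MonoidHom.mem_ker, QuotientGroup.ker_mk']
    exact hn
  rw [this, one_mul]

open Cfsg.Agent.Lib.Helper21 Cfsg.Agent.Lib.Helper83 in
theorem exists_constituent_mem_of_blockCoeff {G : Type u} [Group G] [Fintype G]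
    (K T : Subgroup G) (hKT : K ≤ T) [Fintype K] [Fintype T]
    (F : Set (IrrCharacter T)) (e : Set (IrrCharacter K))
    (hFe : ∀ t : T, blockCoeff F t = subgroupBlockCoeff K e (t : G))
    (χ : IrrCharacter T) (hχ : χ ∈ F) :
    ∃ θ ∈ e, classInner (fun k : K => (χ : T → ℂ) ⟨(k : G), hKT k.2⟩) (θ : K → ℂ) ≠ 0 := by
  classical
  haveI : Finite (IrrCharacter K) := irr_finite
  haveI : Fintype (IrrCharacter K) := Fintype.ofFinite _
  haveI : Finite (IrrCharacter T) := irr_finite
  haveI : Fintype (IrrCharacter T) := Fintype.ofFinite _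
  by_contra hno
  push Not at hno
  have h1 : omega (blockCoeff F) (χ : T → ℂ) = 1 := by rw [omega_blockCoeff, if_pos hχ]
  unfold omega at h1
  have hχ1 : (χ : T → ℂ) 1 ≠ 0 := Cfsg.Agent.Lib.Helper82.IsIrrCharacter.apply_one_ne_zero χ.2
  rw [div_eq_one_iff_eq hχ1] at h1
  set r : K → ℂ := fun k => (χ : T → ℂ) ⟨(k : G), hKT k.2⟩ with hr
  let j : K ↪ T := ⟨fun k => ⟨(k : G), hKT k.2⟩, fun a b h => Subtype.ext (by
    have := congrArg (fun t : T => (t : G)) h
    exact this)⟩
  have h2 : ∑ t : T, blockCoeff F t * (χ : T → ℂ) t = ∑ k : K, blockCoeff e k * r k := by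
    have ha : ∑ k : K, blockCoeff e k * r k =
        ∑ k : K, (fun t : T => blockCoeff F t * (χ : T → ℂ) t) (j k) := by
      refine Finset.sum_congr rfl fun k _ => ?_
      show _ = blockCoeff F (j k) * (χ : T → ℂ) (j k)
      rw [hFe (j k)]
      have : ((j k : T) : G) ∈ K := k.2
      rw [Cfsg.Agent.Lib.Helper81.sbc_of_mem K e this]
      rfl
    rw [ha, ← Finset.sum_map Finset.univ j (fun t : T => blockCoeff F t * (χ : T → ℂ) t)]
    symm
    apply Finset.sum_subset (Finset.subset_univ _)
    intro t _ ht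
    have htK : (t : G) ∉ K := by
      intro h
      apply ht
      rw [Finset.mem_map]
      exact ⟨⟨(t : G), h⟩, Finset.mem_univ _, Subtype.ext rfl⟩
    rw [hFe t, Cfsg.Agent.Lib.Helper81.sbc_of_not_mem K e htK, zero_mul]
  have hcf : IsClassFunction K r := by
    intro k y
    show (χ : T → ℂ) _ = (χ : T → ℂ) _
    have := isClassFunction_irr χ (⟨(k : G), hKT k.2⟩ : T) (⟨(y : G), hKT y.2⟩ : T)
    convert this using 2
    exact Subtype.ext rfl
  have hdec := classFunction_eq_sum_irr hcf
  have h3 : ∀ k : K, r k = ∑ θ : IrrCharacter K, classInner r (θ : K → ℂ) * (θ : K → ℂ) k := by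
    intro k
    have := congrFun hdec k
    simp only [Finset.sum_apply, Pi.smul_apply, smul_eq_mul] at this
    exact this
  have h4 : ∑ k : K, blockCoeff e k * r k = 0 := by
    calc ∑ k : K, blockCoeff e k * r k
        = ∑ k : K, ∑ θ : IrrCharacter K, classInner r (θ : K → ℂ) *
            (blockCoeff e k * (θ : K → ℂ) k) := by
          refine Finset.sum_congr rfl fun k _ => ?_
          rw [h3 k, Finset.mul_sum]
          refine Finset.sum_congr rfl fun θ _ => ?_
          ring
      _ = ∑ θ : IrrCharacter K, classInner r (θ : K → ℂ) *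
            ∑ k : K, blockCoeff e k * (θ : K → ℂ) k := by
          rw [Finset.sum_comm]
          refine Finset.sum_congr rfl fun θ _ => ?_
          rw [Finset.mul_sum]
      _ = 0 := by
          refine Finset.sum_eq_zero fun θ _ => ?_
          have h5 := omega_blockCoeff e θ
          unfold omega at h5
          have hθ1 : (θ : K → ℂ) 1 ≠ 0 := Cfsg.Agent.Lib.Helper82.IsIrrCharacter.apply_one_ne_zero θ.2
          rw [div_eq_iff hθ1] at h5
          rw [h5]
          split_ifs with h
          · rw [hno θ h, zero_mul]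
          · rw [zero_mul, mul_zero]
  rw [h2, h4] at h1
  exact hχ1 h1.symm

open Cfsg.Agent.Lib.Helper83 in
/-- Properties of the constituents of the restriction to a normal subgroup `S ⊇ Q` of a
character `χ` with `Q` in its kernel and of defect zero modulo `Q`. -/
theorem constituent_props {X : Type u} [Group X] [Fintype X] (p : ℕ)
    (Qx S : Subgroup X) [S.Normal] [Fintype S] (χ : IrrCharacter X)
    (hker : ∀ q ∈ Qx, (χ : X → ℂ) q = (χ : X → ℂ) 1)
    (hdeg : (charDegree (χ : X → ℂ)).factorization p + (Nat.card Qx).factorization p =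
      (Nat.card X).factorization p)
    (ϑ : IrrCharacter S)
    (hcon : classInner (fun n : S => (χ : X → ℂ) n) (ϑ : S → ℂ) ≠ 0) :
    (∀ l : S, (l : X) ∈ Qx → (ϑ : S → ℂ) l = (ϑ : S → ℂ) 1) ∧
      (Nat.card S).factorization p ≤
        (charDegree (ϑ : S → ℂ)).factorization p + (Nat.card Qx).factorization p := by
  constructor
  · intro l hl
    have hφ : IsCharacter S (fun n : S => (χ : X → ℂ) n) :=
      isCharacter_restrict S (IrrCharacter_isCharacter χ)
    exact Cfsg.Agent.Lib.Helper80.constituent_ker hφ ϑ.2 hcon (l := l) (hker (l : X) hl)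
  · have h1 := factorization_constituent_ge p S χ ϑ hcon
    have h2 : (Nat.card X).factorization p =
        (Nat.card S).factorization p + S.index.factorization p := by
      rw [← Subgroup.card_mul_index S, Nat.factorization_mul Nat.card_pos.ne'
        Subgroup.index_ne_zero_of_finite, Finsupp.add_apply]
    omega

open Cfsg.Agent.Lib.Helper83 in
/-- `ϑ(1)² ≤ |X : N|` for an irreducible character with the normal subgroup `N` in its kernel. -/
theorem charDegree_sq_le_index {X : Type u} [Group X] [Finite X] (N : Subgroup X) [N.Normal]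
    (ϑ : IrrCharacter X) (hker : ∀ n ∈ N, (ϑ : X → ℂ) n = (ϑ : X → ℂ) 1) :
    charDegree (ϑ : X → ℂ) ^ 2 ≤ N.index := by
  classical
  haveI : Fintype (X ⧸ N) := Fintype.ofFinite _
  haveI : Finite (IrrCharacter (X ⧸ N)) := irr_finite
  haveI : Fintype (IrrCharacter (X ⧸ N)) := Fintype.ofFinite _
  have hsurj : Function.Surjective (QuotientGroup.mk' N) := QuotientGroup.mk'_surjective N
  obtain ⟨β, hβ⟩ := Cfsg.Agent.Lib.Helper04.exists_irr_of_surjective (QuotientGroup.mk' N) hsurj ϑ
    (fun a ha => hker a (by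
      have : a ∈ (QuotientGroup.mk' N).ker := ha
      rwa [QuotientGroup.ker_mk'] at this))
  have h1 : charDegree (β : X ⧸ N → ℂ) = charDegree (ϑ : X → ℂ) := by
    unfold charDegree
    have := hβ 1
    rw [map_one] at this
    rw [this]
  have h2 := sum_charDegree_sq (G := X ⧸ N)
  have h3 : charDegree (β : X ⧸ N → ℂ) ^ 2 ≤
      ∑ χ : IrrCharacter (X ⧸ N), (charDegree (χ : X ⧸ N → ℂ)) ^ 2 :=
    Finset.single_le_sum (f := fun χ : IrrCharacter (X ⧸ N) => (charDegree (χ : X ⧸ N → ℂ)) ^ 2)
      (fun _ _ => Nat.zero_le _) (Finset.mem_univ β)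
  rw [h2, h1] at h3
  rw [Subgroup.index_eq_card]
  exact h3

open Cfsg.Agent.Lib.Helper83 in
/-- A constituent of the pull-back of a class function `f` of `L` along `ι : K → L` lies under
some irreducible constituent of `f`. -/
theorem exists_over_of_comp {L K : Type u} [Group L] [Fintype L] [Group K] [Fintype K]
    (ι : K →* L) {f : L → ℂ} (hf : IsClassFunction L f) (θ₀ : K → ℂ)
    (h : classInner (fun k => f (ι k)) θ₀ ≠ 0) :
    ∃ ϑ : IrrCharacter L, classInner f (ϑ : L → ℂ) ≠ 0 ∧
      classInner (fun k => (ϑ : L → ℂ) (ι k)) θ₀ ≠ 0 := by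
  classical
  haveI : Finite (IrrCharacter L) := irr_finite
  haveI : Fintype (IrrCharacter L) := Fintype.ofFinite _
  by_contra hno
  push Not at hno
  apply h
  have hdec := classFunction_eq_sum_irr hf
  have h1 : (fun k => f (ι k)) = ∑ ϑ : IrrCharacter L,
      classInner f (ϑ : L → ℂ) • (fun k => (ϑ : L → ℂ) (ι k)) := by
    funext k
    have := congrFun hdec (ι k)
    simp only [Finset.sum_apply, Pi.smul_apply, smul_eq_mul] at this ⊢
    exact this
  rw [h1, classInner_sum_left]
  refine Finset.sum_eq_zero fun ϑ _ => ?_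
  rw [classInner_smul_left]
  by_cases h0 : classInner f (ϑ : L → ℂ) = 0
  · rw [h0, zero_mul]
  · rw [hno ϑ h0, mul_zero]

end Cfsg.Agent.Lib.Helper84
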